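import Cfsg.Agent.Solvable.Fitting
import Cfsg.Agent.DGroup.Fusion
import Mathlib.GroupTheory.Abelianization.Defs
import Mathlib.GroupTheory.FiniteAbelian.Duality
import Mathlib.RingTheory.RootsOfUnity.AlgebraicallyClosed
import Mathlib.Analysis.Complex.Polynomial.Basic

/-!
# An automorphism centralising a Sylow subgroup of a solvable group fixes the characters trivial on
the `p'`-core; existence of such characters
-/

set_option autoImplicit false
set_option linter.style.haveILetI false

namespace CfsgLib.GW.Eight.BadLin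

open Subgroup

universe u

/-- The image of a normal `p'`-subgroup under a surjection lies in the `p'`-core. -/
theorem map_le_pPrimeCore {D M : Type*} [Group D] [Finite D] [Group M] {f : D →* M}
    (hf : Function.Surjective f) {p : ℕ} {A : Subgroup D} (hA : A.Normal)
    (hc : (Nat.card A).Coprime p) : A.map f ≤ Cfsg.pPrimeCore p M :=
  CfsgLib.Solvable.le_pPrimeCore p (hA.map f hf) (hc.of_dvd_left (card_map_dvd A f))

/-- An automorphism fixing a Sylow `p`-subgroup pointwise fixes every homomorphism into a commutative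
group which is trivial on the `p'`-core. -/
theorem map_eq_of_fix_sylow {E A : Type*} [Group E] [Finite E] [CommGroup A] (hE : Group.IsSolvable E)
    {p : ℕ} [Fact p.Prime] (α : E ≃* E) (T : Sylow p E) (hT : ∀ x ∈ (T : Subgroup E), α x = x)
    (l : E →* A) (hl : Cfsg.pPrimeCore p E ≤ l.ker) (g : E) : l (α g) = l g := by
  haveI := hE
  set O := Cfsg.pPrimeCore p E with hO
  have hαO : ∀ x ∈ O, α x ∈ O := by
    intro x hx
    exact CfsgLib.Solvable.le_pPrimeCore p
      ((CfsgLib.Solvable.pPrimeCore_normal (G := E) p).map α.toMonoidHom α.surjective)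
      ((CfsgLib.Solvable.coprime_card_pPrimeCore (G := E) p).of_dvd_left (card_map_dvd _ _))
      ⟨x, hx, rfl⟩
  let f := QuotientGroup.mk' O
  have hf : Function.Surjective f := QuotientGroup.mk'_surjective O
  haveI : Group.IsSolvable (E ⧸ O) := Group.isSolvable_of_surjective hf
  have hC := CfsgLib.Fitting.centralizer_pCore_le (G := E ⧸ O) (p := p)
    (CfsgLib.Fitting.pPrimeCore_quotient_eq_bot p)
  have hFT := CfsgLib.Fitting.pCore_le_sylow (T.mapSurjective hf)
  -- the discrepancy is a `p`-element modulo the core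
  have key : ∀ x : E, ∃ k, l (x⁻¹ * α x) ^ p ^ k = 1 := by
    intro x
    have hy : f (x⁻¹ * α x) ∈ centralizer (Cfsg.pCore p (E ⧸ O) : Set (E ⧸ O)) := by
      refine mem_centralizer_iff.2 fun a ha => ?_
      obtain ⟨w, hw, rfl⟩ := hFT ha
      obtain ⟨w', hw', e⟩ := hFT
        ((CfsgLib.Solvable.pCore_normal (G := E ⧸ O) p).conj_mem _ ha (f x))
      rw [← map_inv, ← map_mul, ← map_mul] at e
      have ho : w'⁻¹ * (x * w * x⁻¹) ∈ O := (QuotientGroup.eq).1 e
      have hαo : w'⁻¹ * (α x * w * (α x)⁻¹) ∈ O := by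
        have h := hαO _ ho
        rwa [map_mul, map_mul, map_mul, map_inv, map_inv, hT w hw, hT w' hw'] at h
      have e' : f (α x * w * (α x)⁻¹) = f (x * w * x⁻¹) :=
        ((QuotientGroup.eq).2 hαo).symm.trans e
      simp only [map_mul, map_inv] at e' ⊢
      calc f w * ((f x)⁻¹ * f (α x)) = (f x)⁻¹ * (f x * f w * (f x)⁻¹) * f (α x) := by group
        _ = (f x)⁻¹ * (f (α x) * f w * (f (α x))⁻¹) * f (α x) := by rw [e']
        _ = (f x)⁻¹ * f (α x) * f w := by group
    obtain ⟨k, hk⟩ := CfsgLib.Solvable.isPGroup_pCore (G := E ⧸ O) p ⟨_, hC hy⟩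
    refine ⟨k, ?_⟩
    have h : (x⁻¹ * α x) ^ p ^ k ∈ O := by
      have h1 := congrArg Subtype.val hk
      simp only [SubmonoidClass.coe_pow, Subgroup.coe_one] at h1
      rwa [← map_pow, QuotientGroup.mk'_apply, QuotientGroup.eq_one_iff] at h1
    rw [← map_pow]; exact hl h
  let h : E →* A :=
    { toFun := fun x => (l x)⁻¹ * l (α x)
      map_one' := by simp
      map_mul' := fun x y => by simp only [map_mul, mul_inv_rev]; ac_rfl }
  obtain ⟨k, hk⟩ := key g
  rw [map_mul, map_inv] at hk
  have hTk : (T : Subgroup E) ≤ h.ker := fun x hx => by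
    show (l x)⁻¹ * l (α x) = 1
    rw [hT x hx, inv_mul_cancel]
  have hidx : ¬ p ∣ h.ker.index := fun hd =>
    T.not_dvd_index (hd.trans (index_dvd_of_le hTk))
  have hpow : ((l g)⁻¹ * l (α g)) ^ h.ker.index = 1 := by
    have := h.ker.pow_index_mem g
    rw [MonoidHom.mem_ker, map_pow] at this
    exact this
  have h1 : (l g)⁻¹ * l (α g) = 1 := orderOf_eq_one_iff.1 (Nat.eq_one_of_dvd_coprimes
    (((Fact.out : p.Prime).coprime_iff_not_dvd.2 hidx).pow_left k)
    (orderOf_dvd_of_pow_eq_one hk) (orderOf_dvd_of_pow_eq_one hpow))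
  exact (inv_mul_eq_one.1 h1).symm

/-- A solvable group which is not a `p'`-group has a nontrivial linear character trivial on the
`p'`-core. -/
theorem exists_char {M : Type u} [Group M] [Finite M] (hM : Group.IsSolvable M) {p : ℕ} [Fact p.Prime]
    (hp : p ∣ Nat.card M) :
    ∃ l : M →* ℂˣ, l ≠ 1 ∧ Cfsg.pPrimeCore p M ≤ l.ker := by
  haveI := hM
  haveI := CfsgLib.Solvable.pPrimeCore_normal (G := M) p
  let f := QuotientGroup.mk' (Cfsg.pPrimeCore p M)
  have hf : Function.Surjective f := QuotientGroup.mk'_surjective _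
  haveI : Group.IsSolvable (M ⧸ Cfsg.pPrimeCore p M) := Group.isSolvable_of_surjective hf
  haveI : Nontrivial (M ⧸ Cfsg.pPrimeCore p M) := by
    rw [QuotientGroup.nontrivial_iff]
    intro h
    have h1 := CfsgLib.Solvable.coprime_card_pPrimeCore (G := M) p
    rw [h, card_top] at h1
    exact ((Fact.out : p.Prime).coprime_iff_not_dvd.1 h1.symm) hp
  obtain ⟨a, ha⟩ : ∃ a : M ⧸ Cfsg.pPrimeCore p M, a ∉ commutator (M ⧸ Cfsg.pPrimeCore p M) := by
    by_contra h
    push Not at h
    exact (Group.IsSolvable.commutator_lt_top_of_nontrivial (G := M ⧸ Cfsg.pPrimeCore p M)).ne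
      (eq_top_iff.2 fun x _ => h x)
  have ha1 : Abelianization.of a ≠ 1 := fun h => ha (by rwa [← Abelianization.ker_of, MonoidHom.mem_ker])
  haveI : NeZero ((Monoid.exponent (Abelianization (M ⧸ Cfsg.pPrimeCore p M)) : ℕ) : ℂ) :=
    ⟨Nat.cast_ne_zero.2 (Monoid.exponent_ne_zero_of_finite)⟩
  obtain ⟨φ, hφ⟩ := CommGroup.exists_apply_ne_one_of_hasEnoughRootsOfUnity
    (Abelianization (M ⧸ Cfsg.pPrimeCore p M)) ℂ ha1
  obtain ⟨b, rfl⟩ := hf a
  refine ⟨φ.comp (Abelianization.of.comp f), fun h => hφ (DFunLike.congr_fun h b), fun x hx => ?_⟩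
  have hx1 : f x = 1 := (QuotientGroup.eq_one_iff x).2 hx
  simp [MonoidHom.mem_ker, hx1]

end CfsgLib.GW.Eight.BadLin
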