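import Cfsg.Agent.GW.Eight.Bad
import Cfsg.Agent.GW.Eight.BadLinChar

/-!
# Gorenstein–Walter, `|S| = 8`: an invariant Sylow subgroup centralised by `t` lies in `U0`

Otherwise `U / U0` has a linear character trivial on its `p'`-core. It kills the image of
`D1 ∩ [U, t]` under an element cycling `V1`, and it is fixed on `D2` by a cycle of `V2` centralising
`R ∩ D2`. The theorem on linear characters is a hypothesis here.
-/

set_option autoImplicit false
set_option linter.style.haveILetI false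
set_option linter.unusedSectionVars false

namespace CfsgLib.GW.Eight

open Subgroup CfsgLib.DihPrincipal CfsgLib.GW
open CfsgLib.NormCyclic (Inv)
open CfsgLib.DGroup (coreIn Op conj_mem conj_mem' odd_orderOf eq_one_of_inv_eq)
open CfsgLib.GW.CaseI (exists_pow_of_isPGroup mem_invGen exists_split not_dvd_invGen)

universe u

variable {G : Type u} [Group G] [Fintype G] [Fact (Nat.Prime 2)]

/-- What is used from the theorem on linear characters: no character of `U` trivial on `U0` is fixed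
on `D2` by a cycle of `V2` and carried by a cycle of `V1` to one trivial on `D1 ∩ [U, t]`. -/
def NoLinear (G : Type u) [Group G] [Fintype G] [Fact (Nat.Prime 2)] : Prop :=
  ∀ E : Ctx G, E.n = 3 → IsCoatom E.H → E.D1 ≠ ⊥ → E.D2 ≠ ⊥ → ∀ l : ↥E.U →* ℂˣ, l ≠ 1 →
    (∀ x : ↥E.U, (x : G) ∈ E.U0 → l x = 1) →
    (∃ r : G, r * E.z * r⁻¹ = E.s * E.t ∧ r * (E.s * E.t) * r⁻¹ = E.z * (E.s * E.t) ∧
      ∀ x y : ↥E.U, (x : G) ∈ E.D2 → r * x * r⁻¹ = y → l y = l x) →
    (∃ r : G, r * E.z * r⁻¹ = E.t ∧ r * E.t * r⁻¹ = E.z * E.t ∧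
      ∀ x y : ↥E.U, (x : G) ∈ E.D1 → (x : G) ∈ E.U1 → r * x * r⁻¹ = y → l y = 1) → False

namespace Ctx

variable (C : Ctx G)
include C

theorem mem_normalizer_D1_of_cycle {r : G} (h1 : r * C.z * r⁻¹ = C.t)
    (h3 : r * (C.z * C.t) * r⁻¹ = C.z) : r ∈ normalizer (C.D1 : Set G) := by
  refine mem_normalizer_iff_map_conj_eq.2 (eq_of_le_of_card_ge ?_
    (card_map_of_injective (MulAut.conj r).injective).ge)
  rintro _ ⟨x, hx, rfl⟩
  exact C.conj_mem_D1 h1 h3 hx

/-- An element normalising `P` is `u p` with `u ∈ U` centralising `P`. -/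
theorem exists_mul_of_mem_normalizer_P {e : G} (he : e ∈ normalizer ((C.P : Subgroup G) : Set G)) :
    ∃ u ∈ C.U, (∀ w ∈ (C.P : Subgroup G), Commute u w) ∧ ∃ p ∈ (C.P : Subgroup G), e = u * p := by
  have hzP : C.z ∈ (C.P : Subgroup G) := pow_mem C.data.σ_mem _
  set w := e * C.z * e⁻¹ with hw
  have hwP : w ∈ (C.P : Subgroup G) := conj_mem he hzP
  have hwc : ∀ x ∈ (C.P : Subgroup G), Commute w x := fun x hx => by
    have h1 : Commute C.z (e⁻¹ * x * e) := (C.mem_H.1 (C.P_le_H (conj_mem' he hx))).symm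
    have h2 := (Commute.conj_iff e).2 h1
    rwa [show e * (e⁻¹ * x * e) * e⁻¹ = x by group, ← hw] at h2
  have hwV : w ∈ C.V1 := CfsgLib.GW.Eight.CaseII.commute_t_of_mem_P C hwP (hwc _ C.data.τ_mem)
  have hts : ¬ Commute C.t C.s := fun h => by
    have h2 := C.data.rel
    rw [h.eq, mul_inv_cancel_right] at h2
    have h3 := orderOf_dvd_of_pow_eq_one (show C.s ^ 2 = 1 by
      rw [pow_two, mul_eq_one_iff_eq_inv]; exact h2)
    rw [C.data.ordσ] at h3
    have h4 := Nat.le_of_dvd two_pos h3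
    have h5 : 2 ^ 2 ≤ 2 ^ (C.n - 1) :=
      Nat.pow_le_pow_right two_pos (by have := C.data.hn; omega)
    omega
  have hwz : w = C.z := by
    rcases C.mem_V1.1 hwV with h | h | h | h
    · exact absurd (conj_eq_one_iff.1 (hw ▸ h)) C.inv_z.2
    · exact h
    · exact absurd (h ▸ hwc _ C.data.σ_mem) hts
    · refine absurd ?_ hts
      have hzs : Commute C.z C.s := (C.mem_H.1 C.s_mem_H).symm
      have h1 := hzs.mul_left (h ▸ hwc _ C.data.σ_mem)
      rwa [← mul_assoc, C.inv_z.1, one_mul] at h1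
  obtain ⟨u, hu, p, hp, hup⟩ := C.exists_mul_P (C.mem_H.2 (mul_inv_eq_iff_eq_mul.1 (hw ▸ hwz)))
  refine ⟨u, hu, fun x hx => ?_, p, hp, hup⟩
  have hun : u ∈ normalizer ((C.P : Subgroup G) : Set G) := by
    rw [show u = e * p⁻¹ by rw [hup, mul_inv_cancel_right]]
    exact mul_mem he (le_normalizer (inv_mem hp))
  set k := u * x * u⁻¹ * x⁻¹ with hk
  have hkP : k ∈ (C.P : Subgroup G) := mul_mem (conj_mem hun hx) (inv_mem hx)
  have hkU : k ∈ C.U := by
    rw [show k = u * (x * u⁻¹ * x⁻¹) by rw [hk]; group]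
    exact mul_mem hu (conj_mem (C.H_le_normalizer_U (C.P_le_H hx)) (inv_mem hu))
  obtain ⟨j, hj⟩ := exists_pow_of_isPGroup C.P.isPGroup' hkP
  have hk1 : k = 1 := orderOf_eq_one_iff.1 (Nat.eq_one_of_dvd_coprimes
    ((Nat.coprime_two_left.2 (odd_orderOf C.odd_U hkU)).pow_left j)
    (orderOf_dvd_of_pow_eq_one hj) dvd_rfl)
  exact mul_inv_eq_iff_eq_mul.1 (mul_inv_eq_one.1 hk1)

section Eight

variable (hn : C.n = 3)
include hn

/-- For an invariant Sylow subgroup centralised by `t` some cycle of `V2` centralises `R ∩ D2`, which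
is a Sylow subgroup of `D2`. -/
theorem exists_cycle_centralizer {p : ℕ} [Fact p.Prime] {R : Subgroup G} (hR : C.SylowU p R)
    (hRt : ∀ x ∈ R, Commute x C.t) :
    ¬ p ∣ (R ⊓ C.D2).relIndex C.D2 ∧
      ∃ c : G, c * C.z * c⁻¹ = C.s * C.t ∧ c * (C.s * C.t) * c⁻¹ = C.z * (C.s * C.t) ∧
        c * (C.z * (C.s * C.t)) * c⁻¹ = C.z ∧ ∀ x ∈ R ⊓ C.D2, Commute c x := by
  have hA : zpowers (C.s * C.t) ≤ normalizer (C.U : Set G) := zpowers_le.2 C.st_norm_U
  have hcop : (Nat.card (zpowers (C.s * C.t))).Coprime (Nat.card C.U) := by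
    rw [Nat.card_zpowers, C.inv_st.orderOf]; exact Nat.coprime_two_left.2 C.odd_U
  have hsol : Group.IsSolvable (zpowers (C.s * C.t)) :=
    Group.isSolvable_of_comm fun a b => Subtype.ext (by
      obtain ⟨i, hi⟩ := mem_zpowers_iff.1 a.2
      obtain ⟨j, hj⟩ := mem_zpowers_iff.1 b.2
      simp only [Subgroup.coe_mul, ← hi, ← hj, ← zpow_add, add_comm])
  have hidx : ¬ p ∣ (R ⊓ C.D2).relIndex C.D2 := by
    obtain ⟨S⟩ : Nonempty (Sylow p C.D2) := inferInstance
    obtain ⟨T', hT'1, hT'2⟩ := CfsgLib.CoprimeAct.exists_invariant_sylow_ge hA hcop (Or.inl hsol) p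
      ((map_subtype_le (S : Subgroup C.D2)).trans inf_le_left) (S.2.map _)
      (zpowers_le.2 (centralizer_le_normalizer _ (mem_centralizer_iff.2 fun w hw => by
        obtain ⟨w', -, rfl⟩ := hw
        exact (C.mem_D2.1 w'.2).2.eq)))
    let S₂ : Sylow p C.U := (hR.isPGroup.comap_subtype (K := C.U)).toSylow hR.index
    have hm2 : (S₂ : Subgroup C.U).map C.U.subtype = R := map_subgroupOf_eq_of_le hR.le
    obtain ⟨c, hct, hc⟩ := CfsgLib.CoprimeAct.invariant_sylow_conj hA hcop (Or.inl hsol) p T' S₂ hT'2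
      (by rw [hm2, zpowers_le]; exact hR.P_le (mul_mem C.data.σ_mem C.data.τ_mem))
    have hct' : Commute (c : G) (C.s * C.t) := (mem_centralizer_iff.1 hct _ (mem_zpowers _)).symm
    have hsub : ((S : Subgroup C.D2).map C.D2.subtype).map (MulAut.conj (c : G)).toMonoidHom ≤
        R ⊓ C.D2 := by
      rintro _ ⟨w, hw, rfl⟩
      refine ⟨?_, C.mem_D2.2 ?_⟩
      · obtain ⟨w₁, hw₁, rfl⟩ := hT'1 hw
        rw [← hm2, ← hc]
        exact ⟨_, ⟨w₁, hw₁, rfl⟩, rfl⟩
      · obtain ⟨w', -, rfl⟩ := hw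
        obtain ⟨hwU, hwst⟩ := C.mem_D2.1 w'.2
        refine ⟨mul_mem (mul_mem c.2 hwU) (inv_mem c.2), ?_⟩
        have h := (Commute.conj_iff (c : G)).2 hwst
        rwa [hct'.eq, mul_inv_cancel_right] at h
    have hd := card_dvd_of_le hsub
    rw [card_map_of_injective (MulAut.conj (c : G)).injective,
      card_map_of_injective C.D2.subtype_injective] at hd
    obtain ⟨m, hm⟩ := hd
    intro h
    refine S.not_dvd_index (h.trans ⟨m, ?_⟩)
    have e1 := card_mul_index (S : Subgroup C.D2)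
    have e2 := relIndex_mul_relIndex ⊥ (R ⊓ C.D2) C.D2 bot_le inf_le_right
    rw [relIndex_bot_left, relIndex_bot_left, hm, ← e1, mul_assoc] at e2
    rw [mul_comm, ← Nat.eq_of_mul_eq_mul_left Nat.card_pos e2]
  refine ⟨hidx, ?_⟩
  set T := R ⊓ C.D2 with hT
  obtain ⟨r, h1, h2, h3, hrT⟩ := C.flip.exists_rho_normalizer
    (hR.isPGroup.to_le (inf_le_left : T ≤ R)) (inf_le_right : T ≤ C.D2) hidx
  change r * C.z * r⁻¹ = C.s * C.t at h1
  change r * (C.s * C.t) * r⁻¹ = C.z * (C.s * C.t) at h2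
  change r * (C.z * (C.s * C.t)) * r⁻¹ = C.z at h3
  -- the Sylow 2-subgroup centralises `T`
  have hPT : (C.P : Subgroup G) ≤ centralizer (T : Set G) := by
    intro g hg
    refine mem_centralizer_iff.2 fun x hx => ?_
    have hxt : Commute x C.t := hRt x hx.1
    have hxs : Commute x C.s := by
      have h := (C.mem_D2.1 hx.2).2.mul_right hxt
      rwa [mul_assoc, C.inv_t.1, mul_one] at h
    obtain ⟨i, rfl | rfl⟩ := C.exists_cases hg
    · exact (hxs.zpow_right i).eq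
    · exact ((hxs.zpow_right i).mul_right hxt).eq
  have hcn : r ∈ normalizer (centralizer (T : Set G) : Set G) :=
    CfsgLib.DGroup.mem_normalizer_centralizer hrT
  let PC : Sylow 2 (centralizer (T : Set G)) := C.P.subtype hPT
  obtain ⟨P', hP'⟩ := ((C.P.isPGroup'.map (MulAut.conj r).toMonoidHom).comap_subtype
    (K := centralizer (T : Set G))).exists_le_sylow
  obtain ⟨k, hk⟩ := MulAction.exists_smul_eq (centralizer (T : Set G)) P' PC
  set e := (k : G) * r with he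
  have heP : e ∈ normalizer ((C.P : Subgroup G) : Set G) := by
    refine mem_normalizer_iff_map_conj_eq.2 (eq_of_le_of_card_ge ?_
      (card_map_of_injective (MulAut.conj e).injective).ge)
    rintro _ ⟨x, hx, rfl⟩
    have hm : k * ⟨r * x * r⁻¹, conj_mem hcn (hPT hx)⟩ * k⁻¹ ∈ (PC : Subgroup _) := by
      rw [← hk]
      exact ⟨⟨r * x * r⁻¹, conj_mem hcn (hPT hx)⟩, hP' ⟨x, hx, rfl⟩, rfl⟩
    show (k : G) * r * x * ((k : G) * r)⁻¹ ∈ (C.P : Subgroup G)
    rw [show (k : G) * r * x * ((k : G) * r)⁻¹ = (k : G) * (r * x * r⁻¹) * (k : G)⁻¹ by group]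
    exact hm
  obtain ⟨u, hu, huP, q, hq, hup⟩ := C.exists_mul_of_mem_normalizer_P heP
  have hfix : ∀ v ∈ (C.P : Subgroup G), u⁻¹ * v * u = v := fun v hv => by
    rw [mul_assoc, (huP v hv).symm.eq, inv_mul_cancel_left]
  have hzP : C.z ∈ (C.P : Subgroup G) := pow_mem C.data.σ_mem _
  have hstP : C.s * C.t ∈ (C.P : Subgroup G) := mul_mem C.data.σ_mem C.data.τ_mem
  have e' : ∀ v : G, r * u⁻¹ * v * (r * u⁻¹)⁻¹ = r * (u⁻¹ * v * u) * r⁻¹ := fun v => by group
  refine ⟨r * u⁻¹, by rw [e', hfix _ hzP, h1], by rw [e', hfix _ hstP, h2],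
    by rw [e', hfix _ (mul_mem hzP hstP), h3], fun x hx => ?_⟩
  have hc : r * u⁻¹ = (k : G)⁻¹ * q := by
    have hr : r = (k : G)⁻¹ * (u * q) := by rw [← hup, he, inv_mul_cancel_left]
    rw [hr, (huP q hq).eq, ← mul_assoc, mul_inv_cancel_right]
  rw [hc]
  exact (mem_centralizer_iff.1 (mul_mem (inv_mem k.2) (hPT hq)) x hx).symm

/-- An invariant Sylow subgroup centralised by `t` lies in `U0`. -/
theorem le_U0_of_noLinear (hLIN : NoLinear G) (hmax : IsCoatom C.H) (hD1 : C.D1 ≠ ⊥)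
    (hD2 : C.D2 ≠ ⊥) {p : ℕ} [Fact p.Prime] {R : Subgroup G} (hR : C.SylowU p R)
    (hRt : ∀ x ∈ R, Commute x C.t) : R ≤ C.U0 := by
  by_contra hR0
  have hUn1 : C.U ≤ normalizer (C.U1 : Set G) :=
    CfsgLib.GW.CaseI.le_normalizer_invGen C.inv_t.1 C.odd_U C.t_norm_U
  have hUn2 : C.U ≤ normalizer (C.U2 : Set G) :=
    CfsgLib.GW.CaseI.le_normalizer_invGen C.inv_st.1 C.odd_U C.st_norm_U
  haveI hN : (C.U0.subgroupOf C.U).Normal :=
    (normal_subgroupOf_iff_le_normalizer C.U0_le_U).2 fun g hg => mem_normalizer_iff_map_conj_eq.2 (by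
      rw [U0, Subgroup.map_sup, mem_normalizer_iff_map_conj_eq.1 (hUn1 hg),
        mem_normalizer_iff_map_conj_eq.1 (hUn2 hg)])
  let π := QuotientGroup.mk' (C.U0.subgroupOf C.U)
  have hsolU : Group.IsSolvable C.U := CfsgLib.DGroup.solvable_of_odd C.U C.odd_U
  haveI := hsolU
  have hπ : Function.Surjective π := QuotientGroup.mk'_surjective _
  have hM : Group.IsSolvable (↥C.U ⧸ C.U0.subgroupOf C.U) := Group.isSolvable_of_surjective hπ
  have hπ1 : ∀ x : C.U, (x : G) ∈ C.U0 → π x = 1 := fun x hx => (QuotientGroup.eq_one_iff x).2 hx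
  have hpM : p ∣ Nat.card (↥C.U ⧸ C.U0.subgroupOf C.U) := by
    obtain ⟨x, hx, hx0⟩ := SetLike.not_le_iff_exists.1 hR0
    obtain ⟨j, hj⟩ := exists_pow_of_isPGroup hR.isPGroup hx
    have h1 : π ⟨x, hR.le hx⟩ ^ p ^ j = 1 := by
      rw [← map_pow, show (⟨x, hR.le hx⟩ : C.U) ^ p ^ j = 1 from Subtype.ext (by simpa using hj), map_one]
    obtain ⟨i, -, hi⟩ := (Nat.dvd_prime_pow (Fact.out : p.Prime)).1 (orderOf_dvd_of_pow_eq_one h1)
    rcases i with _ | i
    · exact absurd ((QuotientGroup.eq_one_iff _).1 (orderOf_eq_one_iff.1 (hi.trans (pow_zero p)))) hx0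
    · exact (Dvd.intro _ (pow_succ' p i).symm).trans (hi ▸ orderOf_dvd_natCard _)
  obtain ⟨l₀, hl₀, hl₀O⟩ := BadLin.exists_char hM hpM
  set l : ↥C.U →* ℂˣ := l₀.comp π with hl
  have hl1 : l ≠ 1 := fun h => hl₀ (MonoidHom.ext fun y => by
    obtain ⟨x, rfl⟩ := hπ y
    exact DFunLike.congr_fun h x)
  -- the fixed points of either reflection cover `U / U0`
  have hsurj : ∀ (D : Subgroup G) (hDU : D ≤ C.U) (b : G), b * b = 1 → b ∈ C.H →
      CfsgLib.GW.CaseI.invGen b C.U ≤ C.U0 → (∀ x ∈ C.U, Commute x b → x ∈ D) →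
      Function.Surjective (π.comp (inclusion hDU)) := by
    intro D hDU b hb hbH hle hfix y
    obtain ⟨x, rfl⟩ := hπ y
    obtain ⟨c, hc, i, hi, hcb, hib, e⟩ :=
      exists_split hb C.odd_U (C.H_le_normalizer_U hbH) x.2
    refine ⟨⟨c, hfix c hc hcb⟩, ?_⟩
    rw [show x = (⟨c, hc⟩ : C.U) * ⟨i, hi⟩ from Subtype.ext e, map_mul,
      hπ1 ⟨i, hi⟩ (hle (mem_invGen hi hib)), mul_one]
    rfl
  have hs1 := hsurj C.D1 inf_le_left C.t C.inv_t.1 C.t_mem_H le_sup_left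
    (fun x hx h => C.mem_D1.2 ⟨hx, h⟩)
  have hs2 := hsurj C.D2 inf_le_left (C.s * C.t) C.inv_st.1 C.st_mem_H le_sup_right
    (fun x hx h => C.mem_D2.2 ⟨hx, h⟩)
  refine hLIN C hn hmax hD1 hD2 l hl1 (fun x hx => by rw [hl, MonoidHom.comp_apply, hπ1 x hx, map_one])
    ?_ ?_
  · obtain ⟨hidx, c, h1, h2, h3, hcT⟩ := C.exists_cycle_centralizer hn hR hRt
    have hcD : c ∈ normalizer (C.D2 : Set G) := C.flip.mem_normalizer_D1_of_cycle h1 h3
    refine ⟨c, h1, h2, fun x y hx hxy => ?_⟩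
    let α : C.D2 ≃* C.D2 :=
      { toFun := fun w => ⟨c * w * c⁻¹, conj_mem hcD w.2⟩
        invFun := fun w => ⟨c⁻¹ * w * c, conj_mem' hcD w.2⟩
        left_inv := fun w => Subtype.ext (by group)
        right_inv := fun w => Subtype.ext (by group)
        map_mul' := fun v w => Subtype.ext (by simp only [Subgroup.coe_mul]; group) }
    let T : Sylow p C.D2 := ((hR.isPGroup.to_le (inf_le_left : R ⊓ C.D2 ≤ R)).comap_subtype
      (K := C.D2)).toSylow hidx
    have h := BadLin.map_eq_of_fix_sylow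
      (CfsgLib.DGroup.solvable_of_odd C.D2 (C.odd_U.of_dvd_nat (card_dvd_of_le inf_le_left))) α T
      (fun w hw => Subtype.ext (by
        show c * (w : G) * c⁻¹ = w
        rw [(hcT w hw).eq, mul_inv_cancel_right]))
      (l₀.comp (π.comp (inclusion (inf_le_left : C.D2 ≤ C.U))))
      (fun w hw => hl₀O (BadLin.map_le_pPrimeCore hs2 (CfsgLib.Solvable.pPrimeCore_normal p)
        (CfsgLib.Solvable.coprime_card_pPrimeCore p) ⟨w, hw, rfl⟩)) ⟨x, hx⟩
    calc l y = l₀ (π (inclusion inf_le_left (α ⟨x, hx⟩))) := by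
          rw [show inclusion (inf_le_left : C.D2 ≤ C.U) (α ⟨x, hx⟩) = y from Subtype.ext hxy]; rfl
      _ = l x := h
  · obtain ⟨r, h1, h2, h3⟩ := C.exists_rho
    have hrD := C.mem_normalizer_D1_of_cycle h1 h3
    refine ⟨r, h1, h2, fun x y hx hx1 hxy => ?_⟩
    set A := ((C.D1 ⊓ C.U1).map (MulAut.conj r).toMonoidHom).subgroupOf C.D1 with hA
    have hAn : A.Normal := by
      refine ⟨fun a ha g => ?_⟩
      obtain ⟨w, ⟨hwD, hw1⟩, hw⟩ := ha
      have hg' : r⁻¹ * (g : G) * r ∈ C.D1 := conj_mem' hrD g.2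
      refine ⟨r⁻¹ * g * r * w * (r⁻¹ * g * r)⁻¹, ⟨mul_mem (mul_mem hg' hwD) (C.D1.inv_mem hg'),
        conj_mem (hUn1 (C.D1_le_U hg')) hw1⟩, ?_⟩
      show r * (r⁻¹ * g * r * w * (r⁻¹ * g * r)⁻¹) * r⁻¹ = ((g * a * g⁻¹ : C.D1) : G)
      simp only [Subgroup.coe_mul, InvMemClass.coe_inv]
      rw [show (a : G) = r * w * r⁻¹ from hw.symm]
      group
    have hAc : (Nat.card A).Coprime p := by
      refine Nat.Coprime.of_dvd_left ?_ ((Fact.out : p.Prime).coprime_iff_not_dvd.2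
        (not_dvd_invGen C.inv_t.1 C.odd_U C.t_norm_U hR.isPGroup hR.le hR.index hRt)).symm
      have hle : (C.D1 ⊓ C.U1).map (MulAut.conj r).toMonoidHom ≤ C.D1 := by
        rintro _ ⟨w, hw, rfl⟩
        exact conj_mem hrD hw.1
      rw [hA, Nat.card_congr (subgroupOfEquivOfLe hle).toEquiv,
        card_map_of_injective (MulAut.conj r).injective]
      exact card_dvd_of_le inf_le_right
    have hyD : (y : G) ∈ C.D1 := hxy ▸ conj_mem hrD hx
    exact hl₀O (BadLin.map_le_pPrimeCore hs1 hAn hAc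
      ⟨⟨y, hyD⟩, ⟨x, ⟨hx, hx1⟩, hxy⟩, rfl⟩)

end Eight

/-- Every prime `p` with `O_p(H) ≠ 1` is good, given the theorem on linear characters and the input from
the good primes. -/
theorem good_of_Op_of_noLinear (hmax : IsCoatom C.H) (hD1 : C.D1 ≠ ⊥) (hD2 : C.D2 ≠ ⊥) {p : ℕ}
    [Fact p.Prime] (hp2 : p ≠ 2) (hO : Op p C.H ≠ ⊥)
    (hN4 : ∀ E : Ctx G, IsCoatom E.H → E.D1 ≠ ⊥ → E.D2 ≠ ⊥ → ∀ q : ℕ, q.Prime → E.Good q →
      ∀ d ∈ Op q E.H, d ∈ E.U0 → (d ∈ E.D1 ∨ d ∈ E.D2) → d = 1)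
    (hLIN : NoLinear G) : C.Good p :=
  C.good_of_Op_of_inputs hmax hD1 hD2 hp2 hO hN4
    fun E hn hmax hD1 hD2 _ _ hR hRt => E.le_U0_of_noLinear hn hLIN hmax hD1 hD2 hR hRt

end Ctx

end CfsgLib.GW.Eight
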