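import Cfsg.Agent.GW.Eight.BadLin

/-!
# Gorenstein–Walter, `|S| ≥ 8`: one reflection has no fixed points on `O(C(z))`

When every prime `q` with `O_q(H) ≠ 1` is good, the Fitting subgroup of `U0` is central and inverted by
both reflections, so `U0` is abelian and inverted, both fixed-point groups equal `C_U(P)`, and the cycles
of the four groups can be chosen centralising it. A linear character of `U` trivial on `U0` is then fixed
on both sides. The two inputs are hypotheses here.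
-/

set_option autoImplicit false
set_option linter.style.haveILetI false
set_option linter.unusedSectionVars false

namespace CfsgLib.GW.Eight

open Subgroup CfsgLib.DihPrincipal CfsgLib.GW
open CfsgLib.NormCyclic (Inv)
open CfsgLib.DGroup (coreIn Op conj_mem conj_mem' odd_orderOf eq_one_of_inv_eq)
open CfsgLib.GW.CaseI (exists_pow_of_isPGroup mem_invGen exists_split commute_of_le_inverted conj_invol_eq)

universe u

variable {G : Type u} [Group G] [Fintype G] [Fact (Nat.Prime 2)]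

/-- The theorem on linear characters, both sides fixed. -/
def NoLinearFixed (G : Type u) [Group G] [Fintype G] [Fact (Nat.Prime 2)] : Prop :=
  ∀ E : Ctx G, IsCoatom E.H → E.D1 ≠ ⊥ → E.D2 ≠ ⊥ → ∀ l : ↥E.U →* ℂˣ, l ≠ 1 →
    (∀ x : ↥E.U, (x : G) ∈ E.U0 → l x = 1) →
    (∃ r : G, r * E.z * r⁻¹ = E.s * E.t ∧ r * (E.s * E.t) * r⁻¹ = E.z * (E.s * E.t) ∧
      ∀ x y : ↥E.U, (x : G) ∈ E.D2 → r * x * r⁻¹ = y → l y = l x) →
    (∃ r : G, r * E.z * r⁻¹ = E.t ∧ r * E.t * r⁻¹ = E.z * E.t ∧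
      ∀ x y : ↥E.U, (x : G) ∈ E.D1 → r * x * r⁻¹ = y → l y = l x) → False

namespace Ctx

variable (C : Ctx G)
include C

theorem U_le_norm_U0 : C.U ≤ normalizer (C.U0 : Set G) := fun g hg => by
  have h1 : C.U ≤ normalizer (C.U1 : Set G) :=
    CfsgLib.GW.CaseI.le_normalizer_invGen C.inv_t.1 C.odd_U C.t_norm_U
  have h2 : C.U ≤ normalizer (C.U2 : Set G) :=
    CfsgLib.GW.CaseI.le_normalizer_invGen C.inv_st.1 C.odd_U C.st_norm_U
  refine mem_normalizer_iff_map_conj_eq.2 ?_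
  rw [U0, Subgroup.map_sup, mem_normalizer_iff_map_conj_eq.1 (h1 hg),
    mem_normalizer_iff_map_conj_eq.1 (h2 hg)]

/-- A reflection moves every element of `U` within its coset of `U0`. -/
theorem refl_coset {b : G} (hb : b * b = 1) (hbH : b ∈ C.H)
    (hle : CfsgLib.GW.CaseI.invGen b C.U ≤ C.U0) {x : G} (hx : x ∈ C.U) :
    x⁻¹ * (b * x * b⁻¹) ∈ C.U0 := by
  obtain ⟨c, hc, i, hi, hcb, hib, rfl⟩ := exists_split hb C.odd_U (C.H_le_normalizer_U hbH) hx
  rw [conj_invol_eq hb, CfsgLib.GW.CaseI.invol_mul hb,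
    CfsgLib.GW.CaseI.conj_eq_of_commute hb hcb, hib,
    show (c * i)⁻¹ * (c * i⁻¹) = i⁻¹ * i⁻¹ by group]
  exact mul_mem (inv_mem (hle (mem_invGen hi hib))) (inv_mem (hle (mem_invGen hi hib)))

theorem H_le_norm_U0 : C.H ≤ normalizer (C.U0 : Set G) := by
  have key : ∀ b : G, b * b = 1 → b ∈ C.H → CfsgLib.GW.CaseI.invGen b C.U ≤ C.U0 →
      b ∈ normalizer (C.U0 : Set G) := by
    intro b hb hbH hle
    refine mem_normalizer_iff_map_conj_eq.2 (eq_of_le_of_card_ge ?_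
      (card_map_of_injective (MulAut.conj b).injective).ge)
    rintro _ ⟨x, hx, rfl⟩
    have h := mul_mem hx (C.refl_coset hb hbH hle (C.U0_le_U hx))
    rwa [← mul_assoc, mul_inv_cancel, one_mul] at h
  have ht := key C.t C.inv_t.1 C.t_mem_H le_sup_left
  have hst := key (C.s * C.t) C.inv_st.1 C.st_mem_H le_sup_right
  have hs : C.s ∈ normalizer (C.U0 : Set G) := by
    have := mul_mem hst ht
    rwa [mul_assoc, C.inv_t.1, mul_one] at this
  intro h hh
  obtain ⟨u, hu, p, hp, rfl⟩ := C.exists_mul_P hh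
  refine mul_mem (C.U_le_norm_U0 hu) ?_
  obtain ⟨i, rfl | rfl⟩ := C.exists_cases hp
  · exact zpow_mem hs i
  · exact mul_mem (zpow_mem hs i) ht

/-- When N4 holds at every prime, `U0` is abelian and meets both fixed-point groups trivially. -/
theorem U0_comm_and_free
    (hfree : ∀ q : ℕ, q.Prime → ∀ d ∈ Op q C.H, d ∈ C.U0 → (d ∈ C.D1 ∨ d ∈ C.D2) → d = 1) :
    (∀ x ∈ C.U0, ∀ y ∈ C.U0, Commute x y) ∧ ∀ x ∈ C.U0, (x ∈ C.D1 ∨ x ∈ C.D2) → x = 1 := by
  have hodd0 : Odd (Nat.card C.U0) := C.odd_U.of_dvd_nat (card_dvd_of_le C.U0_le_U)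
  have hcore : coreIn C.U0 = C.U0 := le_antisymm (CfsgLib.DGroup.coreIn_le _)
    (CfsgLib.DGroup.le_coreIn le_rfl le_normalizer hodd0)
  have hX : ∀ q : ℕ, q.Prime → ∀ w ∈ Op q C.U0, ∀ a ∈ C.U0, Commute w a := by
    intro q hq
    haveI : Fact q.Prime := ⟨hq⟩
    set X := Op q C.U0 with hXdef
    have hXU0 : X ≤ C.U0 := (CfsgLib.DGroup.Op_le q C.U0).trans (CfsgLib.DGroup.coreIn_le _)
    have hXn : C.H ≤ normalizer (X : Set G) := C.H_le_norm_U0.trans
      ((CfsgLib.DGroup.normalizer_le_normalizer_coreIn C.U0).trans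
        (CfsgLib.DGroup.normalizer_le_normalizer_opIn q (coreIn C.U0)))
    have hXOp : X ≤ Op q C.H := fun x hx => by
      have h : X ≤ LocalB.opIn q (coreIn C.H) := LocalB.le_opIn (hXU0.trans C.U0_le_U)
        (CfsgLib.DGroup.isPGroup_Op q C.U0) ((CfsgLib.DGroup.coreIn_le _).trans hXn)
      exact h hx
    have hinv : ∀ b : G, b * b = 1 → b ∈ C.H →
        (∀ c ∈ C.U, Commute c b → c ∈ C.D1 ∨ c ∈ C.D2) → ∀ w ∈ X, b * w * b = w⁻¹ := by
      intro b hb hbH hfix w hw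
      obtain ⟨c, hc, i, -, hcb, hib, e⟩ :=
        exists_split hb (CfsgLib.DGroup.odd_Op q C.U0) (hXn hbH) hw
      rw [e, hfree q hq c (hXOp hc) (hXU0 hc) (hfix c (C.U0_le_U (hXU0 hc)) hcb), one_mul]
      exact hib
    have e1 := commute_of_le_inverted C.inv_t.1 C.odd_U
      ((C.U1_le_U.trans C.U_le_H).trans hXn : C.U1 ≤ normalizer (X : Set G))
      (hinv C.t C.inv_t.1 C.t_mem_H fun c hc h => Or.inl (C.mem_D1.2 ⟨hc, h⟩))
    have e2 := commute_of_le_inverted C.inv_st.1 C.odd_U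
      ((C.U2_le_U.trans C.U_le_H).trans hXn : C.U2 ≤ normalizer (X : Set G))
      (hinv _ C.inv_st.1 C.st_mem_H fun c hc h => Or.inr (C.mem_D2.2 ⟨hc, h⟩))
    intro w hw a ha
    have hle : C.U0 ≤ centralizer ({w} : Set G) := sup_le
      (fun b hb => mem_centralizer_singleton_iff.2 (e1 b hb w hw).eq)
      (fun b hb => mem_centralizer_singleton_iff.2 (e2 b hb w hw).eq)
    exact (mem_centralizer_singleton_iff.1 (hle ha) : Commute a w).symm
  have hcomm : ∀ x ∈ C.U0, ∀ y ∈ C.U0, Commute x y := by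
    intro x hx y hy
    have hfit := CfsgLib.DGroup.mem_fit_of_commute (M := C.U0) (hcore.symm ▸ hx)
      fun q hq w hw => hX q hq w hw x hx
    exact mem_centralizer_singleton_iff.1
      (CfsgLib.DGroup.fit_le_centralizer (v := y) (fun q hq w hw => hX q hq w hw y hy) hfit)
  refine ⟨hcomm, fun x hx hD => ?_⟩
  refine orderOf_eq_one_iff.1 (Nat.eq_one_iff_not_exists_prime_dvd.2 fun q hq hd => ?_)
  haveI : Fact q.Prime := ⟨hq⟩
  set y := x ^ (orderOf x / q) with hy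
  have hyo : orderOf y = q := orderOf_pow_orderOf_div (orderOf_pos x).ne' hd
  have hy0 : y ∈ C.U0 := pow_mem hx _
  have hyOp : y ∈ Op q C.H := by
    have hyq : y ∈ Op q C.U0 := CfsgLib.DGroup.mem_Op_of_commute (M := C.U0) (hcore.symm ▸ hy0)
      ⟨1, by rw [pow_one, ← hyo, pow_orderOf_eq_one]⟩ fun r hr w hw => hX r hr w hw y hy0
    exact LocalB.le_opIn (L := coreIn C.H) (((CfsgLib.DGroup.Op_le q C.U0).trans
      (CfsgLib.DGroup.coreIn_le _)).trans C.U0_le_U) (CfsgLib.DGroup.isPGroup_Op q C.U0)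
      ((CfsgLib.DGroup.coreIn_le _).trans (C.H_le_norm_U0.trans
        ((CfsgLib.DGroup.normalizer_le_normalizer_coreIn C.U0).trans
          (CfsgLib.DGroup.normalizer_le_normalizer_opIn q (coreIn C.U0))))) hyq
  have h1 := hfree q hq y hyOp hy0 (hD.imp (fun h => pow_mem h _) fun h => pow_mem h _)
  rw [h1, orderOf_one] at hyo
  exact hq.one_lt.ne hyo

/-- When N4 holds at every prime, `D1 = D2` is centralised by the Sylow 2-subgroup. -/
theorem D1_eq_D2_of_free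
    (hfree : ∀ q : ℕ, q.Prime → ∀ d ∈ Op q C.H, d ∈ C.U0 → (d ∈ C.D1 ∨ d ∈ C.D2) → d = 1) :
    C.D1 = C.D2 ∧ ∀ x ∈ C.D1, Commute C.s x := by
  obtain ⟨hcomm, hone⟩ := C.U0_comm_and_free hfree
  have hinv : ∀ b : G, b * b = 1 → b ∈ C.H →
      (∀ c ∈ C.U, Commute c b → c ∈ C.D1 ∨ c ∈ C.D2) → ∀ w ∈ C.U0, b * w * b = w⁻¹ := by
    intro b hb hbH hfix w hw
    obtain ⟨c, hc, i, -, hcb, hib, e⟩ := exists_split hb
      (C.odd_U.of_dvd_nat (card_dvd_of_le C.U0_le_U)) (C.H_le_norm_U0 hbH) hw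
    rw [e, hone c hc (hfix c (C.U0_le_U hc) hcb), one_mul]
    exact hib
  have it := hinv C.t C.inv_t.1 C.t_mem_H fun c hc h => Or.inl (C.mem_D1.2 ⟨hc, h⟩)
  have ist := hinv _ C.inv_st.1 C.st_mem_H fun c hc h => Or.inr (C.mem_D2.2 ⟨hc, h⟩)
  have hs0 : ∀ x ∈ C.U0, Commute C.s x := by
    intro x hx
    refine mul_inv_eq_iff_eq_mul.1 ?_
    calc C.s * x * C.s⁻¹ = C.s * C.t * (C.t * x * C.t) * (C.s * C.t)⁻¹ := by
          rw [mul_inv_rev, C.inv_t.inv_eq,
            show C.s * C.t * (C.t * x * C.t) * (C.t * C.s⁻¹) =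
              C.s * (C.t * C.t) * x * (C.t * C.t) * C.s⁻¹ by group, C.inv_t.1, mul_one, mul_one]
      _ = x := by rw [it x hx, conj_invol_eq C.inv_st.1, ist _ (inv_mem hx), inv_inv]
  have hs : ∀ x ∈ C.U, C.t * x * C.t = x⁻¹ → Commute C.s x := fun x hx h =>
    hs0 x (mem_sup_left (mem_invGen hx h))
  have hs' : ∀ x ∈ C.flip.U, C.flip.t * x * C.flip.t = x⁻¹ → Commute C.flip.s x := fun x hx h =>
    hs0 x (mem_sup_right (mem_invGen hx h))
  have h21 : C.D2 ≤ C.D1 := D2_le_D1_of_cen hs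
  have h12 : C.D1 ≤ C.D2 := fun x hx => by
    refine D2_le_D1_of_cen (C := C.flip) hs' (C.flip.mem_D2.2 ⟨(C.mem_D1.1 hx).1, ?_⟩)
    show Commute x (C.s * (C.s * C.t))
    rw [← mul_assoc]
    have h := (conj_D1_of_cen hs hx).2
    rw [pow_two] at h
    exact h.symm.mul_right (C.mem_D1.1 hx).2
  refine ⟨le_antisymm h12 h21, fun x hx => ?_⟩
  have h := (C.mem_D2.1 (h12 hx)).2.mul_right (C.mem_D1.1 hx).2
  rw [mul_assoc, C.inv_t.1, mul_one] at h
  exact h.symm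

/-- A cycle of `V1` can be chosen centralising `D1` when the Sylow 2-subgroup does. -/
theorem exists_cycle_centralizing (hDP : ∀ x ∈ C.D1, Commute C.s x) :
    ∃ r : G, r * C.z * r⁻¹ = C.t ∧ r * C.t * r⁻¹ = C.z * C.t ∧ ∀ x ∈ C.D1, Commute r x := by
  obtain ⟨r, h1, h2, h3⟩ := C.exists_rho
  have hrn := C.mem_normalizer_D1_of_cycle h1 h3
  have hPT : (C.P : Subgroup G) ≤ centralizer (C.D1 : Set G) := by
    intro g hg
    refine mem_centralizer_iff.2 fun x hx => ?_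
    have hxs : Commute x C.s := (hDP x hx).symm
    obtain ⟨i, rfl | rfl⟩ := C.exists_cases hg
    · exact (hxs.zpow_right i).eq
    · exact ((hxs.zpow_right i).mul_right (C.mem_D1.1 hx).2).eq
  have hcn : r ∈ normalizer (centralizer (C.D1 : Set G) : Set G) :=
    CfsgLib.DGroup.mem_normalizer_centralizer hrn
  let PC : Sylow 2 (centralizer (C.D1 : Set G)) := C.P.subtype hPT
  obtain ⟨P', hP'⟩ := ((C.P.isPGroup'.map (MulAut.conj r).toMonoidHom).comap_subtype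
    (K := centralizer (C.D1 : Set G))).exists_le_sylow
  obtain ⟨k, hk⟩ := MulAction.exists_smul_eq (centralizer (C.D1 : Set G)) P' PC
  have heP : (k : G) * r ∈ normalizer ((C.P : Subgroup G) : Set G) := by
    refine mem_normalizer_iff_map_conj_eq.2 (eq_of_le_of_card_ge ?_
      (card_map_of_injective (MulAut.conj ((k : G) * r)).injective).ge)
    rintro _ ⟨x, hx, rfl⟩
    have hm : k * ⟨r * x * r⁻¹, conj_mem hcn (hPT hx)⟩ * k⁻¹ ∈ (PC : Subgroup _) := by
      rw [← hk]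
      exact ⟨⟨r * x * r⁻¹, conj_mem hcn (hPT hx)⟩, hP' ⟨x, hx, rfl⟩, rfl⟩
    show (k : G) * r * x * ((k : G) * r)⁻¹ ∈ (C.P : Subgroup G)
    rw [show (k : G) * r * x * ((k : G) * r)⁻¹ = (k : G) * (r * x * r⁻¹) * (k : G)⁻¹ by group]
    exact hm
  obtain ⟨u, hu, huP, q, hq, hup⟩ := C.exists_mul_of_mem_normalizer_P heP
  have hfix : ∀ v ∈ (C.P : Subgroup G), u⁻¹ * v * u = v := fun v hv => by
    rw [mul_assoc, (huP v hv).symm.eq, inv_mul_cancel_left]
  have hzP : C.z ∈ (C.P : Subgroup G) := pow_mem C.data.σ_mem _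
  have e' : ∀ v : G, r * u⁻¹ * v * (r * u⁻¹)⁻¹ = r * (u⁻¹ * v * u) * r⁻¹ := fun v => by group
  refine ⟨r * u⁻¹, by rw [e', hfix _ hzP, h1], by rw [e', hfix _ C.data.τ_mem, h2], fun x hx => ?_⟩
  have hc : r * u⁻¹ = (k : G)⁻¹ * q := by
    have hr : r = (k : G)⁻¹ * (u * q) := by rw [← hup, inv_mul_cancel_left]
    rw [hr, (huP q hq).eq, ← mul_assoc, mul_inv_cancel_right]
  rw [hc]
  exact (mem_centralizer_iff.1 (mul_mem (inv_mem k.2) (hPT hq)) x hx).symm

/-- The end of the analysis over a maximal centraliser, given its two inputs. -/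
theorem result_of_inputs (hmax : IsCoatom C.H)
    (hN4 : ∀ E : Ctx G, IsCoatom E.H → E.D1 ≠ ⊥ → E.D2 ≠ ⊥ → ∀ q : ℕ, q.Prime → E.Good q →
      ∀ d ∈ Op q E.H, d ∈ E.U0 → (d ∈ E.D1 ∨ d ∈ E.D2) → d = 1)
    (hLIN : NoLinear G) (hLIN' : NoLinearFixed G) : C.D1 = ⊥ ∨ C.D2 = ⊥ := by
  by_contra h
  rw [not_or] at h
  obtain ⟨hD1, hD2⟩ := h
  have hfree : ∀ q : ℕ, q.Prime → ∀ d ∈ Op q C.H, d ∈ C.U0 → (d ∈ C.D1 ∨ d ∈ C.D2) → d = 1 := by
    intro q hq d hd hd0 hD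
    haveI : Fact q.Prime := ⟨hq⟩
    by_cases hO : Op q C.H = ⊥
    · rw [hO, mem_bot] at hd; exact hd
    have hq2 : q ≠ 2 := fun e => hO (by
      subst e
      refine (eq_bot_iff_forall _).2 fun y hy => ?_
      obtain ⟨j, hj⟩ := exists_pow_of_isPGroup (CfsgLib.DGroup.isPGroup_Op 2 C.H) hy
      exact orderOf_eq_one_iff.1 (Nat.eq_one_of_dvd_coprimes
        ((Nat.coprime_two_right.2 (odd_orderOf (CfsgLib.DGroup.odd_Op 2 C.H) hy)).pow_right j)
        dvd_rfl (orderOf_dvd_of_pow_eq_one hj)))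
    exact hN4 C hmax hD1 hD2 q hq (C.good_of_Op_of_noLinear hmax hD1 hD2 hq2 hO hN4 hLIN) d hd hd0 hD
  obtain ⟨hcomm, hone⟩ := C.U0_comm_and_free hfree
  obtain ⟨hD, hDP⟩ := C.D1_eq_D2_of_free hfree
  haveI hN : (C.U0.subgroupOf C.U).Normal :=
    (normal_subgroupOf_iff_le_normalizer C.U0_le_U).2 C.U_le_norm_U0
  let π := QuotientGroup.mk' (C.U0.subgroupOf C.U)
  have hπ : Function.Surjective π := QuotientGroup.mk'_surjective _
  haveI : Group.IsSolvable C.U := CfsgLib.DGroup.solvable_of_odd C.U C.odd_U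
  have hM : Group.IsSolvable (↥C.U ⧸ C.U0.subgroupOf C.U) := Group.isSolvable_of_surjective hπ
  obtain ⟨d, hd, hd1⟩ := (Subgroup.bot_or_exists_ne_one _).resolve_left hD1
  have hne : π ⟨d, C.D1_le_U hd⟩ ≠ 1 := fun h =>
    hd1 (hone d ((QuotientGroup.eq_one_iff (N := C.U0.subgroupOf C.U) ⟨d, C.D1_le_U hd⟩).1 h) (Or.inl hd))
  obtain ⟨p, hp, hpd⟩ := Nat.exists_prime_and_dvd (n := orderOf (π ⟨d, C.D1_le_U hd⟩))
    (fun h => hne (orderOf_eq_one_iff.1 h))
  haveI : Fact p.Prime := ⟨hp⟩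
  obtain ⟨l₀, hl₀, -⟩ := BadLin.exists_char hM (hpd.trans (orderOf_dvd_natCard _))
  have fix : ∀ (r : G) (x y : ↥C.U), Commute r (x : G) → r * x * r⁻¹ = y →
      (l₀.comp π) y = (l₀.comp π) x := fun r x y hc hxy => by
    rw [show y = x from Subtype.ext (by rw [← hxy, hc.eq, mul_inv_cancel_right])]
  refine hLIN' C hmax hD1 hD2 (l₀.comp π) (fun h => hl₀ (MonoidHom.ext fun y => by
      obtain ⟨x, rfl⟩ := hπ y
      exact DFunLike.congr_fun h x))
    (fun x hx => by rw [MonoidHom.comp_apply, show π x = 1 from (QuotientGroup.eq_one_iff x).2 hx, map_one])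
    ?_ ?_
  · obtain ⟨r, h1, h2, hc⟩ := C.flip.exists_cycle_centralizing
      (fun x hx => hDP x (hD.symm ▸ hx : x ∈ C.D1))
    exact ⟨r, h1, h2, fun x y hx => fix r x y (hc _ hx)⟩
  · obtain ⟨r, h1, h2, hc⟩ := C.exists_cycle_centralizing hDP
    exact ⟨r, h1, h2, fun x y hx => fix r x y (hc _ hx)⟩

end Ctx

end CfsgLib.GW.Eight
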