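import Cfsg.Agent.GW.Eight.Core
import Cfsg.Agent.DGroup.PPiece

/-!
# Gorenstein–Walter, `|S| ≥ 8`: `O(C(d)) ≤ D1` for an eigenvector `d` of the rotation

For `2 ^ n = 8` a prime `r` which is not good and divides `|[U, t]|` does not divide `|[U, s t]|`; if `s`
normalises `⟨d⟩` then the four group `⟨z, s t⟩` acts on `O_r(C(d))` and fixed points of `s t` there are
fixed by `z`, their inverted parts being conjugate to `r`-elements of `U` inverted by `s t`.
-/

set_option autoImplicit false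
set_option linter.style.haveILetI false
set_option linter.unusedSectionVars false

namespace CfsgLib.GW.Eight.Ctx

open Subgroup
open CfsgLib.NormCyclic (Inv)
open CfsgLib.DGroup (coreIn Op conj_mem conj_mem' odd_orderOf)
open CfsgLib.GW.CaseI (exists_pow_of_isPGroup mem_invGen exists_split)

universe u

variable {G : Type u} [Group G] [Fintype G] [Fact (Nat.Prime 2)] (C : Ctx G)
include C

/-- `Y ∩ C(v) ≤ C(z)` when `v = g z g⁻¹` and no `r`-element of `U` is inverted by `g⁻¹ z g`. -/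
theorem commute_z_of_commute {r : ℕ} {Y : Subgroup G} (hY : IsPGroup r Y)
    (hodd : Odd (Nat.card Y)) (hzY : C.z ∈ normalizer (Y : Set G)) {g v : G}
    (hgv : g * C.z * g⁻¹ = v) (hcomm : Commute C.z v)
    (hno : ∀ i ∈ C.U, (∃ k, i ^ r ^ k = 1) →
      g⁻¹ * C.z * g * i * (g⁻¹ * C.z * g) = i⁻¹ → i = 1)
    {y : G} (hy : y ∈ Y) (hyv : Commute y v) : Commute y C.z := by
  set A := Y ⊓ centralizer ({v} : Set G) with hA
  have hzA : C.z ∈ normalizer (A : Set G) := mem_normalizer_iff.2 fun x => by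
    have hv : C.z ∈ normalizer (centralizer ({v} : Set G) : Set G) :=
      le_normalizer (mem_centralizer_singleton_iff.2 hcomm.eq)
    rw [hA, mem_inf, mem_inf, mem_normalizer_iff.1 hzY x, mem_normalizer_iff.1 hv x]
  obtain ⟨c, hc, i, hi, hcz, hiz, e⟩ :=
    exists_split C.inv_z.1 (hodd.of_dvd_nat (card_dvd_of_le inf_le_left)) hzA
      (show y ∈ A from ⟨hy, mem_centralizer_singleton_iff.2 hyv.eq⟩)
  set j := g⁻¹ * i * g⁻¹⁻¹ with hj
  have hjU : j ∈ C.U := by
    refine C.mem_U_of_odd (C.mem_H.2 ?_) (by rw [hj, CfsgLib.Invol.orderOf_conj_eq]; exact odd_orderOf hodd hi.1)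
    have h := (Commute.conj_iff g⁻¹).2 (mem_centralizer_singleton_iff.1 hi.2 : Commute i v)
    rwa [← hgv, show g⁻¹ * (g * C.z * g⁻¹) * g⁻¹⁻¹ = C.z by group, ← hj] at h
  have hj1 : j = 1 := by
    obtain ⟨k, hk⟩ := exists_pow_of_isPGroup hY hi.1
    refine hno j hjU ⟨k, by rw [hj, conj_pow, hk]; group⟩ ?_
    rw [hj, show g⁻¹ * C.z * g * (g⁻¹ * i * g⁻¹⁻¹) * (g⁻¹ * C.z * g) = g⁻¹ * (C.z * i * C.z) * g by group,
      hiz]
    group
  rw [e, conj_eq_one_iff.1 (hj ▸ hj1 :), mul_one]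
  exact hcz

/-- For `2 ^ n = 8`: `O_r(C(d)) ≤ D1` for `r` prime to `|[U, s t]|`, `s` normalising `⟨d⟩`. -/
theorem Op_le_D1_of_eigen (hn : C.n = 3) (hmax : IsCoatom C.H) {p r : ℕ} [Fact p.Prime] [Fact r.Prime]
    (hp : C.Good p) (hr2 : r ≠ 2) (hU2 : ¬ r ∣ Nat.card C.U2) {d : G} (hdD : d ∈ C.D1)
    (hdp : ∃ k, d ^ p ^ k = 1) (he : C.s * d * C.s⁻¹ ∈ zpowers d) :
    Op r (centralizer ({d} : Set G)) ≤ C.D1 := by
  obtain ⟨hdU, hdt⟩ := C.mem_D1.1 hdD
  set K := centralizer ({d} : Set G) with hK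
  set Y := Op r K with hY
  obtain ⟨⟨g₁, hg₁, e₁⟩, -⟩ := C.exists_fuse_centralizer hmax hp hdD hdp
  have hYn : K ≤ normalizer (Y : Set G) := CfsgLib.DGroup.le_normalizer_Op r K
  have hodd : Odd (Nat.card Y) := CfsgLib.DGroup.odd_Op r K
  have hzY : C.z ∈ normalizer (Y : Set G) :=
    hYn (mem_centralizer_singleton_iff.2 (C.commute_z hdU).eq.symm)
  have htY : C.t ∈ normalizer (Y : Set G) := hYn (mem_centralizer_singleton_iff.2 hdt.eq.symm)
  have hsY : C.s ∈ normalizer (Y : Set G) := by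
    have hd : (zpowers d).map (MulAut.conj C.s).toMonoidHom = zpowers d := by
      refine eq_of_le_of_card_ge ?_ (card_map_of_injective (MulAut.conj C.s).injective).ge
      rw [MonoidHom.map_zpowers, zpowers_le]; exact he
    have hsK : C.s ∈ normalizer (K : Set G) := by
      have h : K = centralizer (zpowers d : Set G) := le_antisymm
        (fun x hx => mem_centralizer_iff.2 fun w hw => by
          obtain ⟨k, rfl⟩ := mem_zpowers_iff.1 hw
          exact (Commute.zpow_right (mem_centralizer_singleton_iff.1 hx) k).eq.symm)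
        (centralizer_le (by simp))
      rw [h]
      exact CfsgLib.DGroup.mem_normalizer_centralizer (mem_normalizer_iff_map_conj_eq.2 hd)
    exact CfsgLib.DGroup.normalizer_le_normalizer_opIn r (coreIn K)
      (CfsgLib.DGroup.normalizer_le_normalizer_coreIn K hsK)
  have hstY : C.s * C.t ∈ normalizer (Y : Set G) := mul_mem hsY htY
  obtain ⟨ρ, h1, h2, h3⟩ := C.flip.exists_rho
  change ρ * C.z * ρ⁻¹ = C.s * C.t at h1
  change ρ * (C.s * C.t) * ρ⁻¹ = C.z * (C.s * C.t) at h2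
  change ρ * (C.z * (C.s * C.t)) * ρ⁻¹ = C.z at h3
  have hcz : Commute C.z (C.s * C.t) := (C.mem_H.1 C.st_mem_H).symm
  have hno : ∀ i ∈ C.U, (∃ k, i ^ r ^ k = 1) →
      C.s * C.t * i * (C.s * C.t) = i⁻¹ → i = 1 := fun i hi hk hinv => by
    obtain ⟨k, hk⟩ := hk
    exact orderOf_eq_one_iff.1 (Nat.eq_one_of_dvd_coprimes
      (((Fact.out : r.Prime).coprime_iff_not_dvd.2 hU2).pow_left k) (orderOf_dvd_of_pow_eq_one hk)
      (Subgroup.orderOf_dvd_natCard _ (mem_invGen hi hinv)))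
  have hYz : ∀ y ∈ Y, Commute y C.z := by
    refine fun y hy => mem_centralizer_singleton_iff.1
      (CfsgLib.Bender.GSide.le_of_four ((Fact.out : r.Prime).odd_of_ne_two hr2)
        (CfsgLib.DGroup.isPGroup_Op r K) C.inv_z.orderOf C.inv_st.orderOf hcz hzY hstY
        (K := centralizer ({C.z} : Set G)) (le_normalizer (mem_centralizer_singleton_iff.2 rfl))
        (le_normalizer (mem_centralizer_singleton_iff.2 hcz.eq.symm)) ?_ hy)
    intro w y hw hy hwy
    refine mem_centralizer_singleton_iff.2 (?_ : Commute y C.z).eq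
    rcases hw with rfl | rfl | rfl
    · exact hwy.symm
    · refine C.commute_z_of_commute (CfsgLib.DGroup.isPGroup_Op r K) hodd hzY h1 hcz ?_ hy hwy.symm
      intro i hi hk hinv
      refine hno i hi hk ?_
      have e : ρ⁻¹ * C.z * ρ = C.z * (C.s * C.t) := by
        calc ρ⁻¹ * C.z * ρ = ρ⁻¹ * (ρ * (C.z * (C.s * C.t)) * ρ⁻¹) * ρ := by rw [h3]
          _ = _ := by group
      rw [e] at hinv
      have hiz := C.commute_z hi
      calc C.s * C.t * i * (C.s * C.t)
          = C.z * (C.s * C.t) * i * (C.z * (C.s * C.t)) := by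
            rw [show C.z * (C.s * C.t) * i * (C.z * (C.s * C.t)) =
              C.z * ((C.s * C.t) * i) * C.z * (C.s * C.t) by group,
              (hcz.mul_right hiz.symm).eq, mul_assoc _ C.z C.z, C.inv_z.1, mul_one]
        _ = i⁻¹ := hinv
    · refine C.commute_z_of_commute (CfsgLib.DGroup.isPGroup_Op r K) hodd hzY (g := ρ⁻¹) ?_
        ((Commute.refl C.z).mul_right hcz) ?_ hy hwy.symm
      · calc ρ⁻¹ * C.z * ρ⁻¹⁻¹ = ρ⁻¹ * (ρ * (C.z * (C.s * C.t)) * ρ⁻¹) * ρ⁻¹⁻¹ := by rw [h3]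
          _ = _ := by group
      · intro i hi hk hinv
        rw [inv_inv, h1] at hinv
        exact hno i hi hk hinv
  intro y hy
  refine C.mem_D1_of_odd (hYz y hy) ?_ (odd_orderOf hodd hy)
  have h := (Commute.conj_iff g₁).2 (hYz _ (conj_mem' (hYn hg₁) hy))
  rwa [show g₁ * (g₁⁻¹ * y * g₁) * g₁⁻¹ = y by group, e₁] at h

/-- `O(C(d)) ≤ D1` when, for `2 ^ n = 8`, the rotation normalises `⟨d⟩`. -/
theorem coreIn_le_D1_of_eigen (hmax : IsCoatom C.H) {p : ℕ} [Fact p.Prime] (hp : C.Good p) {d : G}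
    (hdD : d ∈ C.D1) (hdO : d ∈ Op p C.H) (he : C.n = 3 → C.s * d * C.s⁻¹ ∈ zpowers d) :
    coreIn (centralizer ({d} : Set G)) ≤ C.D1 := by
  refine C.coreIn_le_D1_aux hmax hp (fun r hr hr2 hrG hO hU => ?_) hdD hdO
  haveI : Fact r.Prime := ⟨hr⟩
  have hn3 : C.n = 3 := by
    by_contra hne
    have := C.data.hn
    exact hrG (C.good_of_four_le (by omega) hmax hr2 hO)
  exact C.Op_le_D1_of_eigen hn3 hmax hp hr2
    (fun h2 => hrG ⟨hr, hr2, hO, C.noCentral_of_dvd hU h2⟩) hdD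
    (exists_pow_of_isPGroup (CfsgLib.DGroup.isPGroup_Op p C.H) hdO) (he hn3)

end CfsgLib.GW.Eight.Ctx
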