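import Cfsg.Agent.Signalizer.Wielandt
import Cfsg.Agent.NormCyclic.Basic
import Cfsg.Agent.Invol.Dihedral

/-!
# Counting tools: the order formula for a four group on an odd group, conjugate involutions
-/

set_option autoImplicit false
set_option linter.style.haveILetI false
set_option linter.unusedSectionVars false

namespace CfsgLib.GW.Eight

open Subgroup
open CfsgLib.NormCyclic (Inv)

universe u

variable {G : Type u} [Group G]

theorem centralizer_zpowers_eq (a : G) :
    centralizer ((zpowers a : Subgroup G) : Set G) = centralizer ({a} : Set G) := by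
  refine le_antisymm (centralizer_le (Set.singleton_subset_iff.2 (mem_zpowers a))) fun g hg =>
    mem_centralizer_iff.2 fun b hb => ?_
  obtain ⟨i, rfl⟩ := mem_zpowers_iff.1 hb
  exact (Commute.zpow_left (mem_centralizer_singleton_iff.1 hg).symm i).eq

theorem mem_closure_inv_pair {a b x : G} (ha : Inv a) (hb : Inv b) (hab : Commute a b)
    (hx : x ∈ closure ({a, b} : Set G)) : x = 1 ∨ x = a ∨ x = b ∨ x = a * b := by
  have haa := ha.1
  have hbb := hb.1
  have h1 : a * (a * b) = b := by rw [← mul_assoc, haa, one_mul]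
  have h2 : b * a = a * b := hab.eq.symm
  have h3 : a * b * a = b := by rw [hab.eq, mul_assoc, haa, mul_one]
  have h4 : b * (a * b) = a := by rw [← mul_assoc, h2, mul_assoc, hbb, mul_one]
  have h5 : a * b * b = a := by rw [mul_assoc, hbb, mul_one]
  induction hx using closure_induction with
  | mem y hy =>
    rcases hy with rfl | rfl
    exacts [Or.inr (Or.inl rfl), Or.inr (Or.inr (Or.inl rfl))]
  | one => exact Or.inl rfl
  | inv y _ ih =>
    rcases ih with rfl | rfl | rfl | rfl
    exacts [Or.inl inv_one, Or.inr (Or.inl (inv_eq_of_mul_eq_one_right haa)),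
      Or.inr (Or.inr (Or.inl (inv_eq_of_mul_eq_one_right hbb))),
      Or.inr (Or.inr (Or.inr (inv_eq_of_mul_eq_one_right (by
        rw [← mul_assoc, h3, hbb]))))]
  | mul y w _ _ ihy ihw =>
    rcases ihy with rfl | rfl | rfl | rfl <;> rcases ihw with rfl | rfl | rfl | rfl <;>
      simp [haa, hbb, h1, h2, h3, h4, h5, ← mul_assoc]

/-- Brauer–Wielandt for a four group acting on a group of odd order. -/
theorem card_four [Finite G] {K : Subgroup G} (hK : Odd (Nat.card K)) {a b : G} (ha : Inv a)
    (hb : Inv b) (hab : Commute a b) (hne : a ≠ b) (haK : a ∈ normalizer (K : Set G))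
    (hbK : b ∈ normalizer (K : Set G)) :
    Nat.card K * Nat.card ↥(K ⊓ centralizer ({a, b} : Set G)) ^ 2 =
      Nat.card ↥(K ⊓ centralizer ({a} : Set G)) * Nat.card ↥(K ⊓ centralizer ({b} : Set G)) *
        Nat.card ↥(K ⊓ centralizer ({a * b} : Set G)) := by
  classical
  haveI : Fact (Nat.Prime 2) := ⟨Nat.prime_two⟩
  set E : Subgroup G := closure {a, b} with hEdef
  have hc : Inv (a * b) := ha.mul hb hab hne
  have hE : ∀ x, x ∈ E ↔ x = 1 ∨ x = a ∨ x = b ∨ x = a * b := fun x => by
    refine ⟨mem_closure_inv_pair ha hb hab, ?_⟩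
    have haE : a ∈ E := subset_closure (Or.inl rfl)
    have hbE : b ∈ E := subset_closure (Or.inr rfl)
    rintro (rfl | rfl | rfl | rfl)
    exacts [one_mem _, haE, hbE, mul_mem haE hbE]
  have hEA : Cfsg.IsElementaryAbelian 2 E := by
    refine ⟨⟨⟨fun x y => Subtype.ext ?_⟩⟩, fun x hx => ?_⟩
    · obtain ⟨x, hx⟩ := x
      obtain ⟨y, hy⟩ := y
      show x * y = y * x
      have h1 : Commute a (a * b) := (Commute.refl a).mul_right hab
      have h2 : Commute b (a * b) := hab.symm.mul_right (Commute.refl b)
      rcases (hE x).1 hx with rfl | rfl | rfl | rfl <;> rcases (hE y).1 hy with rfl | rfl | rfl | rfl <;>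
        first
          | exact (Commute.one_left _).eq
          | exact (Commute.one_right _).eq
          | exact (Commute.refl _).eq
          | exact hab.eq
          | exact hab.eq.symm
          | exact h1.eq
          | exact h1.eq.symm
          | exact h2.eq
          | exact h2.eq.symm
    · rw [sq]
      rcases (hE x).1 hx with e | e | e | e <;> rw [e]
      exacts [one_mul 1, ha.1, hb.1, hc.1]
  have hnab : a ≠ a * b := fun h => hb.2 (mul_eq_left.1 h.symm)
  have hnbb : b ≠ a * b := fun h => ha.2 (mul_eq_right.1 h.symm)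
  have hE4 : Nat.card E = 2 ^ 2 := by
    have hset : (E : Set G) = {1, a, b, a * b} := by
      ext x; simp [hE]
    show Nat.card (E : Set G) = 4
    rw [hset, Nat.card_coe_set_eq, Set.ncard_insert_of_notMem
      (by simp [ha.2.symm, hb.2.symm, hc.2.symm]),
      Set.ncard_insert_of_notMem (by simp [hne, hnab]), Set.ncard_insert_of_notMem (by simp [hnbb]),
      Set.ncard_singleton]
  have hEK : E ≤ normalizer (K : Set G) := (closure_le _).2 (by
    rintro x (rfl | rfl); exacts [haK, hbK])
  have h2K : ¬ 2 ∣ Nat.card K := fun h => Nat.not_even_iff_odd.2 hK (even_iff_two_dvd.2 h)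
  have h := Signalizer.wielandt hEA hE4 h2K hEK
  have hinj : ∀ x y : G, Inv x → Inv y → zpowers x = zpowers y → x = y := by
    intro x y hx hy hxy
    obtain ⟨i, hi⟩ := mem_zpowers_iff.1 (hxy ▸ mem_zpowers y : y ∈ zpowers x)
    rcases Int.even_or_odd i with ⟨j, rfl⟩ | ⟨j, rfl⟩
    · exact absurd (by rw [← hi, ← two_mul, zpow_mul, zpow_two, hx.1, one_zpow]) hy.2
    · rw [← hi, zpow_add, zpow_mul, zpow_two, hx.1, one_zpow, one_mul, zpow_one]
  have hlines : Signalizer.lines 2 E = {zpowers a, zpowers b, zpowers (a * b)} := by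
    ext B
    simp only [Finset.mem_insert, Finset.mem_singleton, Signalizer.mem_lines]
    constructor
    · rintro ⟨hBE, hB2⟩
      obtain ⟨x, hx, hx1⟩ := (bot_or_exists_ne_one B).resolve_left fun e => by
        rw [e, card_bot] at hB2; omega
      have hxI : Inv x := by
        rcases (hE x).1 (hBE hx) with e | e | e | e <;> rw [e]
        exacts [absurd e hx1, ha, hb, hc]
      have hB : zpowers x = B := eq_of_le_of_card_ge (zpowers_le.2 hx)
        (by rw [hB2, Nat.card_zpowers, hxI.orderOf])
      rcases (hE x).1 (hBE hx) with e | e | e | e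
      · exact absurd e hx1
      all_goals rw [← hB, e]; simp
    · have hmk : ∀ x, x ∈ E → Inv x → zpowers x ≤ E ∧ Nat.card (zpowers x) = 2 := fun x hx hI =>
        ⟨zpowers_le.2 hx, by rw [Nat.card_zpowers, hI.orderOf]⟩
      rintro (rfl | rfl | rfl)
      exacts [hmk a ((hE a).2 (by simp)) ha, hmk b ((hE b).2 (by simp)) hb,
        hmk _ ((hE _).2 (by simp)) hc]
  have hcent : centralizer (E : Set G) = centralizer ({a, b} : Set G) := centralizer_closure _
  rw [hlines, Finset.card_insert_of_notMem (by
      simp only [Finset.mem_insert, Finset.mem_singleton, not_or]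
      exact ⟨fun e => hne (hinj a b ha hb e), fun e => hnab (hinj a _ ha hc e)⟩),
    Finset.card_insert_of_notMem (by
      simp only [Finset.mem_singleton]
      exact fun e => hnbb (hinj b _ hb hc e)), Finset.card_singleton,
    Finset.prod_insert (by
      simp only [Finset.mem_insert, Finset.mem_singleton, not_or]
      exact ⟨fun e => hne (hinj a b ha hb e), fun e => hnab (hinj a _ ha hc e)⟩),
    Finset.prod_insert (by
      simp only [Finset.mem_singleton]
      exact fun e => hnbb (hinj b _ hb hc e)), Finset.prod_singleton,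
    centralizer_zpowers_eq, centralizer_zpowers_eq, centralizer_zpowers_eq, hcent] at h
  rw [← h]
  ring

/-- The number of conjugates of `v` under the subgroup `X`. -/
theorem card_conjugates_mul [Finite G] (X : Subgroup G) (v : G) :
    Nat.card {x : G // ∃ k ∈ X, k * v * k⁻¹ = x} * Nat.card ↥(X ⊓ centralizer ({v} : Set G)) =
      Nat.card X := by
  set S := (centralizer ({v} : Set G)).subgroupOf X with hS
  have key : ∀ k l : X, k⁻¹ * l ∈ S ↔ (k : G) * v * (k : G)⁻¹ = (l : G) * v * (l : G)⁻¹ := by
    intro k l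
    rw [hS, mem_subgroupOf, mem_centralizer_singleton_iff, coe_mul, coe_inv]
    constructor
    · intro h
      calc (k : G) * v * (k : G)⁻¹
          = (k : G) * (v * ((k : G)⁻¹ * l)) * (l : G)⁻¹ := by group
        _ = (k : G) * ((k : G)⁻¹ * l * v) * (l : G)⁻¹ := by rw [← h]
        _ = (l : G) * v * (l : G)⁻¹ := by group
    · intro h
      calc (k : G)⁻¹ * l * v = (k : G)⁻¹ * ((l : G) * v * (l : G)⁻¹) * l := by group
        _ = (k : G)⁻¹ * ((k : G) * v * (k : G)⁻¹) * l := by rw [h]
        _ = v * ((k : G)⁻¹ * l) := by group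
  let f : X ⧸ S → {x : G // ∃ k ∈ X, k * v * k⁻¹ = x} :=
    Quotient.lift (fun k : X => ⟨(k : G) * v * (k : G)⁻¹, k, k.2, rfl⟩)
      fun k l h => Subtype.ext ((key k l).1 (QuotientGroup.leftRel_apply.1 h))
  have hf : Function.Bijective f := by
    constructor
    · intro x y
      refine Quotient.inductionOn₂ x y ?_
      intro k l h
      exact Quotient.sound (QuotientGroup.leftRel_apply.2 ((key k l).2 (congrArg Subtype.val h)))
    · rintro ⟨x, k, hk, rfl⟩
      exact ⟨Quotient.mk'' ⟨k, hk⟩, rfl⟩
  have e := S.card_mul_index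
  have hcard : Nat.card S = Nat.card ↥(X ⊓ centralizer ({v} : Set G)) := by
    rw [← card_subtype, hS, subgroupOf_map_subtype, inf_comm]
  rw [← Nat.card_eq_of_bijective f hf, ← hcard, mul_comm, ← S.index_eq_card]
  exact e

/-- Two involutions whose product lies in a subgroup of odd order are conjugate by it. -/
theorem exists_conj_mem {N : Subgroup G} (hN : Odd (Nat.card N)) {v w : G} (hv : Inv v) (hw : Inv w)
    (h : v * w ∈ N) : ∃ k ∈ N, k * v * k⁻¹ = w := by
  obtain ⟨m, hm⟩ : Odd (orderOf (v * w)) := hN.of_dvd_nat (Subgroup.orderOf_dvd_natCard _ h)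
  refine ⟨(v * w) ^ (m : ℤ), zpow_mem h _, ?_⟩
  rw [CfsgLib.Invol.zpow_conj_invol hv.1 (CfsgLib.Invol.conj_mul_inv hv.orderOf hw.orderOf)]
  have h1 : (v * w) ^ (-(2 * (m : ℤ))) = (v * w) ^ (1 : ℤ) := by
    rw [zpow_eq_zpow_iff_modEq, hm, Int.modEq_iff_dvd]
    exact ⟨1, by push_cast; ring⟩
  rw [h1, zpow_one, ← mul_assoc, hv.1, one_mul]

end CfsgLib.GW.Eight
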