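import Cfsg.Agent.GW.Eight.Setting
import Cfsg.Agent.GW.Eight.FourCount

/-!
# Dihedral Sylow 2-subgroup of order at least eight: the involutions of `C(z)`
-/

set_option autoImplicit false
set_option linter.style.haveILetI false
set_option linter.unusedSectionVars false

namespace CfsgLib.GW.Eight.Ctx

open Subgroup CfsgLib.DihPrincipal CfsgLib.GW
open CfsgLib.NormCyclic (Inv)
open CfsgLib.DGroup (coreIn odd_orderOf eq_one_of_sq)

universe u

variable {G : Type u} [Group G] [Fintype G] [Fact (Nat.Prime 2)] (C : Ctx G)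

theorem flip_z : C.flip.z = C.z := rfl

theorem flip_H : C.flip.H = C.H := rfl

theorem two_pow_n : 2 ^ C.n = 4 * 2 ^ (C.n - 2) := by
  rw [show (4 : ℕ) = 2 ^ 2 by norm_num, ← pow_add, show 2 + (C.n - 2) = C.n by have := C.data.hn; omega]

theorem commute_z_t : Commute C.z C.t := (C.data.commute_z C.data.τ_mem).symm

theorem commute_z_st : Commute C.z (C.s * C.t) :=
  (C.data.commute_z (mul_mem C.data.σ_mem C.data.τ_mem)).symm

theorem t_not_rot : C.t ∉ zpowers C.s := by
  have h := C.data.proj_refl (C.data.rot_refl_mem (one_mem (zpowers C.s)))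
  rwa [one_mul, C.data.proj_of_mem C.data.τ_mem] at h

theorem t_ne_z : C.t ≠ C.z := fun h => C.t_not_rot (h ▸ Data.z_mem_zpowers)

theorem st_ne_z : C.s * C.t ≠ C.z := C.flip.t_ne_z

open scoped Classical in
theorem mem_refl {x : G} (hx : x ∈ C.H) (hI : Inv x) (hne : x ≠ C.z) : x ∈ C.data.refl :=
  Finset.mem_filter.2 ⟨Finset.mem_univ _, hx, hI.1, hI.2, hne⟩

/-- The involutions of `C(z)`: `z` and the two classes of reflections. -/
theorem invol_cases {x : G} (hx : x ∈ C.H) (hI : Inv x) :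
    x = C.z ∨ (∃ c ∈ C.H, c * C.t * c⁻¹ = x) ∨ ∃ c ∈ C.H, c * (C.s * C.t) * c⁻¹ = x := by
  by_cases h : x = C.z
  · exact Or.inl h
  obtain ⟨c, hc, h1 | h1⟩ := C.data.refl_classes (C.mem_refl hx hI h)
  exacts [Or.inr (Or.inl ⟨c, hc, h1⟩), Or.inr (Or.inr ⟨c, hc, h1⟩)]

/-- The two classes of reflections are not conjugate in `C(z)`. -/
theorem not_conj_t_st {c : G} (hc : c ∈ C.H) : c * C.t * c⁻¹ ≠ C.s * C.t := by
  intro h
  have h1 := congrArg C.data.proj h
  rw [C.data.proj_conj hc (C.data.le_centralizer C.data.τ_mem), C.data.proj_of_mem C.data.τ_mem,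
    C.data.proj_of_mem (mul_mem C.data.σ_mem C.data.τ_mem)] at h1
  obtain ⟨k, hk⟩ := conj_refl_zpow C.data 0 (C.data.proj_mem c)
  rw [zpow_zero, one_mul] at hk
  rw [hk] at h1
  have := two_dvd_of_zpow_eq C.data (i := 2 * k + 0) (j := 1)
    (by rw [zpow_one]; exact mul_right_cancel h1)
  omega

/-- `z t` is conjugate to `t` by an element of the Sylow subgroup. -/
theorem exists_zt : ∃ p ∈ (C.P : Subgroup G), Commute p C.z ∧ p * C.t * p⁻¹ = C.z * C.t := by
  have hn := C.data.hn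
  refine ⟨C.s ^ 2 ^ (C.n - 3), pow_mem C.data.σ_mem _, C.data.commute_z (pow_mem C.data.σ_mem _), ?_⟩
  rw [C.data.conj_τ_pow, ← pow_succ', show C.n - 3 + 1 = C.n - 2 by omega]
  rfl

theorem exists_zst :
    ∃ p ∈ (C.P : Subgroup G), Commute p C.z ∧ p * (C.s * C.t) * p⁻¹ = C.z * (C.s * C.t) :=
  C.flip.exists_zt

/-- Over `P`, fusion of `z` with `t` gives fusion with `z t` as well. -/
theorem fused_of_move {M : Subgroup G} (hP : (C.P : Subgroup G) ≤ M) {g : G} (hg : g ∈ M)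
    (h : g * C.z * g⁻¹ = C.t) : Fused M C.z C.t := by
  obtain ⟨p, hp, -, hpt⟩ := C.exists_zt
  refine ⟨hP (pow_mem C.data.σ_mem _), hP C.data.τ_mem, ⟨g, hg, h⟩, p * g, mul_mem (hP hp) hg, ?_⟩
  rw [show p * g * C.z * (p * g)⁻¹ = p * (g * C.z * g⁻¹) * p⁻¹ by group, h, hpt]

/-- An element of `C(z)` differs from its projection by an element of odd order. -/
theorem proj_mem_U {x : G} (hx : x ∈ C.H) : x * (C.data.proj x)⁻¹ ∈ C.U := by
  obtain ⟨u, hu, p, hp, rfl⟩ := C.exists_mul_P hx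
  rw [C.data.proj_mul (C.U_le_H hu) (C.P_le_H hp), C.data.proj_of_mem hp,
    C.data.proj_odd (C.U_le_H hu) (Nat.two_dvd_ne_zero.2 (Nat.odd_iff.1 (C.mem_U.1 hu).2)),
    one_mul, mul_inv_cancel_right]
  exact hu

/-- The only elements squaring to one that commute with `z` and `t` form the four group. -/
theorem mem_V1_of_sq {x : G} (hx : x ∈ C.H) (hxt : Commute x C.t) (h2 : x * x = 1) :
    x = 1 ∨ x = C.z ∨ x = C.t ∨ x = C.z * C.t := by
  by_cases h1 : x = 1
  · exact Or.inl h1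
  by_cases hz : x = C.z
  · exact Or.inr (Or.inl hz)
  refine Or.inr (Or.inr ?_)
  have hxI : Inv x := ⟨h2, h1⟩
  have hr := C.mem_refl hx hxI hz
  set p := C.data.proj x with hp
  have hpP : p ∈ (C.P : Subgroup G) := C.data.proj_mem x
  have hpt : Commute p C.t := by
    show p * C.t = C.t * p
    rw [← C.data.proj_of_mem C.data.τ_mem, hp,
      ← C.data.proj_mul hx (C.data.le_centralizer C.data.τ_mem),
      ← C.data.proj_mul (C.data.le_centralizer C.data.τ_mem) hx, hxt.eq]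
  have hpc : p = C.t ∨ p = C.z * C.t := by
    obtain ⟨i, hi⟩ := mem_zpowers_iff.1 ((C.data.cases p hpP).resolve_left (C.data.proj_refl hr))
    have hp' : p = C.s ^ i * C.t := by rw [hi, mul_assoc, C.inv_t.1, mul_one]
    have h3 : C.s ^ i * C.s ^ i = 1 := by
      have hc : C.t * C.s ^ i = C.s ^ i * C.t := by
        have h4 : p * C.t * C.t = C.t * p * C.t := by rw [hpt.eq]
        rw [mul_assoc p, C.inv_t.1, mul_one, hp', mul_assoc C.t, mul_assoc (C.s ^ i), C.inv_t.1,
          mul_one] at h4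
        exact h4.symm
      have h5 := C.data.conj_τ (zpow_mem (mem_zpowers C.s) i)
      rw [hc, mul_inv_cancel_right] at h5
      nth_rw 2 [h5]
      exact mul_inv_cancel _
    rcases C.data.eq_z (zpow_mem (mem_zpowers C.s) i) h3 with e | e <;> rw [hp', e]
    exacts [Or.inl (one_mul _), Or.inr rfl]
  have hxp : Commute x p := by
    rcases hpc with e | e <;> rw [e]
    exacts [hxt, (C.mem_H.1 hx).mul_right hxt]
  have hpI : p * p = 1 := by
    rcases hpc with e | e <;> rw [e]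
    exacts [C.inv_t.1, by rw [C.commute_z_t.symm.mul_mul_mul_comm, C.inv_z.1, C.inv_t.1, one_mul]]
  have hU := C.proj_mem_U hx
  rw [← hp, inv_eq_of_mul_eq_one_right hpI] at hU
  have : x * p = 1 := eq_one_of_sq
    (by rw [hxp.symm.mul_mul_mul_comm, h2, hpI, one_mul]) (odd_orderOf C.odd_U hU)
  have hxeq : x = p := by rw [eq_inv_of_mul_eq_one_left this, inv_eq_of_mul_eq_one_right hpI]
  rw [hxeq]
  exact hpc

theorem mem_V2_of_sq {x : G} (hx : x ∈ C.H) (hxt : Commute x (C.s * C.t)) (h2 : x * x = 1) :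
    x = 1 ∨ x = C.z ∨ x = C.s * C.t ∨ x = C.z * (C.s * C.t) :=
  C.flip.mem_V1_of_sq hx hxt h2

theorem card_cent_t :
    Nat.card ↥(C.H ⊓ centralizer ({C.t} : Set G)) = 4 * Nat.card C.D1 := by
  have h := card_centralizer_pair_eq C.data C.data.τ_mem C.t_not_rot
  rw [C.oddU_eq] at h
  refine Eq.trans ?_ h
  congr 2
  ext x
  simp [Ctx.H, Ctx.z, mem_centralizer_iff]

theorem card_cent_st :
    Nat.card ↥(C.H ⊓ centralizer ({C.s * C.t} : Set G)) = 4 * Nat.card C.D2 :=
  C.flip.card_cent_t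

/-- The number of conjugates of `t` in `C(z)`. -/
theorem card_class_t :
    Nat.card {x : G // ∃ k ∈ C.H, k * C.t * k⁻¹ = x} * Nat.card C.D1 =
      2 ^ (C.n - 2) * Nat.card C.U := by
  have h := card_conjugates_mul C.H C.t
  rw [C.card_cent_t, C.card_H, C.two_pow_n] at h
  refine Nat.eq_of_mul_eq_mul_left (show 0 < 4 by norm_num) ?_
  calc _ = Nat.card {x : G // ∃ k ∈ C.H, k * C.t * k⁻¹ = x} * (4 * Nat.card C.D1) := by ring
    _ = _ := h.trans (by ring)

theorem card_class_st :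
    Nat.card {x : G // ∃ k ∈ C.H, k * (C.s * C.t) * k⁻¹ = x} * Nat.card C.D2 =
      2 ^ (C.n - 2) * Nat.card C.U :=
  C.flip.card_class_t

/-- The odd part of the centraliser of the conjugate `g z g⁻¹`. -/
noncomputable def oc (g : G) : Subgroup G := C.U.map (MulAut.conj g).toMonoidHom

theorem mem_oc {g x : G} : x ∈ C.oc g ↔ Commute x (g * C.z * g⁻¹) ∧ Odd (orderOf x) := by
  constructor
  · rintro ⟨y, hy, rfl⟩
    obtain ⟨h1, h2⟩ := C.mem_U.1 hy
    exact ⟨(Commute.conj_iff g).2 (C.mem_H.1 h1),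
      by show Odd (orderOf (g * y * g⁻¹)); rw [CfsgLib.Invol.orderOf_conj_eq]; exact h2⟩
  · rintro ⟨h1, h2⟩
    refine ⟨g⁻¹ * x * g, C.mem_U.2 ⟨C.mem_H.2 ?_, ?_⟩, ?_⟩
    · have := (Commute.conj_iff g⁻¹).2 h1
      rwa [inv_inv, show g⁻¹ * (g * C.z * g⁻¹) * g = C.z by group] at this
    · have := CfsgLib.Invol.orderOf_conj_eq g⁻¹ x
      rw [inv_inv] at this
      rwa [this]
    · show g * (g⁻¹ * x * g) * g⁻¹ = x
      group

theorem card_oc (g : G) : Nat.card (C.oc g) = Nat.card C.U :=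
  card_map_of_injective (MulAut.conj g).injective

theorem odd_oc (g : G) : Odd (Nat.card (C.oc g)) := by rw [C.card_oc]; exact C.odd_U

end CfsgLib.GW.Eight.Ctx
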