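import Cfsg.Agent.GW.Eight.NoQd
import Cfsg.Agent.GW.CaseI.Normalizer

/-!
# Gorenstein–Walter, `|S| ≥ 8`: normalisers of `p`-subgroups of `U`, `p`-fusion, fusion in `C(d)`

With `H = C(z)` maximal and `p` a good prime (`O_p(H) ≠ 1` and no reflection centralises a Sylow
`p`-subgroup of `U`), a Sylow `p`-subgroup of `U` is one of `G` and `H` controls `p`-fusion. For
`2 ^ n ≥ 16` the condition on the reflections is automatic.
-/

set_option autoImplicit false
set_option linter.style.haveILetI false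
set_option linter.unusedSectionVars false

namespace CfsgLib.GW.Eight.Ctx

open Subgroup
open CfsgLib.NormCyclic (Inv)
open CfsgLib.DGroup (coreIn Op conj_mem conj_mem' odd_orderOf eq_one_of_inv_eq)
open CfsgLib.GW.CaseI (mem_of_pow_prime_pow exists_pow_of_isPGroup invGen not_dvd_invGen
  centerThompsonAOf_le normalizer_le_centerThompsonAOf mem_centerThompsonAOf sup_normalizer_zj)
open scoped CfsgLib.Functor

universe u

variable {G : Type u} [Group G] [Fintype G] [Fact (Nat.Prime 2)] (C : Ctx G)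
include C

theorem normalizer_ne_top {X : Subgroup G} (hX : X ≠ ⊥) (hX' : X ≠ ⊤) :
    normalizer (X : Set G) ≠ ⊤ := fun h => by
  haveI := C.simple
  rcases (normalizer_eq_top_iff.1 h).eq_bot_or_eq_top with h' | h'
  exacts [hX h', hX' h']

theorem normalizer_eq_H (hmax : IsCoatom C.H) {X : Subgroup G} (hX : X ≠ ⊥) (hXH : X ≤ C.H)
    (hn : C.H ≤ normalizer (X : Set G)) : normalizer (X : Set G) = C.H :=
  ((hmax.le_iff).1 hn).resolve_left
    (C.normalizer_ne_top hX fun h => C.H_ne_top (top_le_iff.1 (h ▸ hXH)))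

theorem commute_z {x : G} (hx : x ∈ C.U) : Commute x C.z := C.mem_H.1 (C.U_le_H hx)

theorem Op_le_U (p : ℕ) : Op p C.H ≤ C.U := CfsgLib.DGroup.Op_le p C.H

theorem Op_le_of_sylow {p : ℕ} [Fact p.Prime] {Q : Subgroup G} (hQ : IsPGroup p Q) (hQU : Q ≤ C.U)
    (hQi : ¬ p ∣ Q.relIndex C.U) : Op p C.H ≤ Q := by
  let S : Sylow p C.U := (hQ.comap_subtype (K := C.U)).toSylow hQi
  have h1 : IsPGroup p ((Op p C.H).subgroupOf C.U) :=
    (CfsgLib.DGroup.isPGroup_Op p C.H).comap_subtype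
  haveI : ((Op p C.H).subgroupOf C.U).Normal := (normal_subgroupOf_iff_le_normalizer
    (C.Op_le_U p)).2 (C.U_le_H.trans (CfsgLib.DGroup.le_normalizer_Op p C.H))
  have h2 : ((Op p C.H).subgroupOf C.U) ⊔ (S : Subgroup C.U) = S :=
    S.3 (h1.to_sup_of_normal_left S.2) le_sup_right
  intro x hx
  have h3 : (⟨x, C.Op_le_U p hx⟩ : C.U) ∈ ((Op p C.H).subgroupOf C.U) ⊔ (S : Subgroup C.U) :=
    mem_sup_left hx
  rw [h2] at h3
  exact h3

/-- A Sylow `p`-subgroup of `U` normalised by the Sylow 2-subgroup. -/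
structure SylowU (p : ℕ) (Q : Subgroup G) : Prop where
  isPGroup : IsPGroup p Q
  le : Q ≤ C.U
  index : ¬ p ∣ Q.relIndex C.U
  P_le : (C.P : Subgroup G) ≤ normalizer (Q : Set G)

theorem exists_sylowU (p : ℕ) [Fact p.Prime] : ∃ Q, C.SylowU p Q := by
  haveI := C.P.isPGroup'.isNilpotent
  obtain ⟨S, hS⟩ := CfsgLib.CoprimeAct.exists_invariant_sylow (A := (C.P : Subgroup G)) (K := C.U)
    (C.P_le_H.trans C.H_le_normalizer_U) (by
      rw [C.card_P, show 4 * 2 ^ (C.n - 2) = 2 ^ (2 + (C.n - 2)) by rw [pow_add]; norm_num]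
      exact ((Nat.coprime_two_left.2 C.odd_U).pow_left _ :))
    (Or.inl inferInstance) p
  refine ⟨_, S.2.map _, map_subtype_le _, ?_, hS⟩
  rw [relIndex, subgroupOf, comap_map_eq_self_of_injective C.U.subtype_injective]
  exact S.not_dvd_index

/-- No Sylow `p`-subgroup of `U` is centralised by a reflection. -/
def NoCentral (p : ℕ) : Prop :=
  ∀ Q : Subgroup G, IsPGroup p Q → Q ≤ C.U → ¬ p ∣ Q.relIndex C.U →
    (¬ ∀ x ∈ Q, Commute x C.t) ∧ ¬ ∀ x ∈ Q, Commute x (C.s * C.t)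

/-- The primes for which the normaliser lemma works. -/
def Good (p : ℕ) : Prop :=
  p.Prime ∧ p ≠ 2 ∧ Op p C.H ≠ ⊥ ∧ C.NoCentral p

theorem noCentral_of_dvd {p : ℕ} [Fact p.Prime] (h1 : p ∣ Nat.card C.U1) (h2 : p ∣ Nat.card C.U2) :
    C.NoCentral p := fun _ hQ hQU hQi =>
  ⟨fun h => not_dvd_invGen C.inv_t.1 C.odd_U (C.H_le_normalizer_U C.t_mem_H) hQ hQU hQi h h1,
    fun h => not_dvd_invGen C.inv_st.1 C.odd_U (C.H_le_normalizer_U C.st_mem_H) hQ hQU hQi h h2⟩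

theorem centralizer_le_H (hmax : IsCoatom C.H) {p : ℕ} [Fact p.Prime] (hO : Op p C.H ≠ ⊥)
    {Q : Subgroup G} (hQ : IsPGroup p Q) (hQU : Q ≤ C.U) (hQi : ¬ p ∣ Q.relIndex C.U) :
    centralizer (Q : Set G) ≤ C.H := by
  rw [← C.normalizer_eq_H hmax hO ((C.Op_le_U p).trans C.U_le_H)
    (CfsgLib.DGroup.le_normalizer_Op p C.H)]
  exact (centralizer_le (C.Op_le_of_sylow hQ hQU hQi)).trans (centralizer_le_normalizer _)

/-- An element permuting `V1` cyclically can be chosen in the normaliser of a Sylow subgroup of `D1`. -/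
theorem exists_rho_normalizer {p : ℕ} [Fact p.Prime] {Q : Subgroup G} (hQ : IsPGroup p Q)
    (hQD : Q ≤ C.D1) (hQi : ¬ p ∣ Q.relIndex C.D1) :
    ∃ r : G, r * C.z * r⁻¹ = C.t ∧ r * C.t * r⁻¹ = C.z * C.t ∧ r * (C.z * C.t) * r⁻¹ = C.z ∧
      r ∈ normalizer (Q : Set G) := by
  obtain ⟨r, h1, h2, h3⟩ := C.exists_rho
  let S : Sylow p C.D1 := (hQ.comap_subtype (K := C.D1)).toSylow hQi
  obtain ⟨R, hR⟩ := ((hQ.map (MulAut.conj r).toMonoidHom).comap_subtype (K := C.D1)).exists_le_sylow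
  obtain ⟨c, hc⟩ := MulAction.exists_smul_eq C.D1 R S
  have hcD := C.mem_D1.1 c.2
  have hcz : Commute (c : G) C.z := C.commute_z hcD.1
  have hfix : ∀ v : G, Commute (c : G) v → (c : G) * v * (c : G)⁻¹ = v := fun v hv => by
    rw [hv.eq, mul_inv_cancel_right]
  have e : ∀ v : G, (c : G) * r * v * ((c : G) * r)⁻¹ = (c : G) * (r * v * r⁻¹) * (c : G)⁻¹ := by
    intro v; group
  refine ⟨c * r, by rw [e, h1, hfix _ hcD.2], by rw [e, h2, hfix _ (hcz.mul_right hcD.2)],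
    by rw [e, h3, hfix _ hcz], mem_normalizer_iff_map_conj_eq.2 (eq_of_le_of_card_ge ?_
      (card_map_of_injective (MulAut.conj ((c : G) * r)).injective).ge)⟩
  rintro _ ⟨x, hx, rfl⟩
  have hm : c * ⟨r * x * r⁻¹, C.conj_mem_D1 h1 h3 (hQD hx)⟩ * c⁻¹ ∈ (S : Subgroup C.D1) := by
    rw [← hc]
    exact ⟨⟨r * x * r⁻¹, C.conj_mem_D1 h1 h3 (hQD hx)⟩, hR ⟨x, hx, rfl⟩, rfl⟩
  show (c : G) * r * x * ((c : G) * r)⁻¹ ∈ Q
  rw [e]
  exact hm

/-- For `2 ^ n ≥ 16` no reflection of the first class centralises a Sylow subgroup of `U`. -/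
theorem not_commute_t (h4 : 4 ≤ C.n) (hmax : IsCoatom C.H) {p : ℕ} [Fact p.Prime]
    (hO : Op p C.H ≠ ⊥) {Q : Subgroup G} (hQ : IsPGroup p Q) (hQU : Q ≤ C.U)
    (hQi : ¬ p ∣ Q.relIndex C.U) : ¬ ∀ x ∈ Q, Commute x C.t := by
  intro hQt
  obtain ⟨R, hR⟩ := C.exists_sylowU p
  have hA : zpowers C.t ≤ normalizer (C.U : Set G) := zpowers_le.2 (C.H_le_normalizer_U C.t_mem_H)
  have hcop : (Nat.card (zpowers C.t)).Coprime (Nat.card C.U) := by
    rw [Nat.card_zpowers, C.inv_t.orderOf]; exact Nat.coprime_two_left.2 C.odd_U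
  have hsol : Group.IsSolvable (zpowers C.t) :=
    Group.isSolvable_of_comm fun x y => Subtype.ext (by
      obtain ⟨i, hi⟩ := mem_zpowers_iff.1 x.2
      obtain ⟨j, hj⟩ := mem_zpowers_iff.1 y.2
      simp only [Subgroup.coe_mul, ← hi, ← hj, ← zpow_add, add_comm])
  let S₁ : Sylow p C.U := (hQ.comap_subtype (K := C.U)).toSylow hQi
  let S₂ : Sylow p C.U := (hR.isPGroup.comap_subtype (K := C.U)).toSylow hR.index
  have hm1 : (S₁ : Subgroup C.U).map C.U.subtype = Q := map_subgroupOf_eq_of_le hQU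
  have hm2 : (S₂ : Subgroup C.U).map C.U.subtype = R := map_subgroupOf_eq_of_le hR.le
  obtain ⟨c, hct, hc⟩ := CfsgLib.CoprimeAct.invariant_sylow_conj hA hcop (Or.inl hsol) p S₁ S₂
    (by
      rw [hm1, zpowers_le]
      exact centralizer_le_normalizer _ (mem_centralizer_iff.2 fun x hx => (hQt x hx).eq))
    (by rw [hm2, zpowers_le]; exact hR.P_le C.data.τ_mem)
  have hct' : Commute (c : G) C.t := (mem_centralizer_iff.1 hct _ (mem_zpowers _)).symm
  -- `t` centralises the invariant Sylow subgroup `R`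
  have hRt : ∀ x ∈ R, Commute x C.t := by
    intro x hx
    rw [← hm2, ← hc] at hx
    obtain ⟨y, ⟨w, hw, rfl⟩, rfl⟩ := hx
    have h1 := (Commute.conj_iff (c : G)).2 (hQt w (hm1 ▸ ⟨w, hw, rfl⟩))
    rwa [hct'.eq, mul_inv_cancel_right] at h1
  -- hence so does `s ^ 2`
  have hs2 : C.s * C.s ∈ centralizer (R : Set G) := mem_centralizer_iff.2 fun x hx => by
    have hn := hR.P_le C.data.σ_mem
    have h1 := (Commute.conj_iff C.s).2 (hRt _ (conj_mem' hn hx))
    rw [show C.s * (C.s⁻¹ * x * C.s) * C.s⁻¹ = x by group,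
      show C.s * C.t * C.s⁻¹ = C.s * C.s * C.t by
        have h := C.data.rel
        rw [show C.s * C.t * C.s⁻¹ = C.s * C.t * (C.t * C.s * C.t⁻¹) by rw [h], C.inv_t.inv_eq,
          show C.s * C.t * (C.t * C.s * C.t) = C.s * (C.t * C.t) * C.s * C.t by group, C.inv_t.1,
          mul_one]] at h1
    have h2 := h1.mul_right (hRt x hx)
    rw [mul_assoc (C.s * C.s), C.inv_t.1, mul_one] at h2
    exact h2.eq
  have hRD : R ≤ C.D1 := fun x hx => C.mem_D1.2 ⟨hR.le hx, hRt x hx⟩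
  obtain ⟨r, hr1, -, -, hrR⟩ := C.exists_rho_normalizer hR.isPGroup hRD fun h =>
    hR.index (h.trans (Dvd.intro _ (relIndex_mul_relIndex R C.D1 C.U hRD inf_le_left)))
  have h1 : r⁻¹ * (C.s * C.s) * r ∈ centralizer (R : Set G) := mem_centralizer_iff.2 fun x hx => by
    have h2 : Commute (r * x * r⁻¹) (C.s * C.s) := mem_centralizer_iff.1 hs2 _ (conj_mem hrR hx)
    have h3 := (Commute.conj_iff r⁻¹).2 h2
    rw [inv_inv, show r⁻¹ * (r * x * r⁻¹) * r = x by group] at h3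
    exact h3.eq
  have h2 := (Commute.conj_iff r).2 (C.mem_H.1 (C.centralizer_le_H hmax hO hR.isPGroup hR.le hR.index h1))
  rw [hr1, show r * (r⁻¹ * (C.s * C.s) * r) * r⁻¹ = C.s * C.s by group] at h2
  have h3 : C.t * (C.s * C.s) * C.t⁻¹ = C.s⁻¹ * C.s⁻¹ := by rw [← conj_mul, C.data.rel]
  rw [h2.symm.eq, mul_inv_cancel_right] at h3
  have h5 : C.s ^ 4 = 1 :=
    calc C.s ^ 4 = (C.s * C.s) * (C.s * C.s) := by simp only [pow_succ, pow_zero, one_mul, mul_assoc]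
      _ = (C.s⁻¹ * C.s⁻¹) * (C.s * C.s) := by nth_rw 1 [h3]
      _ = 1 := by group
  have h6 := orderOf_dvd_of_pow_eq_one h5
  rw [C.data.ordσ] at h6
  have h7 := Nat.le_of_dvd (by norm_num) h6
  have h8 : 2 ^ 3 ≤ 2 ^ (C.n - 1) := Nat.pow_le_pow_right two_pos (by omega)
  omega

theorem noCentral_of_four_le (h4 : 4 ≤ C.n) (hmax : IsCoatom C.H) {p : ℕ} [Fact p.Prime]
    (hO : Op p C.H ≠ ⊥) : C.NoCentral p := fun _ hQ hQU hQi =>
  ⟨C.not_commute_t h4 hmax hO hQ hQU hQi, C.flip.not_commute_t h4 hmax hO hQ hQU hQi⟩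

theorem good_of_four_le (h4 : 4 ≤ C.n) (hmax : IsCoatom C.H) {p : ℕ} [Fact p.Prime] (hp2 : p ≠ 2)
    (hO : Op p C.H ≠ ⊥) : C.Good p :=
  ⟨Fact.out, hp2, hO, C.noCentral_of_four_le h4 hmax hO⟩

/-- A reflection is conjugate under `⟨s⟩` to `t` or to `s * t`. -/
theorem exists_std_refl (i : ℤ) : ∃ l : ℤ,
    C.s ^ i * C.t = C.s ^ l * C.t * (C.s ^ l)⁻¹ ∨
      C.s ^ i * C.t = C.s ^ l * (C.s * C.t) * (C.s ^ l)⁻¹ := by
  have e : ∀ j l : ℤ, C.s ^ l * (C.s ^ j * C.t) * (C.s ^ l)⁻¹ = C.s ^ (j + 2 * l) * C.t :=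
    fun j l => C.four.rot_conj_refl j l
  rcases Int.even_or_odd i with ⟨j, rfl⟩ | ⟨j, rfl⟩
  · refine ⟨j, Or.inl ?_⟩
    have h := e 0 j
    rw [zpow_zero, one_mul] at h
    rw [h]; congr 2; ring
  · refine ⟨j, Or.inr ?_⟩
    have h := e 1 j
    rw [zpow_one] at h
    rw [h]; congr 2; ring

/-- An involution of `H` is `z` or a conjugate by an element of `U` of a reflection of `P`. -/
theorem exists_conj_of_inv {v : G} (hv : Inv v) (hvH : v ∈ C.H) :
    v = C.z ∨ ∃ u ∈ C.U, ∃ i : ℤ, v = u * (C.s ^ i * C.t) * u⁻¹ := by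
  let PH : Sylow 2 C.H := C.P.subtype C.P_le_H
  obtain ⟨R, hR⟩ := (IsPGroup.of_card (p := 2) (n := 1) (by
    rw [Nat.card_zpowers, ← Subgroup.orderOf_coe, hv.orderOf, pow_one]) :
    IsPGroup 2 (zpowers (⟨v, hvH⟩ : C.H))).exists_le_sylow
  obtain ⟨g, hg⟩ := MulAction.exists_smul_eq C.H R PH
  set w : G := (g : G) * v * (g : G)⁻¹ with hw
  have hwP : w ∈ (C.P : Subgroup G) := by
    have h1 : g * ⟨v, hvH⟩ * g⁻¹ ∈ (PH : Subgroup C.H) := by
      rw [← hg]; exact ⟨⟨v, hvH⟩, hR (mem_zpowers _), rfl⟩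
    exact h1
  obtain ⟨u, hu, p, hp, hgi⟩ := C.exists_mul_P (inv_mem g.2)
  set w' : G := p * w * p⁻¹ with hw'
  have hw'P : w' ∈ (C.P : Subgroup G) := mul_mem (mul_mem hp hwP) (inv_mem hp)
  have hvw : v = u * w' * u⁻¹ := by
    calc v = (g : G)⁻¹ * w * (g : G)⁻¹⁻¹ := by rw [hw]; group
      _ = _ := by rw [hgi, hw']; group
  have hsq : w' * w' = 1 := by
    have h1 : u * (w' * w') * u⁻¹ = 1 := by rw [← conj_mul, ← hvw]; exact hv.1
    exact conj_eq_one_iff.1 h1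
  obtain ⟨i, e | e⟩ := C.exists_cases hw'P
  · rcases C.four.rpow_inv_of_sq (i := i) (by show C.s ^ i * C.s ^ i = 1; rw [← e]; exact hsq) with
      h | h
    · exact absurd (hvw.trans (by rw [e.trans h]; group)) hv.2
    · exact Or.inl (by rw [hvw, (e.trans h).trans C.four_z, (C.commute_z hu).eq, mul_inv_cancel_right])
  · exact Or.inr ⟨u, hu, i, by rw [hvw, e]⟩

theorem not_commute_refl {p : ℕ} [Fact p.Prime] (hN : C.NoCentral p) {Q : Subgroup G}
    (hQ : IsPGroup p Q) (hQU : Q ≤ C.U) (hQi : ¬ p ∣ Q.relIndex C.U) {u : G} (hu : u ∈ C.H) (i : ℤ) :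
    ¬ ∀ x ∈ Q, Commute x (u * (C.s ^ i * C.t) * u⁻¹) := by
  intro hc
  obtain ⟨l, hl⟩ := C.exists_std_refl i
  set g : G := u * C.s ^ l with hg
  have hgn : g⁻¹ ∈ normalizer (C.U : Set G) :=
    C.H_le_normalizer_U (inv_mem (mul_mem hu (zpow_mem C.s_mem_H l)))
  set R := Q.map (MulAut.conj g⁻¹).toMonoidHom with hR
  have hRU : R ≤ C.U := by
    rintro _ ⟨x, hx, rfl⟩
    exact conj_mem hgn (hQU hx)
  have hRi : ¬ p ∣ R.relIndex C.U := by
    have hU : C.U.map (MulAut.conj g⁻¹).toMonoidHom = C.U := mem_normalizer_iff_map_conj_eq.1 hgn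
    rw [← hU, relIndex_map_map_of_injective _ _ (MulAut.conj g⁻¹).injective]
    exact hQi
  have key : ∀ w : G, u * (C.s ^ i * C.t) * u⁻¹ = g * w * g⁻¹ → ∀ y ∈ R, Commute y w := by
    rintro w hw _ ⟨x, hx, rfl⟩
    have h := (Commute.conj_iff g⁻¹).2 (hc x hx)
    rwa [hw, show g⁻¹ * (g * w * g⁻¹) * g⁻¹⁻¹ = w by group] at h
  rcases hl with e | e
  · exact (hN R (hQ.map _) hRU hRi).1 (key _ (by rw [e, hg]; group))
  · exact (hN R (hQ.map _) hRU hRi).2 (key _ (by rw [e, hg]; group))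

/-- The normaliser lemma. -/
theorem normalizer_le {p : ℕ} [Fact p.Prime] (hN : C.NoCentral p) {X : Subgroup G}
    (hzX : ∀ x ∈ X, Commute x C.z) (hCX : centralizer (X : Set G) ≤ C.H)
    (hP : ∃ Q : Subgroup G, IsPGroup p Q ∧ Q ≤ C.U ∧ ¬ p ∣ Q.relIndex C.U ∧ Q ≤ normalizer (X : Set G)) :
    normalizer (X : Set G) ≤ C.H := by
  intro g hg
  set b := g * C.z * g⁻¹ with hb
  have hbI : Inv b := C.inv_z.conj g
  have hbC : b ∈ centralizer (X : Set G) := mem_centralizer_iff.2 fun x hx => by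
    have h2 := (Commute.conj_iff g).2 (hzX _ (conj_mem' hg hx))
    rw [show g * (g⁻¹ * x * g) * g⁻¹ = x by group] at h2
    exact h2.eq
  rcases C.exists_conj_of_inv hbI (hCX hbC) with e | ⟨u, hu, i, e⟩
  · exact C.mem_H.2 (mul_inv_eq_iff_eq_mul.1 (hb ▸ e))
  exfalso
  set A := zpowers b with hA
  set K := C.U ⊓ normalizer (X : Set G) with hK
  have hKo : Odd (Nat.card K) := C.odd_U.of_dvd_nat (card_dvd_of_le inf_le_left)
  have hAn : A ≤ normalizer (K : Set G) := zpowers_le.2 (by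
    refine mem_normalizer_iff.2 fun x => ?_
    rw [hK, mem_inf, mem_inf]
    have h1 : b ∈ normalizer (X : Set G) := centralizer_le_normalizer _ hbC
    have h2 : b ∈ normalizer (C.U : Set G) := C.H_le_normalizer_U (hCX hbC)
    refine and_congr (mem_normalizer_iff.1 h2 x) ⟨fun hx => mul_mem (mul_mem h1 hx) (inv_mem h1),
      fun hx => ?_⟩
    have := mul_mem (mul_mem (inv_mem h1) hx) h1
    rwa [show b⁻¹ * (b * x * b⁻¹) * b = x by group] at this)
  have hcop : (Nat.card A).Coprime (Nat.card K) := by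
    rw [hA, Nat.card_zpowers, hbI.orderOf]
    exact Nat.coprime_two_left.2 hKo
  obtain ⟨S, hS⟩ := CfsgLib.CoprimeAct.exists_invariant_sylow (K := K) hAn hcop
    (Or.inl (Group.isSolvable_of_comm fun x y => by
      obtain ⟨i, hi⟩ := mem_zpowers_iff.1 x.2
      obtain ⟨j, hj⟩ := mem_zpowers_iff.1 y.2
      exact Subtype.ext (by simp only [Subgroup.coe_mul, ← hi, ← hj, ← zpow_add, add_comm]))) p
  set Q' := (S : Subgroup K).map K.subtype with hQ'
  have hQ'K : Q' ≤ K := map_subtype_le _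
  have hQ'p : IsPGroup p Q' := S.2.map _
  have hQ'i : ¬ p ∣ Q'.relIndex C.U := by
    obtain ⟨Q, hQp, hQU, hQi, hQX⟩ := hP
    have hle : Nat.card Q ∣ Nat.card Q' := by
      have hQK : Q ≤ K := le_inf hQU hQX
      obtain ⟨T, hT⟩ := (hQp.comap_subtype (K := K)).exists_le_sylow
      rw [← Nat.card_congr (subgroupOfEquivOfLe hQK).toEquiv, hQ',
        card_map_of_injective K.subtype_injective]
      exact (card_dvd_of_le hT).trans
        (by rw [T.card_eq_multiplicity, S.card_eq_multiplicity])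
    obtain ⟨m, hm⟩ := hle
    intro h
    refine hQi (h.trans ⟨m, ?_⟩)
    have e1 := relIndex_mul_relIndex ⊥ Q C.U bot_le hQU
    have e2 := relIndex_mul_relIndex ⊥ Q' C.U bot_le (hQ'K.trans inf_le_left)
    rw [relIndex_bot_left, relIndex_bot_left] at e1 e2
    rw [hm, ← e1, mul_assoc] at e2
    rw [mul_comm, ← Nat.eq_of_mul_eq_mul_left Nat.card_pos e2]
  have hcomm : ∀ x ∈ Q', Commute x b := by
    intro x hx
    set d := b * x * b⁻¹ * x⁻¹ with hd
    have hbn : b ∈ normalizer (Q' : Set G) := hS (mem_zpowers b)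
    have hdQ : d ∈ Q' := mul_mem (conj_mem hbn hx) (inv_mem hx)
    have hdC : d ∈ centralizer (X : Set G) := by
      have hxn : x ∈ normalizer (X : Set G) := (hQ'K hx).2
      have h1 : x * b⁻¹ * x⁻¹ ∈ centralizer (X : Set G) := mem_centralizer_iff.2 fun w hw => by
        have h2 : Commute (x⁻¹ * w * x) b⁻¹ :=
          (mem_centralizer_iff.1 (inv_mem hbC) _ (conj_mem' hxn hw) : _)
        have h3 := (Commute.conj_iff x).2 h2
        rw [show x * (x⁻¹ * w * x) * x⁻¹ = w by group] at h3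
        exact h3.eq
      have h4 := mul_mem hbC h1
      rwa [show b * (x * b⁻¹ * x⁻¹) = d by rw [hd]; group] at h4
    have hdb : Commute d b := by
      have h1 : g⁻¹ * d * g ∈ centralizer (X : Set G) := mem_centralizer_iff.2 fun w hw => by
        have h2 : Commute (g * w * g⁻¹) d := mem_centralizer_iff.1 hdC _ (conj_mem hg hw)
        have := (Commute.conj_iff g⁻¹).2 h2
        simpa [mul_assoc] using this.eq
      have h2 := (Commute.conj_iff g).2 (C.mem_H.1 (hCX h1))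
      rwa [show g * (g⁻¹ * d * g) * g⁻¹ = d by group] at h2
    have hdd : d⁻¹ = d := by
      have h1 : b * d * b⁻¹ = d⁻¹ := by
        rw [hd, hbI.inv_eq]
        simp only [mul_inv_rev, inv_inv, hbI.inv_eq, mul_assoc, ← mul_assoc b b, hbI.1, one_mul]
      rw [← h1, ← hdb.eq, mul_inv_cancel_right]
    have := eq_one_of_inv_eq hdd (odd_orderOf hKo (hQ'K hdQ))
    exact (mul_inv_eq_iff_eq_mul.1 (mul_inv_eq_one.1 this)).symm
  exact C.not_commute_refl hN hQ'p (hQ'K.trans inf_le_left) hQ'i (C.U_le_H hu) i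
    fun x hx => e ▸ hcomm x hx

theorem normalizer_zj_le (hmax : IsCoatom C.H) {p : ℕ} [Fact p.Prime] (hp : C.Good p)
    {Q : Subgroup G} (hQ : C.SylowU p Q) :
    normalizer (Cfsg.centerThompsonAOf Q : Set G) ≤ C.H := by
  obtain ⟨-, hp2, hpO, hN⟩ := hp
  set X := Cfsg.centerThompsonAOf Q with hX
  have hXQ : X ≤ Q := centerThompsonAOf_le Q
  have hNX : normalizer (Q : Set G) ≤ normalizer (X : Set G) := normalizer_le_centerThompsonAOf Q
  set X0 := X ⊓ Op p C.H with hX0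
  have hX01 : X0 ≠ ⊥ := by
    haveI := hQ.isPGroup.isNilpotent
    have hle : Op p C.H ≤ Q := C.Op_le_of_sylow hQ.isPGroup hQ.le hQ.index
    haveI : ((Op p C.H).subgroupOf Q).Normal := (normal_subgroupOf_iff_le_normalizer hle).2
      ((hQ.le.trans C.U_le_H).trans (CfsgLib.DGroup.le_normalizer_Op p C.H))
    have h1 := CfsgLib.PGroupBasic.inf_center_ne_bot ((Op p C.H).subgroupOf Q) (fun h => hpO (by
      rwa [subgroupOf_eq_bot, disjoint_iff, inf_eq_left.2 hle] at h))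
    intro h
    refine h1 ((eq_bot_iff_forall _).2 fun z hz => ?_)
    have : (z : G) ∈ X0 := ⟨mem_centerThompsonAOf z.2 fun x hx => by
      have := congrArg Subtype.val (mem_center_iff.1 hz.2 ⟨x, hx⟩)
      exact this.symm, hz.1⟩
    rw [h, mem_bot] at this
    exact Subtype.ext this
  have hV : (C.P : Subgroup G) ≤ normalizer (X0 : Set G) := fun v hv => mem_normalizer_iff.2 fun x => by
    rw [hX0, mem_inf, mem_inf]
    exact and_congr (mem_normalizer_iff.1 (hNX (hQ.P_le hv)) x)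
      (mem_normalizer_iff.1 (CfsgLib.DGroup.le_normalizer_Op p C.H (C.P_le_H hv)) x)
  have hU : C.U ≤ normalizer (X0 : Set G) := by
    let S : Sylow p C.U := (hQ.isPGroup.comap_subtype (K := C.U)).toSylow hQ.index
    have hmap : (S : Subgroup C.U).map C.U.subtype = Q := map_subgroupOf_eq_of_le hQ.le
    have hzj : X = (Cfsg.centerThompsonAOf (S : Subgroup C.U)).map C.U.subtype := by
      rw [hX, ← hmap]
      exact CfsgLib.ZJ.centerThompsonAOf_map _ _ fun x _ h => C.U.subtype_injective (h.trans (map_one _).symm)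
    haveI := (CfsgLib.Solvable.pPrimeCore_spec (G := C.U) p).1
    have hs := sup_normalizer_zj (p := p) C.odd_U hp2 S
    intro u hu
    have hn : normalizer (Cfsg.centerThompsonAOf (S : Subgroup C.U) : Set C.U) ≤
        normalizer ((Cfsg.pPrimeCore p C.U) : Set C.U) := by
      rw [normalizer_eq_top (H := Cfsg.pPrimeCore p C.U)]; exact le_top
    obtain ⟨k, hk, n, hn', hkn⟩ := (CfsgLib.Solvable.mem_sup_of_le_normalizer hn).1
      (sup_comm (Cfsg.pPrimeCore p C.U) _ ▸ hs ▸ mem_top (⟨u, hu⟩ : C.U))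
    have e : u = (k : G) * (n : G) := (congrArg Subtype.val hkn).symm
    rw [e]
    refine mul_mem ?_ ?_
    · refine mem_normalizer_iff.2 fun x => ?_
      have h1 : (k : G) ∈ normalizer (X : Set G) := by
        rw [hzj]; exact le_normalizer_map C.U.subtype ⟨k, hk, rfl⟩
      rw [hX0, mem_inf, mem_inf]
      exact and_congr (mem_normalizer_iff.1 h1 x) (mem_normalizer_iff.1
        (CfsgLib.DGroup.le_normalizer_Op p C.H (C.U_le_H k.2)) x)
    · refine centralizer_le_normalizer _ (mem_centralizer_iff.2 fun x hx => ?_)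
      obtain ⟨x', hx', rfl⟩ : x ∈ (Cfsg.pCore p C.U).map C.U.subtype := hx.2
      have hdis : Disjoint (Cfsg.pCore p C.U) (Cfsg.pPrimeCore p C.U) := disjoint_iff.2
        (CfsgLib.ZJ.isPGroup_inf_coprime (CfsgLib.Solvable.isPGroup_pCore p)
          (CfsgLib.Solvable.coprime_card_pPrimeCore p))
      exact congrArg Subtype.val (Subgroup.commute_of_normal_of_disjoint _ _
        (CfsgLib.Solvable.pCore_spec (G := C.U) p).1 inferInstance hdis x' n hx' hn').eq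
  have hHX0 : C.H ≤ normalizer (X0 : Set G) := fun h hh => by
    obtain ⟨u, hu, v, hv, rfl⟩ := C.exists_mul_P hh
    exact mul_mem (hU hu) (hV hv)
  have hNX0 := C.normalizer_eq_H hmax hX01
    ((inf_le_left.trans hXQ).trans (hQ.le.trans C.U_le_H)) hHX0
  have hCX : centralizer (X : Set G) ≤ C.H := by
    rw [← hNX0]
    exact (centralizer_le (inf_le_left : X0 ≤ X)).trans (centralizer_le_normalizer _)
  exact C.normalizer_le hN (fun x hx => C.commute_z (hQ.le (hXQ hx))) hCX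
    ⟨Q, hQ.isPGroup, hQ.le, hQ.index, (le_normalizer (H := Q)).trans hNX⟩

theorem normalizer_sylowU_le (hmax : IsCoatom C.H) {p : ℕ} [Fact p.Prime] (hp : C.Good p)
    {Q : Subgroup G} (hQ : C.SylowU p Q) : normalizer (Q : Set G) ≤ C.H :=
  (normalizer_le_centerThompsonAOf Q).trans (C.normalizer_zj_le hmax hp hQ)

theorem exists_sylow_eq (hmax : IsCoatom C.H) {p : ℕ} [Fact p.Prime] (hp : C.Good p)
    {Q : Subgroup G} (hQ : C.SylowU p Q) : ∃ S : Sylow p G, (S : Subgroup G) = Q := by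
  obtain ⟨S, hS⟩ := hQ.isPGroup.exists_le_sylow
  refine ⟨S, (eq_of_le_of_not_lt hS fun hlt => ?_).symm⟩
  obtain ⟨Z, hQZ, hZS, hZn⟩ := CfsgLib.Bender.GSide.exists_between hlt S.2
  have hZp := S.2.to_le hZS
  have hZU : Z ≤ C.U := fun z hz => C.mem_U_of_odd (C.normalizer_sylowU_le hmax hp hQ (hZn hz))
    (mem_of_pow_prime_pow hp.1 hp.2.1 (exists_pow_of_isPGroup hZp hz))
  let T : Sylow p C.U := (hQ.isPGroup.comap_subtype (K := C.U)).toSylow hQ.index
  have h := T.3 (hZp.comap_subtype (K := C.U)) (comap_mono hQZ.le)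
  obtain ⟨z, hz, hzQ⟩ := SetLike.exists_of_lt hQZ
  have hmem : (⟨z, hZU hz⟩ : C.U) ∈ Z.comap C.U.subtype := hz
  rw [h] at hmem
  exact hzQ hmem

/-- `H` controls `p`-fusion. -/
theorem exists_conj_of_fused (hmax : IsCoatom C.H) {p : ℕ} [Fact p.Prime] (hp : C.Good p)
    {x y g : G} (hx : x ∈ C.U) (hy : y ∈ C.U) (hxp : ∃ k, x ^ p ^ k = 1)
    (hg : g * x * g⁻¹ = y) : ∃ h ∈ C.H, h * x * h⁻¹ = y := by
  obtain ⟨Q, hQ⟩ := C.exists_sylowU p
  obtain ⟨S, hS⟩ := C.exists_sylow_eq hmax hp hQ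
  let T : Sylow p C.U := (hQ.isPGroup.comap_subtype (K := C.U)).toSylow hQ.index
  have move : ∀ z ∈ C.U, (∃ k, z ^ p ^ k = 1) → ∃ u ∈ C.U, u * z * u⁻¹ ∈ Q := by
    intro z hz hzp
    obtain ⟨k, hk⟩ := hzp
    obtain ⟨j, -, hj⟩ := (Nat.dvd_prime_pow (Fact.out : p.Prime)).1 (orderOf_dvd_of_pow_eq_one hk)
    obtain ⟨T', hT'⟩ := (IsPGroup.of_card (p := p) (n := j) (by
      rw [Nat.card_zpowers, ← Subgroup.orderOf_coe]; exact hj) :
      IsPGroup p (zpowers (⟨z, hz⟩ : C.U))).exists_le_sylow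
    obtain ⟨u, hu⟩ := MulAction.exists_smul_eq C.U T' T
    have hm : u * ⟨z, hz⟩ * u⁻¹ ∈ (T : Subgroup C.U) := by
      rw [← hu]; exact ⟨⟨z, hz⟩, hT' (mem_zpowers _), rfl⟩
    exact ⟨u, u.2, hm⟩
  have hyp : ∃ k, y ^ p ^ k = 1 := by
    obtain ⟨k, hk⟩ := hxp
    exact ⟨k, by rw [← hg, conj_pow, hk]; group⟩
  obtain ⟨u, hu, hux⟩ := move x hx hxp
  obtain ⟨w, hw, hwy⟩ := move y hy hyp
  have hA : zpowers (u * x * u⁻¹) ≤ (S : Subgroup G) := zpowers_le.2 (hS ▸ hux)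
  have hgA : (w * g * u⁻¹) ⋆ zpowers (u * x * u⁻¹) ≤ (S : Subgroup G) := by
    rw [MonoidHom.map_zpowers, zpowers_le, hS]
    show w * g * u⁻¹ * (u * x * u⁻¹) * (w * g * u⁻¹)⁻¹ ∈ Q
    rw [show w * g * u⁻¹ * (u * x * u⁻¹) * (w * g * u⁻¹)⁻¹ = w * (g * x * g⁻¹) * w⁻¹ by group, hg]
    exact hwy
  obtain ⟨k, hk, hkA⟩ := CfsgLib.ZJ.control_of_free hp.2.1
    (CfsgLib.ZJ.zkind_centerThompsonA hp.2.1) G (C.not_involves_qd hp.2.1) S _
    (CfsgLib.ZJ.stronglyClosed_self S) _ _ hA hgA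
  have hkH : k ∈ C.H := C.normalizer_zj_le hmax hp hQ (hS ▸ hk)
  refine ⟨w⁻¹ * k * u, mul_mem (mul_mem (inv_mem (C.U_le_H hw)) hkH) (C.U_le_H hu), ?_⟩
  calc w⁻¹ * k * u * x * (w⁻¹ * k * u)⁻¹
      = w⁻¹ * (k * (u * x * u⁻¹) * k⁻¹) * w := by group
    _ = w⁻¹ * (w * g * u⁻¹ * (u * x * u⁻¹) * (w * g * u⁻¹)⁻¹) * w := by
        rw [hkA _ (mem_zpowers _)]
    _ = y := by rw [← hg]; group

/-- The centraliser of a fixed `p`-element moves `z` to both other involutions of `V1`. -/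
theorem exists_fuse_centralizer (hmax : IsCoatom C.H) {p : ℕ} [Fact p.Prime] (hp : C.Good p) {d : G}
    (hd : d ∈ C.D1) (hdp : ∃ k, d ^ p ^ k = 1) :
    (∃ g ∈ centralizer ({d} : Set G), g * C.z * g⁻¹ = C.t) ∧
      ∃ g ∈ centralizer ({d} : Set G), g * C.z * g⁻¹ = C.z * C.t := by
  obtain ⟨hdU, hdt⟩ := C.mem_D1.1 hd
  have hdz := C.commute_z hdU
  obtain ⟨r, h1, h2, h3⟩ := C.exists_rho
  have key : ∀ g : G, ∀ v : G, g * C.z * g⁻¹ = v → g⁻¹ * d * g ∈ C.U →
      ∃ k ∈ centralizer ({d} : Set G), k * C.z * k⁻¹ = v := by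
    intro g v hgv hU
    obtain ⟨h, hh, hhd⟩ := C.exists_conj_of_fused hmax hp hdU hU hdp (g := g⁻¹) (by rw [inv_inv])
    refine ⟨g * h, mem_centralizer_singleton_iff.2 (mul_inv_eq_iff_eq_mul.1 ?_), ?_⟩
    · rw [show g * h * d * (g * h)⁻¹ = g * (h * d * h⁻¹) * g⁻¹ by group, hhd]
      group
    · rw [show g * h * C.z * (g * h)⁻¹ = g * (h * C.z * h⁻¹) * g⁻¹ by group,
        (C.mem_H.1 hh).eq, mul_inv_cancel_right, hgv]
  have hcz : ∀ g v : G, g * C.z * g⁻¹ = v → Commute d v → g⁻¹ * d * g ∈ C.U := by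
    intro g v hgv hdv
    refine C.mem_U_of_odd (C.mem_H.2 ?_) ?_
    · have := (Commute.conj_iff g⁻¹).2 hdv
      rwa [inv_inv, ← hgv, show g⁻¹ * (g * C.z * g⁻¹) * g = C.z by group] at this
    · have := CfsgLib.Invol.orderOf_conj_eq g⁻¹ d
      rw [inv_inv] at this
      rw [this]; exact odd_orderOf C.odd_D1 hd
  have h4 : r * r * C.z * (r * r)⁻¹ = C.z * C.t := by
    rw [show r * r * C.z * (r * r)⁻¹ = r * (r * C.z * r⁻¹) * r⁻¹ by group, h1, h2]
  exact ⟨key r _ h1 (hcz r _ h1 hdt), key (r * r) _ h4 (hcz _ _ h4 (hdz.mul_right hdt))⟩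

/-- The centraliser of a fixed `p`-element has fusion. -/
theorem fus_centralizer (hmax : IsCoatom C.H) {p : ℕ} [Fact p.Prime] (hp : C.Good p) {d : G}
    (hd : d ∈ C.D1) (hdp : ∃ k, d ^ p ^ k = 1) :
    Fused (centralizer ({d} : Set G)) C.z C.t := by
  have hf := C.exists_fuse_centralizer hmax hp hd hdp
  obtain ⟨hdU, hdt⟩ := C.mem_D1.1 hd
  exact ⟨mem_centralizer_singleton_iff.2 (C.commute_z hdU).symm.eq,
    mem_centralizer_singleton_iff.2 hdt.symm.eq, hf.1, hf.2⟩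

theorem index_modEq_one (hmax : IsCoatom C.H) {p : ℕ} [Fact p.Prime] (hp : C.Good p) :
    C.H.index ≡ 1 [MOD p] := by
  obtain ⟨P, hP⟩ := C.exists_sylowU p
  have h := hP.isPGroup.card_modEq_card_fixedPoints (α := G ⧸ C.H)
  have h1 : Nat.card (MulAction.fixedPoints P (G ⧸ C.H)) = 1 := by
    rw [Nat.card_eq_one_iff_unique]
    have key : ∀ g : G, (QuotientGroup.mk g : G ⧸ C.H) ∈ MulAction.fixedPoints P (G ⧸ C.H) →
        g ∈ C.H := by
      intro g hg
      have hPg : ∀ x ∈ P, g⁻¹ * x * g ∈ C.H := fun x hx => by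
        have h2 : (QuotientGroup.mk (x * g) : G ⧸ C.H) = QuotientGroup.mk g := hg ⟨x, hx⟩
        have := QuotientGroup.eq.1 h2.symm
        rwa [← mul_assoc] at this
      let T : Sylow p C.U := (hP.isPGroup.comap_subtype (K := C.U)).toSylow hP.index
      have hsub : ∀ x ∈ P, g⁻¹ * x * g ∈ C.U := fun x hx => C.mem_U_of_odd (hPg x hx) (by
        have := CfsgLib.Invol.orderOf_conj_eq g⁻¹ x
        rw [inv_inv] at this
        rw [this]
        exact mem_of_pow_prime_pow hp.1 hp.2.1 (exists_pow_of_isPGroup hP.isPGroup hx))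
      set Q := (P.map (MulAut.conj g⁻¹).toMonoidHom).subgroupOf C.U with hQ
      have hQp : IsPGroup p Q := (hP.isPGroup.map _).comap_subtype
      obtain ⟨T', hT'⟩ := hQp.exists_le_sylow
      obtain ⟨u, hu⟩ := MulAction.exists_smul_eq C.U T' T
      have hle : P.map (MulAut.conj ((u : G) * g⁻¹)).toMonoidHom ≤ P := by
        rintro _ ⟨x, hx, rfl⟩
        have hm : u * ⟨g⁻¹ * x * g, hsub x hx⟩ * u⁻¹ ∈ (T : Subgroup C.U) := by
          rw [← hu]
          refine ⟨⟨g⁻¹ * x * g, hsub x hx⟩, hT' ⟨x, hx, ?_⟩, rfl⟩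
          show g⁻¹ * x * g⁻¹⁻¹ = g⁻¹ * x * g
          rw [inv_inv]
        show (u : G) * g⁻¹ * x * ((u : G) * g⁻¹)⁻¹ ∈ P
        rw [show (u : G) * g⁻¹ * x * ((u : G) * g⁻¹)⁻¹ = u * (g⁻¹ * x * g) * (u : G)⁻¹ by group]
        exact hm
      have hn : (u : G) * g⁻¹ ∈ normalizer (P : Set G) := mem_normalizer_iff_map_conj_eq.2
        (eq_of_le_of_card_ge hle
          (card_map_of_injective (MulAut.conj ((u : G) * g⁻¹)).injective).ge)
      have h3 := mul_mem (inv_mem (C.normalizer_sylowU_le hmax hp hP hn)) (C.U_le_H u.2)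
      rwa [show ((u : G) * g⁻¹)⁻¹ * u = g by group] at h3
    refine ⟨⟨?_⟩, ⟨⟨QuotientGroup.mk 1, fun x => ?_⟩⟩⟩
    · rintro ⟨a, ha⟩ ⟨b, hb⟩
      obtain ⟨g, rfl⟩ := QuotientGroup.mk_surjective a
      obtain ⟨k, rfl⟩ := QuotientGroup.mk_surjective b
      exact Subtype.ext (QuotientGroup.eq.2 (mul_mem (inv_mem (key g ha)) (key k hb)))
    · show (QuotientGroup.mk ((x : G) * 1) : G ⧸ C.H) = QuotientGroup.mk 1
      rw [mul_one]
      exact QuotientGroup.eq.2 (by simpa using C.U_le_H (hP.le x.2))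
  rw [h1] at h
  exact h

end CfsgLib.GW.Eight.Ctx
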