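import Cfsg.Agent.GW.Eight.Layer
import Cfsg.Agent.GW.Eight.CoreEigen
import Cfsg.Agent.GW.Eight.Invol
import Cfsg.Agent.GW.Eight.Normalizer

/-!
# Gorenstein–Walter, `|S| ≥ 8`: the supply of tori

For a good prime `p` and `d ∈ D1 ∩ O_p(H)` the centraliser of `d` has its odd core in `D1` and moves
`z` to every reflection `r t` commuting with `d`, so the tori exist.
-/

set_option autoImplicit false
set_option linter.style.haveILetI false
set_option linter.unusedSectionVars false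

namespace CfsgLib.GW.Eight

open Subgroup
open CfsgLib.DGroup (coreIn Op odd_orderOf)

universe u

variable {G : Type u} [Group G] [Fintype G] [Fact (Nat.Prime 2)]

namespace Ctx

variable (C : Ctx G)

/-- Every reflection `r t` of the Sylow subgroup is conjugate to `z`. -/
theorem exists_conj_refl {r : G} (hr : r ∈ zpowers C.s) : ∃ g : G, g * C.z * g⁻¹ = r * C.t := by
  have hP : r * C.t ∈ (C.P : Subgroup G) :=
    mul_mem (zpowers_le.2 C.data.σ_mem hr) C.data.τ_mem
  have hI : CfsgLib.NormCyclic.Inv (r * C.t) := by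
    refine ⟨?_, fun h => C.t_not_rot ?_⟩
    · have h := C.data.conj_τ hr
      rw [show r * C.t * (r * C.t) = r * (C.t * r * C.t) by group]
      rw [show C.t * r * C.t = C.t * r * C.t⁻¹ by rw [C.inv_t.inv_eq], h, mul_inv_cancel]
    · rw [eq_inv_of_mul_eq_one_right h]
      exact inv_mem hr
  obtain ⟨g₁, hg₁⟩ := isConj_iff.1 C.conj.1
  obtain ⟨g₂, hg₂⟩ := isConj_iff.1 C.conj.2
  change g₁ * C.z * g₁⁻¹ = C.t at hg₁
  change g₂ * C.z * g₂⁻¹ = C.s * C.t at hg₂
  rcases C.invol_cases (C.P_le_H hP) hI with h | ⟨c, -, h⟩ | ⟨c, -, h⟩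
  · exact ⟨1, by rw [h]; group⟩
  · exact ⟨c * g₁, by rw [← h, ← hg₁]; group⟩
  · exact ⟨c * g₂, by rw [← h, ← hg₂]; group⟩

/-- A `p`-element of `U` commuting with a conjugate of `z` has a centraliser moving `z` there. -/
theorem exists_move_centralizer (hmax : IsCoatom C.H) {p : ℕ} [Fact p.Prime] (hp : C.Good p)
    {d : G} (hdU : d ∈ C.U) (hdp : ∃ k, d ^ p ^ k = 1) {g v : G} (hgv : g * C.z * g⁻¹ = v)
    (hdv : Commute d v) : ∃ k ∈ centralizer ({d} : Set G), k * C.z * k⁻¹ = v := by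
  have hU : g⁻¹ * d * g ∈ C.U := by
    refine C.mem_U_of_odd (C.mem_H.2 ?_) ?_
    · have := (Commute.conj_iff g⁻¹).2 hdv
      rwa [inv_inv, ← hgv, show g⁻¹ * (g * C.z * g⁻¹) * g = C.z by group] at this
    · have := CfsgLib.Invol.orderOf_conj_eq g⁻¹ d
      rw [inv_inv] at this
      rw [this]; exact odd_orderOf C.odd_U hdU
  obtain ⟨h, hh, hhd⟩ := C.exists_conj_of_fused hmax hp hdU hU hdp (g := g⁻¹) (by rw [inv_inv])
  refine ⟨g * h, mem_centralizer_singleton_iff.2 (mul_inv_eq_iff_eq_mul.1 ?_), ?_⟩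
  · rw [show g * h * d * (g * h)⁻¹ = g * (h * d * h⁻¹) * g⁻¹ by group, hhd]
    group
  · rw [show g * h * C.z * (g * h)⁻¹ = g * (h * C.z * h⁻¹) * g⁻¹ by group,
      (C.mem_H.1 hh).eq, mul_inv_cancel_right, hgv]

/-- The centraliser of an eigenvector in `D1 ∩ O_p(H)` moves `z` to the reflections it contains. -/
theorem exists_move_refl (hmax : IsCoatom C.H) {p : ℕ} [Fact p.Prime] (hp : C.Good p) {d : G}
    (hdD : d ∈ C.D1) (hdO : d ∈ Op p C.H) {r : G} (hr : r ∈ zpowers C.s)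
    (hc : Commute (r * C.t) d) : ∃ g ∈ centralizer ({d} : Set G), g * C.z * g⁻¹ = r * C.t := by
  obtain ⟨g, hg⟩ := C.exists_conj_refl hr
  exact C.exists_move_centralizer hmax hp (C.mem_D1.1 hdD).1
    (CfsgLib.GW.CaseI.exists_pow_of_isPGroup (CfsgLib.DGroup.isPGroup_Op p C.H) hdO) hg hc.symm

end Ctx

/-- The tori are supplied by their existence for every eigenvector. -/
theorem torus_supply_of
    (h : ∀ (C : Ctx G) {d : G}, d ∈ C.D1 → d ≠ 1 → coreIn (centralizer ({d} : Set G)) ≤ C.D1 →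
      (∀ r ∈ zpowers C.s, Commute (r * C.t) d →
        ∃ g ∈ centralizer ({d} : Set G), g * C.z * g⁻¹ = r * C.t) → Nonempty (Torus C d)) :
    TorusSupply G := fun C p _ hmax hp d hdD hdO hd1 he =>
  h C hdD hd1 (C.coreIn_le_D1_of_eigen hmax hp hdD hdO he)
    fun _ hr hc => C.exists_move_refl hmax hp hdD hdO hr hc

end CfsgLib.GW.Eight
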