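import Cfsg.Agent.GW.Eight.TorusModel
import Cfsg.Agent.GWApps.TwoInvol
import Cfsg.Agent.DoubleCoverInvol.Small

/-!
# The model of the torus argument for `A₇`

The elements of odd order commuting with an involution form a group of order three; a commuting element
centralises it and has order dividing six, or inverts it and has its square in the span of the involution.
-/

set_option autoImplicit false
set_option linter.style.haveILetI false
set_option linter.unusedSectionVars false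

namespace CfsgLib.GW.Eight.TorusBuild

open Equiv
open CfsgLib.NormCyclic (Inv)

set_option maxRecDepth 100000 in
/-- The permutations commuting with `(01)(23)`. -/
theorem a7_table : ∀ x : Perm (Fin 7),
    x * (swap 0 1 * swap 2 3) = swap 0 1 * swap 2 3 * x →
      x ^ 12 = 1 ∧
      (x ^ 3 = 1 → x = 1 ∨ x = swap 4 5 * swap 5 6 ∨ x = swap 4 5 * swap 5 6 * (swap 4 5 * swap 5 6)) ∧
      (Perm.sign x = 1 →
        (x * (swap 4 5 * swap 5 6) = swap 4 5 * swap 5 6 * x ∧ x ^ 6 = 1) ∨
        (x * (swap 4 5 * swap 5 6) = swap 5 6 * swap 4 5 * x ∧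
          (x * x = 1 ∨ x * x = swap 0 1 * swap 2 3))) := by
  decide +kernel

/-- The odd elements commuting with an involution, and the action of its centraliser on them. -/
theorem a7_data {ζ : alternatingGroup (Fin 7)} (hζ : ζ * ζ = 1) (hζ1 : ζ ≠ 1) :
    ∃ c : alternatingGroup (Fin 7), orderOf c = 3 ∧ Commute c ζ ∧
      (∀ x, Commute x ζ → Odd (orderOf x) → x = 1 ∨ x = c ∨ x = c * c) ∧
      ∀ x, Commute x ζ → (Commute x c ∧ x ^ 6 = 1) ∨
        (x * c * x⁻¹ = c⁻¹ ∧ (x * x = 1 ∨ x * x = ζ)) := by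
  have h0 : Perm.sign (swap 0 1 * swap 2 3 : Perm (Fin 7)) = 1 := by decide +kernel
  have h1 : Perm.sign (swap 4 5 * swap 5 6 : Perm (Fin 7)) = 1 := by decide +kernel
  set ζ₀ : alternatingGroup (Fin 7) := ⟨swap 0 1 * swap 2 3, Perm.mem_alternatingGroup.2 h0⟩ with hz0
  set c₀ : alternatingGroup (Fin 7) := ⟨swap 4 5 * swap 5 6, Perm.mem_alternatingGroup.2 h1⟩ with hc0
  have hf : ζ₀ * ζ₀ = 1 ∧ ζ₀ ≠ 1 ∧ c₀ ^ 3 = 1 ∧ c₀ ≠ 1 ∧ c₀ * ζ₀ = ζ₀ * c₀ ∧
      (c₀⁻¹ : alternatingGroup (Fin 7)).1 = swap 5 6 * swap 4 5 := by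
    refine ⟨Subtype.ext ?_, fun h => ?_, Subtype.ext ?_, fun h => ?_, Subtype.ext ?_, ?_⟩
    · show (swap 0 1 * swap 2 3 : Perm (Fin 7)) * (swap 0 1 * swap 2 3) = 1
      decide +kernel
    · have : (swap 0 1 * swap 2 3 : Perm (Fin 7)) = 1 := congrArg Subtype.val h
      revert this; decide +kernel
    · show (swap 4 5 * swap 5 6 : Perm (Fin 7)) ^ 3 = 1
      decide +kernel
    · have : (swap 4 5 * swap 5 6 : Perm (Fin 7)) = 1 := congrArg Subtype.val h
      revert this; decide +kernel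
    · show (swap 4 5 * swap 5 6 : Perm (Fin 7)) * (swap 0 1 * swap 2 3) =
        swap 0 1 * swap 2 3 * (swap 4 5 * swap 5 6)
      decide +kernel
    · show (swap 4 5 * swap 5 6 : Perm (Fin 7))⁻¹ = _
      rw [mul_inv_rev, swap_inv, swap_inv]
  obtain ⟨g, rfl⟩ := CfsgLib.DoubleCoverInvol.exists_conj_of_involution (le_refl 7) hf.1 hf.2.1 hζ hζ1
  set e := MulAut.conj g with he
  have hback : ∀ x, Commute x (g * ζ₀ * g⁻¹) → ∃ y, Commute y ζ₀ ∧ e y = x := fun x hx => by
    refine ⟨e.symm x, ?_, e.apply_symm_apply x⟩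
    have h := hx.map e.symm.toMonoidHom
    rwa [show e.symm.toMonoidHom (g * ζ₀ * g⁻¹) = ζ₀ from e.symm_apply_apply ζ₀] at h
  have htab : ∀ y, Commute y ζ₀ → _ := fun y hy =>
    a7_table (y : Perm (Fin 7)) (congrArg Subtype.val hy.eq)
  refine ⟨e c₀, ?_, ?_, fun x hx ho => ?_, fun x hx => ?_⟩
  · haveI : Fact (Nat.Prime 3) := ⟨Nat.prime_three⟩
    rw [e.orderOf_eq, orderOf_eq_prime hf.2.2.1 hf.2.2.2.1]
  · exact (show Commute c₀ ζ₀ from hf.2.2.2.2.1).map e.toMonoidHom
  · obtain ⟨y, hy, rfl⟩ := hback x hx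
    obtain ⟨h12, hlist, -⟩ := htab y hy
    rw [e.orderOf_eq, ← Subgroup.orderOf_coe] at ho
    have h3 : orderOf (y : Perm (Fin 7)) ∣ 3 := by
      have h4 : orderOf (y : Perm (Fin 7)) ∣ 4 * 3 := orderOf_dvd_of_pow_eq_one h12
      exact ((Nat.coprime_two_right.2 ho).pow_right 2).dvd_of_dvd_mul_left h4
    rcases hlist (orderOf_dvd_iff_pow_eq_one.1 h3) with h | h | h
    · exact Or.inl (by rw [show y = 1 from Subtype.ext h, map_one])
    · exact Or.inr (Or.inl (congrArg e (Subtype.ext h)))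
    · exact Or.inr (Or.inr (by rw [show y = c₀ * c₀ from Subtype.ext h, map_mul]))
  · obtain ⟨y, hy, rfl⟩ := hback x hx
    rcases (htab y hy).2.2 (Perm.mem_alternatingGroup.1 y.2) with ⟨h, h6⟩ | ⟨h, hsq⟩
    · exact Or.inl ⟨(show Commute y c₀ from Subtype.ext h).map e.toMonoidHom,
        by rw [← map_pow, show y ^ 6 = 1 from Subtype.ext h6, map_one]⟩
    · refine Or.inr ⟨?_, ?_⟩
      · rw [← map_inv, ← map_inv, ← map_mul, ← map_mul]
        refine congrArg e (mul_inv_eq_iff_eq_mul.2 (Subtype.ext ?_))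
        rw [Subgroup.coe_mul, Subgroup.coe_mul, hf.2.2.2.2.2]
        exact h
      · rcases hsq with h2 | h2
        · exact Or.inl (by rw [← map_mul, show y * y = 1 from Subtype.ext h2, map_one])
        · exact Or.inr (by rw [← map_mul, show y * y = ζ₀ from Subtype.ext h2]; rfl)

/-- The model for `A₇`. -/
theorem a7_model {ζ τ : alternatingGroup (Fin 7)} (hζ : ζ * ζ = 1) (hζ1 : ζ ≠ 1) (hτ : τ * τ = 1)
    (hc : Commute τ ζ) : Nonempty (Model ζ τ) := by
  obtain ⟨c, hco, hcz, hlist, hact⟩ := a7_data hζ hζ1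
  have hτi : τ⁻¹ = τ := inv_eq_of_mul_eq_one_right hτ
  have hfour : ∀ β : MulAut (alternatingGroup (Fin 7)), β * β = 1 →
      ∃ a b, Inv a ∧ Inv b ∧ a ≠ b ∧ Commute a b ∧ β a = a ∧ β b = b := by
    intro β hβ
    by_contra hcon
    push Not at hcon
    refine CfsgLib.GWApps.a7_four β hβ fun a b ha hb ha2 hb2 hab => ?_
    by_contra hne
    exact hcon a b (Inv.of_orderOf ha2) (Inv.of_orderOf hb2) hne hab ha hb
  rcases hact τ hc with ⟨hτc, -⟩ | ⟨hτc, -⟩
  · -- `τ` centralises the elements of odd order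
    refine ⟨{
      u := 1
      T := ⊥
      cyc := inferInstance
      card := Subgroup.card_bot
      odd_u := odd_one
      comm := fun x hx => by rw [Subgroup.mem_bot.1 hx]; exact Commute.one_left _
      inv := fun x hx => by rw [Subgroup.mem_bot.1 hx, mul_one, hτ, inv_one]
      mem := fun x hx ho hi => Subgroup.mem_bot.2 (CfsgLib.DGroup.eq_one_of_inv_eq ?_ ho)
      cent := fun h => absurd h (lt_irrefl 1)
      ID := (MulAut.conj : alternatingGroup (Fin 7) →* _).range
      inner := fun x => ⟨x, rfl⟩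
      four := fun β hβ _ => hfour β hβ
      fix := fun h => absurd h (lt_irrefl 1)
      outer := fun h => absurd h (lt_irrefl 1)
      simple := fun h => absurd h (lt_irrefl 1)
      fixed := fun h => absurd h (lt_irrefl 1) }⟩
    have hxc : Commute τ x := by
      rcases hlist x hx ho with rfl | rfl | rfl
      exacts [Commute.one_right _, hτc, hτc.mul_right hτc]
    rw [← hi, hxc.eq, mul_assoc, hτ, mul_one]
  · -- `τ` inverts them
    have hmem : ∀ x, Commute x ζ → Odd (orderOf x) → x ∈ Subgroup.zpowers c := fun x hx ho => by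
      rcases hlist x hx ho with rfl | rfl | rfl
      exacts [one_mem _, Subgroup.mem_zpowers _, mul_mem (Subgroup.mem_zpowers _) (Subgroup.mem_zpowers _)]
    refine ⟨{
      u := 3
      T := Subgroup.zpowers c
      cyc := inferInstance
      card := by rw [Nat.card_zpowers, hco]
      odd_u := by decide
      comm := fun x hx => by
        obtain ⟨i, rfl⟩ := Subgroup.mem_zpowers_iff.1 hx
        exact hcz.zpow_left i
      inv := fun x hx => by
        obtain ⟨i, rfl⟩ := Subgroup.mem_zpowers_iff.1 hx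
        calc τ * c ^ i * τ = τ * c ^ i * τ⁻¹ := by rw [hτi]
          _ = (c ^ i)⁻¹ := by rw [← conj_zpow, hτc, inv_zpow]
      mem := fun x hx ho _ => hmem x hx ho
      cent := fun _ => hmem
      ID := (MulAut.conj : alternatingGroup (Fin 7) →* _).range
      inner := fun x => ⟨x, rfl⟩
      four := fun β hβ _ => hfour β hβ
      fix := fun _ β hβ hβz => ?_
      outer := fun _ γ hγ _ hn => ?_
      simple := fun _ => alternatingGroup.isSimpleGroup (by simp)
      fixed := fun _ n hn hx => ?_ }⟩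
    · obtain ⟨x, rfl⟩ := hβ
      rw [MulAut.conj_apply] at hβz
      rcases hact x (mul_inv_eq_iff_eq_mul.1 hβz) with ⟨hxc, -⟩ | ⟨hxc, hsq⟩
      · refine Or.inr (Or.inl fun y hy => ?_)
        obtain ⟨i, rfl⟩ := Subgroup.mem_zpowers_iff.1 hy
        rw [MulAut.conj_apply, (hxc.zpow_right i).eq, mul_inv_cancel_right]
      · rcases hsq with h | h
        · exact Or.inl (by rw [← map_mul, h, map_one])
        · refine Or.inr (Or.inr ⟨⟨x, rfl⟩, by rw [← map_mul, h], fun y hy => ?_⟩)
          obtain ⟨i, rfl⟩ := Subgroup.mem_zpowers_iff.1 hy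
          rw [MulAut.conj_apply, ← conj_zpow, hxc, inv_zpow]
    · obtain ⟨x, rfl⟩ := hγ
      exact absurd rfl (hn x)
    · exfalso
      obtain ⟨x, hxo, hxz, hxT⟩ := hx
      rcases hact x hxz with ⟨-, h6⟩ | ⟨hxc, -⟩
      · have h : 2 ^ (n - 1) ∣ 6 := hxo ▸ orderOf_dvd_of_pow_eq_one h6
        have h4 : 2 ^ 2 ∣ 6 := (pow_dvd_pow 2 (show 2 ≤ n - 1 by omega)).trans h
        norm_num at h4
      · rw [(hxT c (Subgroup.mem_zpowers c)).eq, mul_inv_cancel_right] at hxc
        have h2 := CfsgLib.DGroup.eq_one_of_inv_eq hxc.symm (by rw [hco]; decide)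
        rw [h2, orderOf_one] at hco
        omega

end CfsgLib.GW.Eight.TorusBuild
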