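import Cfsg.Agent.GW.Eight.Setting

/-!
# A normal subgroup of `C(d)` mapping onto a simple model with kernel the odd core

Lifting of involutions and of fixed and inverted elements over an odd kernel, the automorphisms induced
on the model by the elements normalising the subgroup, and the absence of elementary abelian subgroups of
order eight.
-/

set_option autoImplicit false
set_option linter.style.haveILetI false
set_option linter.unusedSectionVars false

namespace CfsgLib.GW.Eight.TorusBuild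

open Subgroup
open CfsgLib.NormCyclic (Inv)
open CfsgLib.DGroup (coreIn conj_mem conj_mem' odd_orderOf eq_one_of_sq eq_one_of_inv_eq)

universe u

variable {G : Type u} [Group G]

/-- An element of odd order is the square of a power of itself. -/
theorem exists_half {w : G} (h : Odd (orderOf w)) : ∃ i : ℕ, w ^ i * w ^ i = w := by
  obtain ⟨k, hk⟩ := h
  refine ⟨k + 1, ?_⟩
  rw [← pow_add, show k + 1 + (k + 1) = orderOf w + 1 by omega, pow_succ, pow_orderOf_eq_one, one_mul]

/-- An involution fixed by `v` in the coset of `a` modulo the powers of `(v * a) ^ 2`. -/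
theorem exists_fixed_invol {v a : G} (hv : v * v = 1) (ha : a * a = 1)
    (ho : Odd (orderOf (v * a * v * a))) :
    ∃ i : ℕ, ((v * a * v * a) ^ i * a) * ((v * a * v * a) ^ i * a) = 1 ∧
      Commute ((v * a * v * a) ^ i * a) v := by
  have hvi : v⁻¹ = v := inv_eq_of_mul_eq_one_right hv
  have hai : a⁻¹ = a := inv_eq_of_mul_eq_one_right ha
  set w := v * a * v * a with hw
  obtain ⟨i, hi⟩ := exists_half ho
  have hwi : w⁻¹ = a * v * a * v := by
    rw [hw, mul_inv_rev, mul_inv_rev, mul_inv_rev, hvi, hai]; group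
  have hinv : ∀ b : G, b * b = 1 → b * w * b = w⁻¹ → b * w ^ i * b = (w ^ i)⁻¹ := fun b hb h => by
    have hbi : b⁻¹ = b := inv_eq_of_mul_eq_one_right hb
    calc b * w ^ i * b = b * w ^ i * b⁻¹ := by rw [hbi]
      _ = (w ^ i)⁻¹ := by rw [← conj_pow, hbi, h, inv_pow]
  have hva : v * w * v = w⁻¹ := by
    rw [hwi, hw]
    calc v * (v * a * v * a) * v = v * v * (a * v * a * v) := by group
      _ = a * v * a * v := by rw [hv, one_mul]
  have haa : a * w * a = w⁻¹ := by
    rw [hwi, hw]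
    calc a * (v * a * v * a) * a = a * v * a * v * (a * a) := by group
      _ = a * v * a * v := by rw [ha, mul_one]
  refine ⟨i, ?_, ?_⟩
  · calc w ^ i * a * (w ^ i * a) = w ^ i * (a * w ^ i * a) := by group
      _ = 1 := by rw [hinv a ha haa, mul_inv_cancel]
  · have h1 : v * a * v = w * a := by rw [hw, mul_assoc (v * a * v), ha, mul_one]
    have h2 : v * (w ^ i * a) * v = w ^ i * a := by
      calc v * (w ^ i * a) * v = v * w ^ i * (v * v) * (a * v) := by rw [hv]; group
        _ = v * w ^ i * v * (v * a * v) := by group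
        _ = (w ^ i)⁻¹ * (w ^ i * w ^ i) * a := by rw [hinv v hv hva, h1, hi]; group
        _ = w ^ i * a := by rw [inv_mul_cancel_left]
    calc w ^ i * a * v = v * (w ^ i * a) * v * v := by rw [h2]
      _ = v * (w ^ i * a) := by rw [mul_assoc _ v v, hv, mul_one]

/-- An element fixed by `v` in the coset of `y`. -/
theorem exists_fixed {v y : G} (hv : v * v = 1) (ho : Odd (orderOf (y⁻¹ * (v * y * v)))) :
    ∃ i : ℕ, Commute (y * (y⁻¹ * (v * y * v)) ^ i) v := by
  have hvi : v⁻¹ = v := inv_eq_of_mul_eq_one_right hv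
  set w := y⁻¹ * (v * y * v) with hw
  obtain ⟨i, hi⟩ := exists_half ho
  refine ⟨i, ?_⟩
  have h0 : v * w * v = w⁻¹ := by
    calc v * w * v = v * y⁻¹ * v * y * (v * v) := by rw [hw]; group
      _ = w⁻¹ := by rw [hv, mul_one, hw, mul_inv_rev, mul_inv_rev, mul_inv_rev, hvi, inv_inv]; group
  have h1 : v * w ^ i * v = (w ^ i)⁻¹ := by
    calc v * w ^ i * v = v * w ^ i * v⁻¹ := by rw [hvi]
      _ = (w ^ i)⁻¹ := by rw [← conj_pow, hvi, h0, inv_pow]
  have h2 : v * (y * w ^ i) * v = y * w ^ i := by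
    calc v * (y * w ^ i) * v = v * y * (v * v) * (w ^ i * v) := by rw [hv]; group
      _ = v * y * v * (v * w ^ i * v) := by group
      _ = y * (w ^ i * w ^ i) * (w ^ i)⁻¹ := by rw [h1, hi, hw, mul_inv_cancel_left]
      _ = y * w ^ i := by group
  calc y * w ^ i * v = v * (y * w ^ i) * v * v := by rw [h2]
    _ = v * (y * w ^ i) := by rw [mul_assoc _ v v, hv, mul_one]

/-- An element inverted by `z` in the coset of `y`, when `z` centralises the error term. -/
theorem exists_inverted_lift {z y : G} (hz : z * z = 1) (hzw : Commute z (z * y * z * y))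
    (ho : Odd (orderOf (z * y * z * y))) :
    ∃ i : ℕ, z * (y * ((z * y * z * y) ^ i)⁻¹) * z = (y * ((z * y * z * y) ^ i)⁻¹)⁻¹ := by
  set w := z * y * z * y with hw
  obtain ⟨i, hi⟩ := exists_half ho
  refine ⟨i, ?_⟩
  have h1 : z * w * z = w := by rw [hzw.eq, mul_assoc, hz, mul_one]
  have hyw : Commute y w := by
    show y * w = w * y
    calc y * w = y * (z * y * z) * y := by rw [hw]; group
      _ = z * z * (y * (z * y * z) * y) := by rw [hz, one_mul]
      _ = z * (z * y * z * y) * z * y := by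
          calc z * z * (y * (z * y * z) * y) = z * (z * y * z * y) * (z * y) := by group
            _ = _ := by group
      _ = w * y := by rw [← hw, h1]
  have h2 : z * (w ^ i)⁻¹ * z = (w ^ i)⁻¹ := by
    rw [((hzw.pow_right i).inv_right).eq, mul_assoc, hz, mul_one]
  refine eq_inv_of_mul_eq_one_left ?_
  calc z * (y * (w ^ i)⁻¹) * z * (y * (w ^ i)⁻¹)
      = z * y * (z * z) * (w ^ i)⁻¹ * z * y * (w ^ i)⁻¹ := by rw [hz]; group
    _ = z * y * z * (z * (w ^ i)⁻¹ * z) * y * (w ^ i)⁻¹ := by group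
    _ = z * y * z * ((w ^ i)⁻¹ * y) * (w ^ i)⁻¹ := by rw [h2]; group
    _ = z * y * z * y * (w ^ i * w ^ i)⁻¹ := by
        rw [((hyw.pow_right i).inv_right).eq.symm, mul_inv_rev]; group
    _ = 1 := by rw [hi, ← hw, mul_inv_cancel]

/-- An element with an odd power and the square in a subgroup lies in it. -/
theorem mem_of_odd_pow {K : Subgroup G} {x : G} {m : ℕ} (hm : Odd m) (h1 : x ^ m ∈ K)
    (h2 : x * x ∈ K) : x ∈ K := by
  obtain ⟨k, rfl⟩ := hm
  rw [pow_succ', pow_mul, pow_two] at h1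
  exact (mul_mem_cancel_right (pow_mem h2 k)).1 h1

section Finite

variable [Finite G]

/-- Conjugation by an element normalising `K` normalises its odd core. -/
theorem normalizer_le_normalizer_coreIn {K : Subgroup G} {x : G} (hx : x ∈ normalizer (K : Set G)) :
    x ∈ normalizer (coreIn K : Set G) := by
  set W := coreIn K with hW
  refine mem_normalizer_iff_map_conj_eq.2 (eq_of_le_of_card_ge (CfsgLib.DGroup.le_coreIn ?_ ?_ ?_)
    (card_map_of_injective (MulAut.conj x).injective).ge)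
  · rintro _ ⟨w, hw, rfl⟩
    exact conj_mem hx (CfsgLib.DGroup.coreIn_le K hw)
  · intro k hk
    refine mem_normalizer_iff_map_conj_eq.2 (eq_of_le_of_card_ge ?_
      (card_map_of_injective (MulAut.conj k).injective).ge)
    rintro _ ⟨_, ⟨w, hw, rfl⟩, rfl⟩
    refine ⟨x⁻¹ * k * x * w * (x⁻¹ * k * x)⁻¹, ?_, ?_⟩
    · exact conj_mem (CfsgLib.DGroup.normalizer_coreIn K (conj_mem' hx hk)) hw
    · show x * (x⁻¹ * k * x * w * (x⁻¹ * k * x)⁻¹) * x⁻¹ = k * (x * w * x⁻¹) * k⁻¹
      group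
  · rw [card_map_of_injective (MulAut.conj x).injective]
    exact CfsgLib.DGroup.odd_coreIn K

end Finite

/-- A normal subgroup of `K` mapping onto `Q` with kernel the odd core, self-centralising modulo it. -/
structure Socle (K : Subgroup G) (Q : Type) [Group Q] where
  L : Subgroup G
  φ : ↥L →* Q
  surj : Function.Surjective φ
  ker : ∀ x : L, φ x = 1 ↔ (x : G) ∈ coreIn K
  le : L ≤ K
  norm : K ≤ normalizer (L : Set G)
  W_le : coreIn K ≤ L
  selfcent : ∀ x ∈ K, (∀ y ∈ L, x * y * x⁻¹ * y⁻¹ ∈ coreIn K) → x ∈ coreIn K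

/-- The socle of a group of the prescribed shape. -/
theorem socle_of_shape {K : Subgroup G} {Q : Type} [Group Q] {L : Subgroup K} (hn : L.Normal)
    (hO : Cfsg.oddCore K ≤ L)
    (hc : ∀ x : K, (∀ y ∈ L, x * y * x⁻¹ * y⁻¹ ∈ Cfsg.oddCore K) → x ∈ Cfsg.oddCore K)
    (f : L →* Q) (hfs : Function.Surjective f) (hfk : f.ker = (Cfsg.oddCore K).subgroupOf L) :
    Nonempty (Socle K Q) := by
  set e := L.equivMapOfInjective K.subtype K.subtype_injective
  refine ⟨{
    L := L.map K.subtype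
    φ := f.comp e.symm.toMonoidHom
    surj := hfs.comp e.symm.surjective
    ker := fun x => ?_
    le := map_subtype_le L
    norm := fun k hk => le_normalizer_map K.subtype
      ⟨⟨k, hk⟩, by haveI := hn; rw [normalizer_eq_top]; exact mem_top _, rfl⟩
    W_le := map_mono hO
    selfcent := fun x hx h => ⟨⟨x, hx⟩, hc ⟨x, hx⟩ fun y hy => ?_, rfl⟩ }⟩
  · have hval : (((e.symm x : L) : K) : G) = x := congrArg Subtype.val (e.apply_symm_apply x)
    rw [show (f.comp e.symm.toMonoidHom) x = f (e.symm x) from rfl, ← MonoidHom.mem_ker, hfk,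
      mem_subgroupOf]
    constructor
    · exact fun h => ⟨_, h, hval⟩
    · rintro ⟨y, hy, hyx⟩
      have : y = ((e.symm x : L) : K) := Subtype.ext (hyx.trans hval.symm)
      exact this ▸ hy
  · obtain ⟨w, hw, e1⟩ := h y ⟨y, hy, rfl⟩
    have : w = ⟨x, hx⟩ * y * ⟨x, hx⟩⁻¹ * y⁻¹ := Subtype.ext e1
    exact this ▸ hw

namespace Socle

variable [Finite G] {K : Subgroup G} {Q : Type} [Group Q] (S : Socle K Q)
include S

theorem finite : Finite Q := Finite.of_surjective _ S.surj

theorem odd_W : Odd (Nat.card (coreIn K)) := CfsgLib.DGroup.odd_coreIn K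

theorem map_eq_iff {x y : S.L} : S.φ x = S.φ y ↔ (x : G)⁻¹ * y ∈ coreIn K := by
  rw [← inv_mul_eq_one, ← map_inv, ← map_mul, S.ker]
  rfl

theorem eq_of_map_eq {x y : S.L} (hx : (x : G) * x = 1) (hy : (y : G) * y = 1)
    (hW : ∀ w ∈ coreIn K, Commute w (x : G)) (h : S.φ x = S.φ y) : (x : G) = y := by
  set w := (x : G)⁻¹ * y with hw
  have hwW : w ∈ coreIn K := S.map_eq_iff.1 h
  have hyw : (y : G) = x * w := by rw [hw, mul_inv_cancel_left]
  have h2 : w * w = 1 := by
    rw [hyw, (hW w hwW).mul_mul_mul_comm, hx, one_mul] at hy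
    exact hy
  rw [hyw, eq_one_of_sq h2 (odd_orderOf S.odd_W hwW), mul_one]

theorem map_ne_one {x : S.L} (hx : (x : G) * x = 1) (hx1 : (x : G) ≠ 1) : S.φ x ≠ 1 := fun h =>
  hx1 (eq_one_of_sq hx (odd_orderOf S.odd_W ((S.ker x).1 h)))

theorem map_sq {x : S.L} (hx : (x : G) * x = 1) : S.φ x * S.φ x = 1 := by
  rw [← map_mul, ← map_one S.φ]; exact congrArg S.φ (Subtype.ext hx)

theorem odd_map {x : S.L} (hx : Odd (orderOf (x : G))) : Odd (orderOf (S.φ x)) := by
  rw [Subgroup.orderOf_coe] at hx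
  exact hx.of_dvd_nat (orderOf_map_dvd S.φ x)

/-- An element of odd order lifts to one of odd order. -/
theorem exists_odd_lift {x : S.L} (h : Odd (orderOf (S.φ x))) :
    ∃ m : ℕ, Odd (orderOf ((x : G) ^ m)) ∧ S.φ (x ^ m) = S.φ x := by
  obtain ⟨k, j, hj, he⟩ := Nat.exists_eq_two_pow_mul_odd (orderOf_pos (x : G)).ne'
  have hd : orderOf (S.φ x) ∣ j := by
    have h1 := orderOf_map_dvd S.φ x
    rw [← Subgroup.orderOf_coe, he] at h1
    exact ((Nat.coprime_two_right.2 h).pow_right k).dvd_of_dvd_mul_left h1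
  obtain ⟨i, hi⟩ := exists_pow_eq_self_of_coprime (x := S.φ x) (n := 2 ^ k)
    ((Nat.coprime_two_left.2 h).pow_left k)
  refine ⟨2 ^ k * i, ?_, by rw [map_pow, pow_mul, hi]⟩
  rw [pow_mul]
  refine Odd.of_dvd_nat ?_ (orderOf_pow_dvd i)
  rw [orderOf_pow_of_dvd (by positivity) (he ▸ dvd_mul_right _ _), he, Nat.mul_div_cancel_left _ (by positivity)]
  exact hj

/-- An involution of the model lifts to an involution. -/
theorem exists_invol_lift {a : Q} (ha : Inv a) :
    ∃ x : S.L, Inv (x : G) ∧ S.φ x = a := by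
  obtain ⟨l, rfl⟩ := S.surj a
  have hsq : ((l * l : S.L) : G) ∈ coreIn K := (S.ker _).1 (by rw [map_mul, ha.1])
  have ho := odd_orderOf S.odd_W hsq
  set k := orderOf ((l * l : S.L) : G) with hk
  obtain ⟨j, hj⟩ := ho
  have hmap : S.φ (l ^ k) = S.φ l := by
    rw [map_pow, hj, pow_succ, pow_mul, pow_two, ha.1, one_pow, one_mul]
  refine ⟨l ^ k, ⟨?_, fun h => ha.2 ?_⟩, hmap⟩
  · rw [← Subgroup.coe_mul, ← (Commute.refl l).mul_pow, SubgroupClass.coe_pow, hk, pow_orderOf_eq_one]
  · rw [← hmap, show l ^ k = 1 from Subtype.ext h, map_one]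

/-- The elements normalising the socle and the odd core. -/
def N : Subgroup G := normalizer (S.L : Set G) ⊓ normalizer (coreIn K : Set G)

theorem le_N : K ≤ S.N := le_inf S.norm (CfsgLib.DGroup.normalizer_coreIn K)

theorem L_le_N : S.L ≤ S.N := S.le.trans S.le_N

/-- Conjugation on the socle, followed by the map to the model. -/
def conjHom (x : S.N) : S.L →* Q where
  toFun l := S.φ ⟨(x : G) * l * (x : G)⁻¹, conj_mem x.2.1 l.2⟩
  map_one' := by
    rw [← map_one S.φ]; exact congrArg S.φ (Subtype.ext (by simp))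
  map_mul' a b := by
    rw [← map_mul]
    exact congrArg S.φ (Subtype.ext (by
      show (x : G) * ((a : G) * b) * (x : G)⁻¹ = (x : G) * a * (x : G)⁻¹ * ((x : G) * b * (x : G)⁻¹)
      group))

theorem ker_le_conjHom (x : S.N) : S.φ.ker ≤ (S.conjHom x).ker := fun l hl =>
  (S.ker _).2 (conj_mem x.2.2 ((S.ker l).1 hl))

/-- The induced endomorphism of the model. -/
noncomputable def endo (x : S.N) : Q →* Q :=
  S.φ.liftOfSurjective S.surj ⟨S.conjHom x, S.ker_le_conjHom x⟩

theorem endo_apply (x : S.N) (l : S.L) :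
    S.endo x (S.φ l) = S.φ ⟨(x : G) * l * (x : G)⁻¹, conj_mem x.2.1 l.2⟩ :=
  MonoidHom.liftOfRightInverse_comp_apply S.φ _ _ ⟨S.conjHom x, S.ker_le_conjHom x⟩ l

theorem endo_mul (x y : S.N) (a : Q) : S.endo (x * y) a = S.endo x (S.endo y a) := by
  obtain ⟨l, rfl⟩ := S.surj a
  rw [endo_apply, endo_apply, endo_apply]
  refine congrArg S.φ (Subtype.ext ?_)
  show (x : G) * y * (l : G) * ((x : G) * y)⁻¹ = x * ((y : G) * l * (y : G)⁻¹) * (x : G)⁻¹
  group

theorem endo_one (a : Q) : S.endo 1 a = a := by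
  obtain ⟨l, rfl⟩ := S.surj a
  rw [endo_apply]
  exact congrArg S.φ (Subtype.ext (by simp))

/-- The action on the model. -/
noncomputable def act : S.N →* MulAut Q where
  toFun x :=
    { toFun := S.endo x
      invFun := S.endo x⁻¹
      left_inv := fun a => by rw [← endo_mul, inv_mul_cancel, endo_one]
      right_inv := fun a => by rw [← endo_mul, mul_inv_cancel, endo_one]
      map_mul' := map_mul _ }
  map_one' := MulEquiv.ext S.endo_one
  map_mul' x y := MulEquiv.ext (S.endo_mul x y)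

theorem act_apply {x : G} (hx : x ∈ S.N) (l : S.L) :
    S.act ⟨x, hx⟩ (S.φ l) = S.φ ⟨x * l * x⁻¹, conj_mem hx.1 l.2⟩ :=
  S.endo_apply ⟨x, hx⟩ l

theorem act_L (l : S.L) : S.act ⟨l, S.L_le_N l.2⟩ = MulAut.conj (S.φ l) := by
  refine MulEquiv.ext fun a => ?_
  obtain ⟨m, rfl⟩ := S.surj a
  rw [act_apply, MulAut.conj_apply, ← map_inv, ← map_mul, ← map_mul]
  exact congrArg S.φ (Subtype.ext rfl)

/-- An element of `K` acting trivially lies in the odd core. -/
theorem mem_W_of_act {x : G} (hx : x ∈ K) (h : S.act ⟨x, S.le_N hx⟩ = 1) : x ∈ coreIn K := by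
  refine S.selfcent x hx fun y hy => ?_
  have h1 := S.act_apply (S.le_N hx) ⟨y, hy⟩
  rw [h, MulAut.one_apply] at h1
  exact (S.ker (⟨x * y * x⁻¹, conj_mem (S.norm hx) hy⟩ * ⟨y, hy⟩⁻¹)).1 (by
    rw [map_mul, map_inv, ← h1, mul_inv_cancel])

/-- For a simple model everything normalising `K` normalises the socle. -/
theorem mem_N (hQ : IsSimpleGroup Q) {x : G} (hx : x ∈ normalizer (K : Set G)) : x ∈ S.N := by
  refine ⟨?_, normalizer_le_normalizer_coreIn hx⟩
  set L' := S.L.map (MulAut.conj x).toMonoidHom with hL'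
  have hcard : Nat.card L' = Nat.card S.L := card_map_of_injective (MulAut.conj x).injective
  have hL'K : L' ≤ K := by
    rintro _ ⟨l, hl, rfl⟩
    exact conj_mem hx (S.le hl)
  have hW' : ∀ w ∈ coreIn K, w ∈ L' := fun w hw =>
    ⟨x⁻¹ * w * x, S.W_le (conj_mem' (normalizer_le_normalizer_coreIn hx) hw),
      show x * (x⁻¹ * w * x) * x⁻¹ = w by group⟩
  have hn' : ∀ k ∈ K, ∀ y ∈ L', k * y * k⁻¹ ∈ L' := by
    rintro k hk _ ⟨l, hl, rfl⟩
    refine ⟨x⁻¹ * k * x * l * (x⁻¹ * k * x)⁻¹, conj_mem (S.norm (conj_mem' hx hk)) hl, ?_⟩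
    show x * (x⁻¹ * k * x * l * (x⁻¹ * k * x)⁻¹) * x⁻¹ = k * (x * l * x⁻¹) * k⁻¹
    group
  haveI : (L'.subgroupOf S.L).Normal := ⟨fun y hy k => hn' k (S.le k.2) y hy⟩
  rcases (Subgroup.Normal.map (inferInstance : (L'.subgroupOf S.L).Normal) S.φ S.surj).eq_bot_or_eq_top
    with h | h
  · exfalso
    have hle : L' ≤ coreIn K := fun a ha => S.selfcent a (hL'K ha) fun y hy => by
      have h1 : a * y * a⁻¹ * y⁻¹ ∈ S.L := mul_mem (conj_mem (S.norm (hL'K ha)) hy) (inv_mem hy)
      have h2 : a * y * a⁻¹ * y⁻¹ ∈ L' := by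
        rw [show a * y * a⁻¹ * y⁻¹ = a * (y * a⁻¹ * y⁻¹) by group]
        exact mul_mem ha (hn' y (S.le hy) _ (inv_mem ha))
      have h3 : S.φ ⟨_, h1⟩ ∈ (L'.subgroupOf S.L).map S.φ := mem_map_of_mem _ h2
      rw [h, mem_bot] at h3
      exact (S.ker _).1 h3
    have hWL : coreIn K = S.L := eq_of_le_of_card_ge S.W_le (by
      rw [← hcard]; exact card_le_of_le hle)
    haveI := hQ.toNontrivial
    obtain ⟨q, hq⟩ := exists_ne (1 : Q)
    obtain ⟨l, rfl⟩ := S.surj q
    exact hq ((S.ker l).2 (by rw [hWL]; exact l.2))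
  · refine mem_normalizer_iff_map_conj_eq.2 (eq_of_le_of_card_ge ?_ ?_).symm
    · intro l hl
      obtain ⟨m, hm, e⟩ := (h ▸ mem_top (S.φ ⟨l, hl⟩) : S.φ ⟨l, hl⟩ ∈ (L'.subgroupOf S.L).map S.φ)
      have hw : (m : G)⁻¹ * l ∈ coreIn K := S.map_eq_iff.1 e
      have := mul_mem (mem_subgroupOf.1 hm) (hW' _ hw)
      rwa [mul_inv_cancel_left] at this
    · exact hcard.le

/-- An involution outside the socle fixes no four group of the model, when no elementary abelian group
of order eight exists. -/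
theorem false_of_four (hE : ∀ a b c : G, Inv a → Inv b → Inv c → Commute a b → Commute a c →
      Commute b c → a ≠ b → c = a ∨ c = b ∨ c = a * b)
    {v : G} (hv : Inv v) (hvN : v ∈ S.N) (hvL : v ∉ S.L) {a b : Q} (ha : Inv a) (hb : Inv b)
    (hne : a ≠ b) (hab : Commute a b) (hfa : S.act ⟨v, hvN⟩ a = a) (hfb : S.act ⟨v, hvN⟩ b = b) :
    False := by
  have hvi : v⁻¹ = v := hv.inv_eq
  -- an involution over `a` commuting with `v`
  have lift : ∀ a : Q, Inv a → S.act ⟨v, hvN⟩ a = a →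
      ∃ x : S.L, Inv (x : G) ∧ S.φ x = a ∧ Commute (x : G) v := by
    intro a ha hfa
    obtain ⟨x, hx, rfl⟩ := S.exists_invol_lift ha
    have hvx : v * (x : G) * v⁻¹ ∈ S.L := conj_mem hvN.1 x.2
    have hmap : S.φ (⟨_, hvx⟩ * x) = 1 := by
      rw [map_mul, ← S.act_apply hvN x, hfa, ha.1]
    set w : S.L := ⟨_, hvx⟩ * x with hwdef
    have hwG : (w : G) = v * x * v * x := by
      show v * (x : G) * v⁻¹ * x = _
      rw [hvi]
    obtain ⟨i, hc2, hcv⟩ := exists_fixed_invol hv.1 hx.1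
      (hwG ▸ odd_orderOf S.odd_W ((S.ker w).1 hmap))
    have hval : ((w ^ i * x : S.L) : G) = (v * x * v * x) ^ i * x := by
      rw [Subgroup.coe_mul, SubgroupClass.coe_pow, hwG]
    have hφ : S.φ (w ^ i * x) = S.φ x := by rw [map_mul, map_pow, hmap, one_pow, one_mul]
    refine ⟨w ^ i * x, ⟨by rw [hval]; exact hc2, fun h => ha.2 ?_⟩, hφ, hval ▸ hcv⟩
    rw [← hφ, show w ^ i * x = 1 from Subtype.ext h, map_one]
  obtain ⟨c, hc, hca, hcv⟩ := lift a ha hfa
  obtain ⟨b₁, hb₁, hbb, hbv⟩ := lift b hb hfb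
  set w : S.L := c * b₁ * c * b₁ with hwdef
  have hmap : S.φ w = 1 := by
    rw [hwdef, map_mul, map_mul, map_mul, hca, hbb, hab.eq, mul_assoc b a a, ha.1, mul_one, hb.1]
  obtain ⟨i, he2, hec⟩ := exists_fixed_invol hc.1 hb₁.1
    (show Odd (orderOf ((c : G) * b₁ * c * b₁)) from odd_orderOf S.odd_W ((S.ker w).1 hmap))
  set e : S.L := w ^ i * b₁ with hedef
  have hval : (e : G) = ((c : G) * b₁ * c * b₁) ^ i * b₁ := by
    rw [hedef, Subgroup.coe_mul, SubgroupClass.coe_pow, hwdef]; rfl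
  have heb : S.φ e = b := by rw [hedef, map_mul, map_pow, hmap, one_pow, one_mul, hbb]
  have heI : Inv (e : G) := ⟨by rw [hval]; exact he2, fun h => hb.2 (by
    rw [← heb, show e = 1 from Subtype.ext h, map_one])⟩
  have hev : Commute (e : G) v := by
    rw [hval]
    exact ((((hcv.mul_left hbv).mul_left hcv).mul_left hbv).pow_left i).mul_left hbv
  rcases hE c e v hc heI hv (hval ▸ hec.symm) hcv hev (fun h => hne (by
    rw [← hca, ← heb, show c = e from Subtype.ext h])) with h | h | h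
  exacts [hvL (h ▸ c.2), hvL (h ▸ e.2), hvL (h ▸ mul_mem c.2 e.2)]

end Socle

end CfsgLib.GW.Eight.TorusBuild

namespace CfsgLib.GW.Eight.Ctx

open Subgroup
open CfsgLib.NormCyclic (Inv)

universe u

variable {G : Type u} [Group G] [Fintype G] [Fact (Nat.Prime 2)] (C : Ctx G)
include C

/-- There is no elementary abelian subgroup of order eight. -/
theorem no_eight {a b c : G} (ha : Inv a) (hb : Inv b) (hc : Inv c) (hab : Commute a b)
    (hac : Commute a c) (hbc : Commute b c) (hne : a ≠ b) : c = a ∨ c = b ∨ c = a * b := by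
  by_contra hcon
  push Not at hcon
  obtain ⟨h1, h2, h3⟩ := hcon
  set E := closure ({a, b, c} : Set G) with hE
  have hgen : ∀ x ∈ ({a, b, c} : Set G), ∀ y ∈ ({a, b, c} : Set G), x * y = y * x := by
    rintro x (rfl | rfl | rfl) y (rfl | rfl | rfl)
    exacts [rfl, hab.eq, hac.eq, hab.eq.symm, rfl, hbc.eq, hac.eq.symm, hbc.eq.symm, rfl]
  have hsq : ∀ x ∈ E, x * x = 1 ∧ ∀ y ∈ ({a, b, c} : Set G), Commute x y := by
    intro x hx
    induction hx using closure_induction with
    | mem x hx =>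
      refine ⟨?_, fun y hy => hgen x hx y hy⟩
      rcases hx with rfl | rfl | rfl
      exacts [ha.1, hb.1, hc.1]
    | one => exact ⟨one_mul 1, fun y _ => Commute.one_left y⟩
    | inv x _ ih => exact ⟨by rw [← mul_inv_rev, ih.1, inv_one], fun y hy => (ih.2 y hy).inv_left⟩
    | mul x y hx hy ihx ihy =>
      refine ⟨?_, fun v hv => (ihx.2 v hv).mul_left (ihy.2 v hv)⟩
      have hxy : Commute x y := by
        have h1 : E ≤ centralizer ({x} : Set G) := (closure_le _).2 fun v hv =>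
          mem_centralizer_singleton_iff.2 (ihx.2 v hv).eq.symm
        exact (mem_centralizer_singleton_iff.1 (h1 hy) : y * x = x * y).symm
      rw [hxy.symm.mul_mul_mul_comm, ihx.1, ihy.1, one_mul]
  have hp : IsPGroup 2 E := fun x => ⟨1, Subtype.ext (by
    rw [pow_one, pow_two, Subgroup.coe_mul]; exact (hsq x x.2).1)⟩
  obtain ⟨R, hR⟩ := hp.exists_le_sylow
  obtain ⟨g, hg⟩ := MulAction.exists_smul_eq G R C.P
  have hin : ∀ x ∈ E, g * x * g⁻¹ ∈ (C.P : Subgroup G) := fun x hx => by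
    rw [← hg]; exact ⟨x, hR hx, rfl⟩
  have hcm : ∀ {x y : G}, Commute x y → Commute (g * x * g⁻¹) (g * y * g⁻¹) := fun h =>
    (Commute.conj_iff g).2 h
  -- two commuting involutions of `P` other than `z`
  have key : ∀ {x y : G}, x ∈ (C.P : Subgroup G) → y ∈ (C.P : Subgroup G) → Inv x → Inv y →
      Commute x y → x ≠ C.z → y ≠ C.z → x ≠ y → y = C.z * x := by
    intro x y hx hy hxI hyI hxy hxz hyz hne
    have hrot : ∀ {v : G}, v ∈ (C.P : Subgroup G) → Inv v → v ≠ C.z → v * C.t ∈ zpowers C.s := by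
      intro v hv hvI hvz
      rcases C.data.cases v hv with h | h
      · rcases C.data.eq_z h hvI.1 with e | e
        exacts [absurd e hvI.2, absurd e hvz]
      · exact h
    set w₁ := x * C.t with hw₁
    set w₂ := y * C.t with hw₂
    have hxe : x = w₁ * C.t := by rw [hw₁, mul_assoc, C.inv_t.1, mul_one]
    have hye : y = w₂ * C.t := by rw [hw₂, mul_assoc, C.inv_t.1, mul_one]
    have hm : y * x ∈ zpowers C.s := by
      have h4 := C.data.conj_τ (hrot hx hxI hxz)
      rw [show y * x = w₂ * (C.t * w₁ * C.t⁻¹) by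
        rw [C.inv_t.inv_eq, hye, hxe]; group, h4]
      exact mul_mem (hrot hy hyI hyz) (inv_mem (hrot hx hxI hxz))
    rcases C.data.eq_z hm (by rw [hxy.mul_mul_mul_comm, hyI.1, hxI.1, one_mul]) with e | e
    · exact absurd ((eq_inv_of_mul_eq_one_left e).trans hxI.inv_eq).symm hne
    · have e' : y * x = C.z := e
      calc y = y * x * x := by rw [mul_assoc, hxI.1, mul_one]
        _ = C.z * x := by rw [e']
  have hinj : ∀ {x y : G}, g * x * g⁻¹ = g * y * g⁻¹ → x = y := fun h => (MulAut.conj g).injective h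
  have hca' : a ≠ c := fun h => h1 h.symm
  have hcb' : b ≠ c := fun h => h2 h.symm
  have hEa : a ∈ E := subset_closure (by simp)
  have hEb : b ∈ E := subset_closure (by simp)
  have hEc : c ∈ E := subset_closure (by simp)
  have hconj : ∀ {x y : G}, g * x * g⁻¹ * (g * y * g⁻¹) = g * (x * y) * g⁻¹ := fun {x y} => by group
  by_cases haz : g * a * g⁻¹ = C.z
  · have := key (hin b hEb) (hin c hEc) (hb.conj g) (hc.conj g) (hcm hbc)
      (fun h => hne (hinj (haz.trans h.symm))) (fun h => hca' (hinj (haz.trans h.symm)))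
      (fun h => hcb' (hinj h))
    rw [← haz, hconj] at this
    exact h3 (hinj this)
  by_cases hbz : g * b * g⁻¹ = C.z
  · have := key (hin a hEa) (hin c hEc) (ha.conj g) (hc.conj g) (hcm hac) haz
      (fun h => hcb' (hinj (hbz.trans h.symm))) (fun h => hca' (hinj h))
    rw [← hbz, hconj, ← hab.eq] at this
    exact h3 (hinj this)
  have e1 := key (hin a hEa) (hin b hEb) (ha.conj g) (hb.conj g) (hcm hab) haz hbz
    (fun h => hne (hinj h))
  by_cases hcz : g * c * g⁻¹ = C.z
  · rw [← hcz, hconj] at e1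
    refine h3 ?_
    rw [hinj e1, hac.eq.symm, ← mul_assoc, ha.1, one_mul]
  · have e2 := key (hin a hEa) (hin c hEc) (ha.conj g) (hc.conj g) (hcm hac) haz hcz
      (fun h => hca' (hinj h))
    exact hcb' (hinj (e1.trans e2.symm))

end CfsgLib.GW.Eight.Ctx
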