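import Cfsg.Agent.GW.Eight.TorusDef
import Cfsg.Agent.GW.Eight.TorusA7
import Cfsg.Agent.GW.Eight.TorusSocle
import Cfsg.Agent.GW.Eight.CaseII.Basic

/-!
# Gorenstein–Walter, `|S| ≥ 8`: the torus of `C(d)`

The socle of `C(d)` contains the four group and every fused reflection.  The elements of `C_U(d)` inverted
by `t` map bijectively onto the odd torus of the model; a rotation normalising `⟨d⟩` induces an
inner-diagonal automorphism fixing the image of `z`, so centralises the torus or squares into `z`.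
-/

set_option autoImplicit false
set_option linter.style.haveILetI false
set_option linter.unusedSectionVars false

namespace CfsgLib.GW.Eight.TorusBuild

open Subgroup
open CfsgLib.DGroup (odd_orderOf eq_one_of_sq eq_one_of_inv_eq conj_mem)

universe u

variable {G : Type u} [Group G]

/-- An element of odd order inverted by an involution of a normalised subgroup lies in it. -/
theorem mem_of_inverted_mem {L : Subgroup G} {i v : G} (hi : i ∈ normalizer (L : Set G)) (hv : v ∈ L)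
    (hvv : v * v = 1) (ho : Odd (orderOf i)) (h : v * i * v = i⁻¹) : i ∈ L := by
  refine mem_of_odd_pow ho (by rw [pow_orderOf_eq_one]; exact one_mem L) ?_
  have e : i * i = i * v * i⁻¹ * v := by
    calc i * i = i * (v * v) * i * (v * v) := by rw [hvv, mul_one, mul_one]
      _ = i * v * (v * i * v) * v := by group
      _ = i * v * i⁻¹ * v := by rw [h]
  rw [e]
  exact mul_mem (conj_mem hi hv) hv

/-- A rotation fixing `g` modulo an element `w` fixed by the reflection fixes it. -/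
theorem exact_fix [Finite G] {r t g w : G} {k : ℕ} (hr : r ^ 2 ^ k = 1) (ht : t * t = 1)
    (htr : t * r * t = r⁻¹) (htg : t * g * t = g⁻¹) (htw : Commute w t) (hgw : Commute g w)
    (hw : Odd (orderOf w)) (h : r * g * r⁻¹ = g * w) : Commute r g := by
  have hti : t⁻¹ = t := inv_eq_of_mul_eq_one_right ht
  have htr' : t * r⁻¹ * t = r := by
    calc t * r⁻¹ * t = (t * r * t)⁻¹ := by rw [mul_inv_rev, mul_inv_rev, hti]; group
      _ = r := by rw [htr, inv_inv]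
  have h1 : r⁻¹ * g⁻¹ * r = g⁻¹ * w := by
    calc r⁻¹ * g⁻¹ * r = t * r * t * (t * g * t) * (t * r⁻¹ * t) := by rw [htr, htg, htr']
      _ = t * r * (t * t) * g * (t * t) * r⁻¹ * t := by group
      _ = t * (r * g * r⁻¹) * t := by rw [ht]; group
      _ = t * g * (t * t) * w * t := by rw [h, ht]; group
      _ = t * g * t * (t * w * t) := by group
      _ = g⁻¹ * w := by rw [htg, ← htw.eq, mul_assoc w, ht, mul_one]
  have hrw : r * w⁻¹ * r⁻¹ = w⁻¹ := by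
    have e : g = r * w⁻¹ * r⁻¹ * (r * g * r⁻¹) := by
      calc g = r * (r⁻¹ * g⁻¹ * r)⁻¹ * r⁻¹ := by group
        _ = r * (g⁻¹ * w)⁻¹ * r⁻¹ := by rw [h1]
        _ = _ := by group
    rw [h, hgw.eq, ← mul_assoc] at e
    exact eq_inv_of_mul_eq_one_left (mul_eq_right.1 e.symm)
  have hrw' : Commute r w := by
    have := congrArg (·⁻¹) hrw
    simp only [mul_inv_rev, inv_inv, ← mul_assoc] at this
    exact mul_inv_eq_iff_eq_mul.1 this
  have hpow : ∀ j : ℕ, r ^ j * g * (r ^ j)⁻¹ = g * w ^ j := by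
    intro j
    induction j with
    | zero => simp
    | succ j ih =>
      rw [pow_succ', show r * r ^ j * g * (r * r ^ j)⁻¹ = r * (r ^ j * g * (r ^ j)⁻¹) * r⁻¹ by group, ih,
        show r * (g * w ^ j) * r⁻¹ = r * g * r⁻¹ * (r * w ^ j * r⁻¹) by group, h,
        (hrw'.pow_right j).eq, mul_inv_cancel_right, mul_assoc, ← pow_succ']
  have h2 := hpow (2 ^ k)
  rw [hr, one_mul, inv_one, mul_one, eq_comm, mul_eq_left] at h2
  have hw1 : w = 1 := orderOf_eq_one_iff.1 (Nat.eq_one_of_dvd_coprimes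
    ((Nat.coprime_two_right.2 hw).pow_right k) dvd_rfl (orderOf_dvd_of_pow_eq_one h2))
  rw [hw1, mul_one] at h
  exact mul_inv_eq_iff_eq_mul.1 h

/-- A rotation inverting `g` modulo `w` inverts it, when its square commutes with `g`. -/
theorem exact_inv [Finite G] {r t g w : G} (ht : t * t = 1)
    (htr : t * r * t = r⁻¹) (htg : t * g * t = g⁻¹) (htw : Commute w t) (hgw : Commute g w)
    (hw : Odd (orderOf w)) (hrr : Commute (r * r) g) (h : r * g * r⁻¹ = g⁻¹ * w) :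
    r * g * r⁻¹ = g⁻¹ := by
  have hti : t⁻¹ = t := inv_eq_of_mul_eq_one_right ht
  have htr' : t * r⁻¹ * t = r := by
    calc t * r⁻¹ * t = (t * r * t)⁻¹ := by rw [mul_inv_rev, mul_inv_rev, hti]; group
      _ = r := by rw [htr, inv_inv]
  have htg' : t * g⁻¹ * t = g := by
    calc t * g⁻¹ * t = (t * g * t)⁻¹ := by rw [mul_inv_rev, mul_inv_rev, hti]; group
      _ = g := by rw [htg, inv_inv]
  have h1 : r⁻¹ * g⁻¹ * r = g * w := by
    calc r⁻¹ * g⁻¹ * r = t * r * t * (t * g * t) * (t * r⁻¹ * t) := by rw [htr, htg, htr']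
      _ = t * r * (t * t) * g * (t * t) * r⁻¹ * t := by group
      _ = t * (r * g * r⁻¹) * t := by rw [ht]; group
      _ = t * g⁻¹ * (t * t) * w * t := by rw [h, ht]; group
      _ = t * g⁻¹ * t * (t * w * t) := by group
      _ = g * w := by rw [htg', ← htw.eq, mul_assoc w, ht, mul_one]
  have hrw : r * w⁻¹ * r⁻¹ = w := by
    calc r * w⁻¹ * r⁻¹ = r * (g * w)⁻¹ * r⁻¹ * (r * g * r⁻¹) := by group
      _ = r * (r⁻¹ * g⁻¹ * r)⁻¹ * r⁻¹ * (g⁻¹ * w) := by rw [← h1, h]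
      _ = w := by group
  have h2 : r * r * g * (r * r)⁻¹ = g * (w⁻¹ * w⁻¹) := by
    calc r * r * g * (r * r)⁻¹ = r * (r * g * r⁻¹) * r⁻¹ := by group
      _ = r * (g⁻¹ * w) * r⁻¹ := by rw [h]
      _ = (r * g * r⁻¹)⁻¹ * (r * w⁻¹ * r⁻¹)⁻¹ := by group
      _ = w⁻¹ * g * w⁻¹ := by rw [h, hrw]; group
      _ = g * (w⁻¹ * w⁻¹) := by rw [hgw.inv_right.eq.symm, mul_assoc]
  rw [hrr.eq, mul_inv_cancel_right, eq_comm, mul_eq_left, ← mul_inv_rev, inv_eq_one] at h2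
  rw [h, eq_one_of_sq h2 hw, mul_one]

end CfsgLib.GW.Eight.TorusBuild

namespace CfsgLib.GW.Eight.Ctx

open Subgroup CfsgLib.DihPrincipal
open CfsgLib.NormCyclic (Inv)
open CfsgLib.DGroup (coreIn conj_mem conj_mem' odd_orderOf eq_one_of_sq eq_one_of_inv_eq)
open CfsgLib.GW.CaseI (exists_split eq_of_sq exists_pow_of_isPGroup invol_mul invol_inv
  conj_eq_of_commute commute_of_fixed)
open CfsgLib.GW.Eight.TorusBuild

universe u

variable {G : Type u} [Group G] [Fintype G] [Fact (Nat.Prime 2)] (C : Ctx G)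
include C

theorem t_conj_rot {r : G} (hr : r ∈ zpowers C.s) : C.t * r * C.t = r⁻¹ := by
  have := C.data.conj_τ hr
  rwa [C.inv_t.inv_eq] at this

theorem rot_pow_two {r : G} (hr : r ∈ zpowers C.s) : r ^ 2 ^ (C.n - 1) = 1 := by
  obtain ⟨i, rfl⟩ := mem_zpowers_iff.1 hr
  rw [← zpow_natCast, ← zpow_mul, mul_comm, zpow_mul, zpow_natCast, ← C.data.ordσ, pow_orderOf_eq_one,
    one_zpow]

theorem commute_z_rot {r : G} (hr : r ∈ zpowers C.s) : Commute C.z r := by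
  obtain ⟨i, rfl⟩ := mem_zpowers_iff.1 hr
  exact (((Commute.refl C.s).pow_left _).zpow_right i)

theorem rot_mul_t_sq {r : G} (hr : r ∈ zpowers C.s) : r * C.t * (r * C.t) = 1 := by
  rw [mul_assoc, ← mul_assoc C.t, C.t_conj_rot hr, mul_inv_cancel]

/-- An element exchanging the central involution and a reflection. -/
theorem exists_exchange {r : G} (hr : r ∈ zpowers C.s) :
    ∃ h : G, h * C.z * h⁻¹ = r * C.t ∧ h * (r * C.t) * h⁻¹ = C.z := by
  have base : ∀ D : Ctx G, ∃ h : G, h * D.z * h⁻¹ = D.t ∧ h * D.t * h⁻¹ = D.z := by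
    intro D
    obtain ⟨n, hn⟩ := CaseII.exists_cycle D
    refine ⟨n * CaseII.sw D, ?_, ?_⟩
    · rw [show n * CaseII.sw D * D.z * (n * CaseII.sw D)⁻¹ =
        n * (CaseII.sw D * D.z * (CaseII.sw D)⁻¹) * n⁻¹ by group, (CaseII.sw_commute_z D).eq,
        mul_inv_cancel_right, hn.hz]
    · rw [show n * CaseII.sw D * D.t * (n * CaseII.sw D)⁻¹ =
        n * (CaseII.sw D * D.t * (CaseII.sw D)⁻¹) * n⁻¹ by group, CaseII.sw_t D, hn.hc]
  obtain ⟨k, rfl⟩ := mem_zpowers_iff.1 hr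
  have hmove : ∀ (l : ℤ) (x : G), C.s ^ l * (x * C.t) * (C.s ^ l)⁻¹ =
      C.s ^ l * x * C.s ^ l * C.t := by
    intro l x
    have := C.t_conj_rot (zpow_mem (mem_zpowers C.s) l)
    calc C.s ^ l * (x * C.t) * (C.s ^ l)⁻¹ = C.s ^ l * x * (C.t * (C.s ^ l)⁻¹) := by group
      _ = C.s ^ l * x * (C.t * (C.t * C.s ^ l * C.t)) := by rw [this]
      _ = C.s ^ l * x * C.s ^ l * C.t := by
          rw [show C.t * (C.t * C.s ^ l * C.t) = C.t * C.t * C.s ^ l * C.t by group, C.inv_t.1]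
          group
  have transport : ∀ (l : ℤ) {h a : G}, h * C.z * h⁻¹ = a → h * a * h⁻¹ = C.z →
      ∀ b, C.s ^ l * a * (C.s ^ l)⁻¹ = b →
      ∃ h' : G, h' * C.z * h'⁻¹ = b ∧ h' * b * h'⁻¹ = C.z := by
    intro l h a h1 h2 b hb
    have hz : ∀ m : ℤ, C.s ^ m * C.z * (C.s ^ m)⁻¹ = C.z := fun m => by
      rw [(C.commute_z_rot (zpow_mem (mem_zpowers _) m)).eq.symm, mul_inv_cancel_right]
    refine ⟨C.s ^ l * h * (C.s ^ l)⁻¹, ?_, ?_⟩
    · rw [show C.s ^ l * h * (C.s ^ l)⁻¹ * C.z * (C.s ^ l * h * (C.s ^ l)⁻¹)⁻¹ =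
        C.s ^ l * (h * ((C.s ^ l)⁻¹ * C.z * C.s ^ l) * h⁻¹) * (C.s ^ l)⁻¹ by group,
        show (C.s ^ l)⁻¹ * C.z * C.s ^ l = C.z by
          have := hz (-l)
          rwa [zpow_neg, inv_inv] at this, h1, hb]
    · rw [show C.s ^ l * h * (C.s ^ l)⁻¹ * b * (C.s ^ l * h * (C.s ^ l)⁻¹)⁻¹ =
        C.s ^ l * (h * ((C.s ^ l)⁻¹ * b * C.s ^ l) * h⁻¹) * (C.s ^ l)⁻¹ by group, ← hb,
        show (C.s ^ l)⁻¹ * (C.s ^ l * a * (C.s ^ l)⁻¹) * C.s ^ l = a by group, h2, hz]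
  rcases Int.even_or_odd k with ⟨l, rfl⟩ | ⟨l, rfl⟩
  · obtain ⟨h, h1, h2⟩ := base C
    refine transport l h1 h2 _ ?_
    have := hmove l 1
    rw [one_mul, mul_one, ← zpow_add] at this
    exact this
  · obtain ⟨h, h1, h2⟩ := base C.flip
    refine transport l (a := C.s * C.t) h1 h2 _ ?_
    rw [hmove l C.s, ← zpow_add_one, ← zpow_add]
    congr 2
    ring

/-- The torus, given the socle. -/
theorem torus_of_socle {d : G} (hd : d ∈ C.D1) (hd1 : d ≠ 1)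
    (hW : coreIn (centralizer ({d} : Set G)) ≤ C.D1)
    (hfus : ∀ r ∈ zpowers C.s, Commute (r * C.t) d →
      ∃ g ∈ centralizer ({d} : Set G), g * C.z * g⁻¹ = r * C.t)
    {Q : Type} [Group Q] :
    ∀ (S : Socle (centralizer ({d} : Set G)) Q) (hzL : C.z ∈ S.L) (htL : C.t ∈ S.L),
      Model (S.φ ⟨C.z, hzL⟩) (S.φ ⟨C.t, htL⟩) → Nonempty (Torus C d) := by
  classical
  set K := centralizer ({d} : Set G) with hK
  set W := coreIn K with hWdef
  intro S hzL htL M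
  obtain ⟨hdU, hdt⟩ := C.mem_D1.1 hd
  have hmemK : ∀ {x : G}, x ∈ K ↔ Commute x d := fun {x} => mem_centralizer_singleton_iff
  have hzK : C.z ∈ K := S.le hzL
  have htK : C.t ∈ K := S.le htL
  have hWt : ∀ w ∈ W, Commute w C.t := fun w hw => (C.mem_D1.1 (hW hw)).2
  have hWz : ∀ w ∈ W, Commute w C.z := fun w hw => C.mem_H.1 (C.U_le_H (C.mem_D1.1 (hW hw)).1)
  have hWo : Odd (Nat.card W) := CfsgLib.DGroup.odd_coreIn K
  have hUz : ∀ x ∈ C.U, Commute x C.z := fun x hx => C.mem_H.1 (C.U_le_H hx)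
  have hUo : ∀ x ∈ C.U, Odd (orderOf x) := fun x hx => odd_orderOf C.odd_U hx
  set ζ := S.φ ⟨C.z, hzL⟩ with hζ
  set τ := S.φ ⟨C.t, htL⟩ with hτ
  have hφz : ∀ x : S.L, Commute (x : G) C.z → Commute (S.φ x) ζ := fun x hx =>
    Commute.map (show Commute x ⟨C.z, hzL⟩ from Subtype.ext hx.eq) S.φ
  have hinvL : ∀ x ∈ C.U, Commute x d → C.t * x * C.t = x⁻¹ → x ∈ S.L := fun x hx hxd hxt =>
    mem_of_inverted_mem (S.norm (hmemK.2 hxd)) htL C.inv_t.1 (hUo x hx) hxt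
  have hinvT : ∀ x : S.L, (x : G) ∈ C.U → C.t * x * C.t = (x : G)⁻¹ → S.φ x ∈ M.T := by
    intro x hx hxt
    refine M.mem _ (hφz x (hUz _ hx)) (S.odd_map (hUo _ hx)) ?_
    rw [hτ, ← map_mul, ← map_mul, ← map_inv]
    exact congrArg S.φ (Subtype.ext hxt)
  -- inverted elements with the same image are equal
  have hext : ∀ x y : S.L, (x : G) ∈ C.U → (y : G) ∈ C.U → C.t * x * C.t = (x : G)⁻¹ →
      C.t * y * C.t = (y : G)⁻¹ → S.φ x = S.φ y → (x : G) = y := by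
    intro x y hx hy hxt hyt h
    have h1 := conj_eq_of_commute C.inv_t.1 (hWt _ (S.map_eq_iff.1 h))
    rw [invol_mul C.inv_t.1, invol_inv C.inv_t.1, hxt, hyt, inv_inv] at h1
    refine eq_of_sq (hUo _ hx) (hUo _ hy) ?_
    calc (x : G) * x = x * (x * (y : G)⁻¹) * y := by group
      _ = x * ((x : G)⁻¹ * y) * y := by rw [h1]
      _ = (y : G) * y := by group
  have htUK : C.t ∈ normalizer ((C.U ⊓ K : Subgroup G) : Set G) := mem_normalizer_iff.2 fun x => by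
    rw [mem_inf, mem_inf, mem_normalizer_iff.1 (C.H_le_normalizer_U C.t_mem_H) x,
      mem_normalizer_iff.1 (le_normalizer htK) x]
  have hsplit : ∀ x ∈ C.U, Commute x d → ∃ c ∈ C.D1, Commute c d ∧ ∃ i ∈ C.U, Commute i d ∧
      C.t * i * C.t = i⁻¹ ∧ x = c * i := by
    intro x hx hxd
    obtain ⟨c, hc, i, hi, hct, hit, e⟩ := exists_split C.inv_t.1
      (C.odd_U.of_dvd_nat (card_dvd_of_le inf_le_left)) htUK (⟨hx, hmemK.2 hxd⟩ : x ∈ C.U ⊓ K)
    exact ⟨c, C.mem_D1.2 ⟨hc.1, hct⟩, hmemK.1 hc.2, i, hi.1, hmemK.1 hi.2, hit, e⟩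
  -- every element of the torus of the model lifts to an inverted element
  have hsurj : ∀ θ ∈ M.T, ∃ i : S.L, (i : G) ∈ C.U ∧ C.t * i * C.t = (i : G)⁻¹ ∧ S.φ i = θ := by
    intro θ hθ
    obtain ⟨l, rfl⟩ := S.surj θ
    have hlz : Commute (l : G) C.z := by
      have h1 : S.φ ⟨C.z, hzL⟩ = S.φ (l * ⟨C.z, hzL⟩ * l⁻¹) := by
        rw [map_mul, map_mul, map_inv, ← hζ, (M.comm _ hθ).eq, mul_inv_cancel_right]
      have h2 := S.eq_of_map_eq (x := ⟨C.z, hzL⟩) (y := l * ⟨C.z, hzL⟩ * l⁻¹) C.inv_z.1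
        (C.inv_z.conj (l : G)).1 hWz h1
      exact mul_inv_eq_iff_eq_mul.1 h2.symm
    obtain ⟨m, hmo, hmφ⟩ := S.exists_odd_lift (x := l)
      (odd_orderOf (M.card.symm ▸ M.odd_u) hθ)
    have hlU : ((l : G) ^ m) ∈ C.U := C.mem_U_of_odd (C.mem_H.2 (hlz.pow_left m)) hmo
    obtain ⟨c, hc, -, i, hi, hid, hit, e⟩ := hsplit _ hlU (hmemK.1 (S.le (pow_mem l.2 m)))
    have hiL := hinvL i hi hid hit
    have hcL : c ∈ S.L := by
      have := mul_mem (pow_mem l.2 m) (inv_mem hiL)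
      rwa [e, mul_inv_cancel_right] at this
    refine ⟨⟨i, hiL⟩, hi, hit, ?_⟩
    have hprod : S.φ ⟨c, hcL⟩ * S.φ ⟨i, hiL⟩ = S.φ l := by
      rw [← map_mul, ← hmφ]
      exact congrArg S.φ (Subtype.ext (by rw [SubgroupClass.coe_pow, e]; rfl))
    have hcT : S.φ ⟨c, hcL⟩ ∈ M.T := by
      have := mul_mem hθ (inv_mem (hinvT ⟨i, hiL⟩ hi hit))
      rwa [← hprod, mul_inv_cancel_right] at this
    have hc1 : S.φ ⟨c, hcL⟩ = 1 := by
      refine eq_one_of_inv_eq ?_ (S.odd_map (hUo c (C.mem_D1.1 hc).1))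
      rw [← M.inv _ hcT, hτ, ← map_mul, ← map_mul]
      exact congrArg S.φ (Subtype.ext (conj_eq_of_commute C.inv_t.1 (C.mem_D1.1 hc).2))
    rw [← hprod, hc1, one_mul]
  haveI := M.cyc
  obtain ⟨⟨θ₀, hθ₀⟩, hgen⟩ := IsCyclic.exists_generator (α := M.T)
  have hθgen : ∀ θ ∈ M.T, ∃ k : ℤ, θ₀ ^ k = θ := fun θ hθ => by
    obtain ⟨k, hk⟩ := mem_zpowers_iff.1 (hgen ⟨θ, hθ⟩)
    exact ⟨k, by simpa using congrArg Subtype.val hk⟩
  have hθord : orderOf θ₀ = M.u := by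
    have := orderOf_eq_card_of_forall_mem_zpowers hgen
    rw [← Subgroup.orderOf_coe] at this
    rw [← M.card]; exact this
  obtain ⟨g₀, hgU, hgt, hgθ⟩ := hsurj θ₀ hθ₀
  set g : G := (g₀ : G) with hg
  have hgd : Commute g d := hmemK.1 (S.le g₀.2)
  have hgk : ∀ k : ℤ, C.t * g ^ k * C.t = (g ^ k)⁻¹ := fun k => by
    calc C.t * g ^ k * C.t = C.t * g ^ k * C.t⁻¹ := by rw [C.inv_t.inv_eq]
      _ = (g ^ k)⁻¹ := by rw [← conj_zpow, C.inv_t.inv_eq, hgt, inv_zpow]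
  have hgo : orderOf g = M.u := by
    rw [← hθord]
    refine orderOf_eq_orderOf_iff.2 fun k => ⟨fun h => ?_, fun h => ?_⟩
    · rw [← hgθ, ← map_pow, show g₀ ^ k = 1 from Subtype.ext (by rw [SubgroupClass.coe_pow]; exact h),
        map_one]
    · have := hext (g₀ ^ k) 1 (by rw [SubgroupClass.coe_pow]; exact pow_mem hgU k) (one_mem _)
        (by rw [SubgroupClass.coe_pow, ← hg, ← zpow_natCast]; exact hgk k)
        (by rw [Subgroup.coe_one, mul_one, C.inv_t.1, inv_one])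
        (by rw [map_pow, hgθ, h, map_one])
      rw [SubgroupClass.coe_pow, Subgroup.coe_one] at this
      exact this
  have hgx : ∀ x ∈ C.U, Commute x d → C.t * x * C.t = x⁻¹ → x ∈ zpowers g := by
    intro x hx hxd hxt
    obtain ⟨k, hk⟩ := hθgen _ (hinvT ⟨x, hinvL x hx hxd hxt⟩ hx hxt)
    refine mem_zpowers_iff.2 ⟨k, ?_⟩
    have := hext (g₀ ^ k) ⟨x, hinvL x hx hxd hxt⟩ (by rw [SubgroupClass.coe_zpow]; exact zpow_mem hgU k)
      hx (by rw [SubgroupClass.coe_zpow]; exact hgk k) hxt (by rw [map_zpow, hgθ, hk])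
    rwa [SubgroupClass.coe_zpow] at this
  have hmul : ∀ x ∈ C.U, Commute x d → ∃ e ∈ C.D1, Commute e d ∧ ∃ k : ℤ, x = e * g ^ k := by
    intro x hx hxd
    obtain ⟨c, hc, hcd, i, hi, hid, hit, e⟩ := hsplit x hx hxd
    obtain ⟨k, hk⟩ := mem_zpowers_iff.1 (hgx i hi hid hit)
    exact ⟨c, hc, hcd, k, by rw [hk]; exact e⟩
  -- inverted elements centralise the odd core
  have hWcomm : ∀ x ∈ C.U, Commute x d → C.t * x * C.t = x⁻¹ → ∀ w ∈ W, Commute x w :=
    fun x hx hxd hxt w hw => commute_of_fixed C.inv_t.1 (hUo x hx) hxt (hWt w hw)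
      (hWt _ (conj_mem (CfsgLib.DGroup.normalizer_coreIn K (hmemK.2 hxd)) hw))
  have hg1 : M.u ≤ 1 → g = 1 := fun h => orderOf_eq_one_iff.1 (by
    have := M.odd_u.pos; omega)
  have hcent : Nat.card ↥(C.U ⊓ K) = M.u * Nat.card ↥(C.D1 ⊓ K) := by
    rw [← hgo, ← Nat.card_zpowers, mul_comm, ← Nat.card_prod]
    refine (Nat.card_congr (Equiv.ofBijective
      (fun p : ↥(C.D1 ⊓ K) × zpowers g => (⟨(p.1 : G) * p.2,
        mul_mem ((show C.D1 ⊓ K ≤ C.U ⊓ K from inf_le_inf_right _ inf_le_left) p.1.2)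
          (⟨zpowers_le.2 hgU p.2.2, zpowers_le.2 (hmemK.2 hgd) p.2.2⟩ : (p.2 : G) ∈ C.U ⊓ K)⟩ :
        ↥(C.U ⊓ K))) ⟨?_, ?_⟩)).symm
    · rintro ⟨⟨e, he⟩, ⟨y, hy⟩⟩ ⟨⟨e', he'⟩, ⟨y', hy'⟩⟩ h
      obtain ⟨i, rfl⟩ := mem_zpowers_iff.1 hy
      obtain ⟨j, rfl⟩ := mem_zpowers_iff.1 hy'
      have h' : e * g ^ i = e' * g ^ j := congrArg Subtype.val h
      have hsq : g ^ i * g ^ i = g ^ j * g ^ j := by
        have h2 := congrArg (fun v => C.t * v * C.t) h'
        simp only [invol_mul C.inv_t.1, conj_eq_of_commute C.inv_t.1 (C.mem_D1.1 he.1).2,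
          conj_eq_of_commute C.inv_t.1 (C.mem_D1.1 he'.1).2, hgk] at h2
        calc g ^ i * g ^ i = (e * (g ^ i)⁻¹)⁻¹ * (e * g ^ i) := by group
          _ = (e' * (g ^ j)⁻¹)⁻¹ * (e' * g ^ j) := by rw [h', h2]
          _ = g ^ j * g ^ j := by group
      have hij := eq_of_sq (hUo _ (zpow_mem hgU i)) (hUo _ (zpow_mem hgU j)) hsq
      rw [hij] at h'
      exact Prod.ext (Subtype.ext (mul_right_cancel h')) (Subtype.ext hij)
    · rintro ⟨x, hx⟩
      obtain ⟨e, he, hed, k, hk⟩ := hmul x hx.1 (hmemK.1 hx.2)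
      exact ⟨⟨⟨e, he, hmemK.2 hed⟩, ⟨g ^ k, zpow_mem (mem_zpowers g) k⟩⟩, Subtype.ext hk.symm⟩
  -- the action of a rotation on the model
  have hnorm : ∀ r : G, r * d * r⁻¹ ∈ zpowers d → Commute (r * r) d → r ∈ normalizer (K : Set G) := by
    intro r hr hrr
    obtain ⟨k, hk⟩ := mem_zpowers_iff.1 hr
    have hd' : r * d ^ k * r⁻¹ = d := by
      rw [hk, show r * (r * d * r⁻¹) * r⁻¹ = r * r * d * (r * r)⁻¹ by group, hrr.eq, mul_inv_cancel_right]
    refine mem_normalizer_iff_map_conj_eq.2 (eq_of_le_of_card_ge ?_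
      (card_map_of_injective (MulAut.conj r).injective).ge)
    rintro _ ⟨x, hx, rfl⟩
    refine hmemK.2 ?_
    have h := (Commute.conj_iff r).2 ((hmemK.1 hx).zpow_right k)
    rw [hd'] at h
    exact h
  have hin : ∀ r ∈ zpowers C.s, r * d * r⁻¹ ∈ zpowers d → Commute (r * r) d → ∀ hrN : r ∈ S.N,
      (∃ x : Q, S.act ⟨r, hrN⟩ = MulAut.conj x) → r ∈ K := by
    intro r hr hrd hrr hrN ⟨x, hx⟩
    obtain ⟨l, rfl⟩ := S.surj x
    set c := (l : G)⁻¹ * r with hc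
    have hcN : c ∈ S.N := mul_mem (inv_mem (S.L_le_N l.2)) hrN
    have hcact : S.act ⟨c, hcN⟩ = 1 := by
      rw [show (⟨c, hcN⟩ : S.N) = ⟨_, S.L_le_N l.2⟩⁻¹ * ⟨r, hrN⟩ from Subtype.ext rfl, map_mul, map_inv,
        S.act_L, hx, inv_mul_cancel]
    have hfix : ∀ (v : G) (hv : v ∈ S.L), Inv v → (∀ w ∈ W, Commute w v) → Commute c v := by
      intro v hv hvI hvW
      have h1 := S.act_apply hcN ⟨v, hv⟩
      rw [hcact, MulAut.one_apply] at h1
      have h2 := S.eq_of_map_eq (x := ⟨v, hv⟩) (y := ⟨c * v * c⁻¹, conj_mem hcN.1 hv⟩)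
        hvI.1 (hvI.conj c).1 hvW h1
      exact mul_inv_eq_iff_eq_mul.1 h2.symm
    have hcz := hfix _ hzL C.inv_z hWz
    have hct := hfix _ htL C.inv_t hWt
    obtain ⟨k, j, hj, he⟩ := Nat.exists_eq_two_pow_mul_odd (orderOf_pos c).ne'
    have hjV := CaseII.mem_V1_of_commute C (hcz.pow_left j) (hct.pow_left j)
      ⟨k, by rw [← pow_mul, mul_comm, ← he, pow_orderOf_eq_one]⟩
    have hVK : C.V1 ≤ K := (closure_le _).2 (by rintro x (rfl | rfl); exacts [hzK, htK])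
    have hld : Commute (l : G) d := hmemK.1 (S.le l.2)
    obtain ⟨e, he'⟩ := mem_zpowers_iff.1 hrd
    have hcd : c * d * c⁻¹ = d ^ e := by
      rw [hc, show (l : G)⁻¹ * r * d * ((l : G)⁻¹ * r)⁻¹ = (l : G)⁻¹ * (r * d * r⁻¹) * l by group, ← he',
        mul_assoc, ← ((hld.zpow_right e).eq), inv_mul_cancel_left]
    have hcc : c * c ∈ K := hmemK.2 (mul_inv_eq_iff_eq_mul.1 (by
      rw [show c * c * d * (c * c)⁻¹ = c * (c * d * c⁻¹) * c⁻¹ by group, hcd, ← conj_zpow, hcd, ← zpow_mul,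
        zpow_mul, he', conj_zpow, he', show r * (r * d * r⁻¹) * r⁻¹ = r * r * d * (r * r)⁻¹ by group,
        hrr.eq, mul_inv_cancel_right]))
    have := mem_of_odd_pow hj (hVK hjV) hcc
    rw [show r = (l : G) * c by rw [hc, mul_inv_cancel_left]]
    exact mul_mem (S.le l.2) this
  -- the automorphism induced by a reflection
  have hdiag : 1 < M.u → ∀ r ∈ zpowers C.s, r * d * r⁻¹ ∈ zpowers d → Commute (r * r) d →
      ∃ (hrN : r ∈ S.N) (hvN : r * C.t ∈ S.N),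
        S.act ⟨r * C.t, hvN⟩ = S.act ⟨r, hrN⟩ * MulAut.conj τ ∧
        S.act ⟨r * C.t, hvN⟩ * S.act ⟨r * C.t, hvN⟩ = 1 ∧
        S.act ⟨r * C.t, hvN⟩ ζ = ζ ∧ S.act ⟨r, hrN⟩ ζ = ζ ∧
        S.act ⟨r * C.t, hvN⟩ ∈ M.ID ∧ S.act ⟨r, hrN⟩ ∈ M.ID := by
    intro hu r hr hrd hrr
    have hrN := S.mem_N (M.simple hu) (hnorm r hrd hrr)
    have htN : C.t ∈ S.N := S.L_le_N htL
    have hvN : r * C.t ∈ S.N := mul_mem hrN htN
    have h1 : S.act ⟨r * C.t, hvN⟩ = S.act ⟨r, hrN⟩ * MulAut.conj τ := by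
      rw [hτ, ← S.act_L ⟨C.t, htL⟩, ← map_mul]; rfl
    have h2 : S.act ⟨r * C.t, hvN⟩ * S.act ⟨r * C.t, hvN⟩ = 1 := by
      rw [← map_mul, ← map_one S.act]
      exact congrArg S.act (Subtype.ext (C.rot_mul_t_sq hr))
    have hfz : ∀ (x : G) (hx : x ∈ S.N), Commute x C.z → S.act ⟨x, hx⟩ ζ = ζ := fun x hx hxz => by
      rw [hζ, S.act_apply]
      exact congrArg S.φ (Subtype.ext (mul_inv_eq_iff_eq_mul.2 hxz.eq))
    have hrz := (C.commute_z_rot hr).symm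
    have h3 : S.act ⟨r * C.t, hvN⟩ ∈ M.ID := by
      by_contra hn
      obtain ⟨a, b, ha, hb, hne, hab, hfa, hfb⟩ := M.four _ h2 hn
      have hvL : r * C.t ∉ S.L := fun h => hn (by
        rw [show (⟨r * C.t, hvN⟩ : S.N) = ⟨_, S.L_le_N h⟩ from rfl,
          S.act_L ⟨r * C.t, h⟩]
        exact M.inner _)
      exact S.false_of_four (fun _ _ _ => C.no_eight)
        ⟨C.rot_mul_t_sq hr, fun h => hvL (h ▸ one_mem _)⟩ hvN hvL ha hb hne hab hfa hfb
    refine ⟨hrN, hvN, h1, h2, hfz _ hvN (hrz.mul_left (C.mem_H.1 C.t_mem_H)), hfz _ hrN hrz, h3, ?_⟩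
    have := mul_mem h3 (inv_mem (M.inner τ))
    rwa [h1, mul_inv_cancel_right] at this
  have hcent_T : 1 < M.u → ∀ y : S.L, (y : G) ∈ C.U → S.φ y ∈ M.T := fun hu y hy =>
    M.cent hu _ (hφz y (hUz _ hy)) (S.odd_map (hUo _ hy))
  refine ⟨{
    u₁ := M.u
    g := g
    odd_u := M.odd_u
    g_mem := hgU
    g_comm := hgd
    g_inv := hgt
    g_order := hgo
    gen := hgx
    W_le := hW
    exists_mul := hmul
    card_inf := hcent
    centralises := ?_
    rot := ?_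
    outer := ?_
    fixed := ?_ }⟩
  · -- centralises
    intro q hq x hx hxd hxt Q₁ hQp hQ hxQ hcop
    haveI : Fact q.Prime := ⟨hq⟩
    have key : ∀ c ∈ Q₁, Commute x (x * c * x⁻¹ * c⁻¹) → Commute x c := by
      intro c hc he
      set e := x * c * x⁻¹ * c⁻¹ with hedef
      have heQ : e ∈ Q₁ := mul_mem (conj_mem hxQ hc) (inv_mem hc)
      have hpow : ∀ n : ℕ, x ^ n * c * (x ^ n)⁻¹ = e ^ n * c := by
        intro n
        induction n with
        | zero => simp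
        | succ n ih =>
          rw [pow_succ', show x * x ^ n * c * (x * x ^ n)⁻¹ = x * (x ^ n * c * (x ^ n)⁻¹) * x⁻¹ by group,
            ih, show x * (e ^ n * c) * x⁻¹ = x * e ^ n * (c * x⁻¹) by group, (he.pow_right n).eq,
            pow_succ, hedef]
          group
      have h1 := hpow (orderOf x)
      rw [pow_orderOf_eq_one, one_mul, inv_one, mul_one] at h1
      obtain ⟨j, hj⟩ := exists_pow_of_isPGroup hQp heQ
      have he1 : e = 1 := orderOf_eq_one_iff.1 (Nat.eq_one_of_dvd_coprimes (hcop.pow_right j)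
        (orderOf_dvd_of_pow_eq_one (mul_eq_right.1 h1.symm)) (orderOf_dvd_of_pow_eq_one hj))
      exact mul_inv_eq_iff_eq_mul.1 (mul_inv_eq_one.1 he1)
    have hxL := hinvL x hx hxd hxt
    rcases Nat.lt_or_ge 1 M.u with hu | hu
    swap
    · intro c _
      obtain ⟨k, hk⟩ := mem_zpowers_iff.1 (hgx x hx hxd hxt)
      rw [← hk, hg1 hu, one_zpow]
      exact Commute.one_left c
    have hTor : ∀ c ∈ Q₁, c ∈ S.L → Commute x c := by
      intro c hc hcL
      refine key c hc (hWcomm x hx hxd hxt _ ?_)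
      refine (S.ker (⟨x, hxL⟩ * ⟨c, hcL⟩ * ⟨x, hxL⟩⁻¹ * ⟨c, hcL⟩⁻¹)).1 ?_
      obtain ⟨i, hi⟩ := hθgen _ (hinvT ⟨x, hxL⟩ hx hxt)
      obtain ⟨j, hj⟩ := hθgen _ (hcent_T hu ⟨c, hcL⟩ (hQ hc).1)
      rw [map_mul, map_mul, map_mul, map_inv, map_inv, ← hi, ← hj,
        ((Commute.refl θ₀).zpow_zpow i j).eq, mul_inv_cancel_right, mul_inv_cancel]
    intro c hc
    refine key c hc (hTor _ (mul_mem (conj_mem hxQ hc) (inv_mem hc)) ?_)
    have := mul_mem hxL (conj_mem (S.norm (hQ hc).2) (inv_mem hxL))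
    rwa [← mul_assoc, ← mul_assoc] at this
  · -- rotations
    intro r hr hrd hrr
    rcases Nat.lt_or_ge 1 M.u with hu | hu
    swap
    · rw [hg1 hu]; exact Or.inl (Commute.one_right r)
    obtain ⟨hrN, hvN, -, -, -, hrζ, -, hrID⟩ := hdiag hu r hr hrd hrr
    have hodd2 : ∀ x : G, x ∈ W → (∃ k, x ^ 2 ^ k = 1) → x = 1 := fun x hx ⟨k, hk⟩ =>
      orderOf_eq_one_iff.1 (Nat.eq_one_of_dvd_coprimes
        ((Nat.coprime_two_right.2 (odd_orderOf hWo hx)).pow_right k) dvd_rfl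
        (orderOf_dvd_of_pow_eq_one hk))
    have htr := C.t_conj_rot hr
    have hphi : S.φ ⟨r * g * r⁻¹, conj_mem hrN.1 g₀.2⟩ = S.act ⟨r, hrN⟩ θ₀ := by
      rw [← hgθ]; exact (S.act_apply hrN g₀).symm
    have hgW := hWcomm g hgU hgd hgt
    rcases M.fix hu _ hrID hrζ with h | h | ⟨hinn, hsq, hneg⟩
    · -- the square acts trivially
      have hrrW : r * r ∈ W := S.mem_W_of_act (hmemK.2 hrr) (by
        rw [← h, ← map_mul]; rfl)
      have h1 := hodd2 _ hrrW ⟨C.n - 1, by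
        rw [(Commute.refl r).mul_pow, C.rot_pow_two hr, one_mul]⟩
      rcases C.data.eq_z hr h1 with e | e
      · exact Or.inl (e ▸ Commute.one_left g)
      · exact Or.inl (show Commute r g by rw [e]; exact (hUz g hgU).symm)
    · have hw : g⁻¹ * (r * g * r⁻¹) ∈ W :=
        S.map_eq_iff.1 (show S.φ g₀ = S.φ ⟨r * g * r⁻¹, conj_mem hrN.1 g₀.2⟩ by
          rw [hphi, h θ₀ hθ₀, hgθ])
      exact Or.inl (exact_fix (C.rot_pow_two hr) C.inv_t.1 htr hgt (hWt _ hw) (hgW _ hw)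
        (odd_orderOf hWo hw) (by rw [mul_inv_cancel_left]))
    · have hrK := hin r hr hrd hrr hrN hinn
      have hrrz : r * r * C.z ∈ W := S.mem_W_of_act (mul_mem (hmemK.2 hrr) hzK) (by
        rw [show (⟨r * r * C.z, S.le_N (mul_mem (hmemK.2 hrr) hzK)⟩ : S.N) =
          ⟨r, hrN⟩ * ⟨r, hrN⟩ * ⟨C.z, S.L_le_N hzL⟩ from Subtype.ext rfl, map_mul, map_mul,
          S.act_L ⟨C.z, hzL⟩, hsq, ← hζ, ← map_mul, hζ, S.map_sq C.inv_z.1, map_one])
      have hzc : Commute (r * r) C.z := ((C.commute_z_rot hr).symm.mul_left (C.commute_z_rot hr).symm)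
      have h1 := hodd2 _ hrrz ⟨C.n - 1, by
        rw [hzc.mul_pow, (Commute.refl r).mul_pow, C.rot_pow_two hr, one_mul, one_mul,
          show C.n - 1 = C.n - 2 + 1 by have := C.data.hn; omega, pow_succ', pow_mul, pow_two,
          C.inv_z.1, one_pow]⟩
      have hrz : r * r = C.z := by
        rw [eq_inv_of_mul_eq_one_left h1, C.inv_z.inv_eq]
      have hw : g * (r * g * r⁻¹) ∈ W := by
        have := S.map_eq_iff.1 (show S.φ g₀⁻¹ = S.φ ⟨r * g * r⁻¹, conj_mem hrN.1 g₀.2⟩ by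
          rw [hphi, hneg θ₀ hθ₀, map_inv, hgθ])
        rwa [Subgroup.coe_inv, inv_inv] at this
      exact Or.inr ⟨hrz, hmemK.1 hrK, exact_inv C.inv_t.1 htr hgt (hWt _ hw) (hgW _ hw)
        (odd_orderOf hWo hw) (hrz ▸ (hUz g hgU).symm) (by rw [inv_mul_cancel_left])⟩
  · -- outer
    intro r hr hrd hrr hu
    have hrd' : r * d * r⁻¹ ∈ zpowers d := by rw [hrd]; exact inv_mem (mem_zpowers d)
    obtain ⟨hrN, hvN, hv1, hv2, hvζ, -, hvID, -⟩ := hdiag hu r hr hrd' hrr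
    have hnin : ∀ x : Q, S.act ⟨r * C.t, hvN⟩ ≠ MulAut.conj x := by
      intro x hx
      have h1 : r ∈ K := hin r hr hrd' hrr hrN ⟨x * τ⁻¹, by
        rw [map_mul, map_inv, ← hx, hv1, mul_inv_cancel_right]⟩
      rw [(hmemK.1 h1).eq, mul_inv_cancel_right] at hrd
      exact hd1 (eq_one_of_inv_eq hrd.symm (hUo d hdU))
    obtain ⟨M', hM'o, hM'u, hM'c, η, hηo, hγη, hηz⟩ := M.outer hu _ hvID hv2 hnin hvζ
    set v := r * C.t with hv
    have hvv : v * v = 1 := C.rot_mul_t_sq hr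
    have hvi : v⁻¹ = v := inv_eq_of_mul_eq_one_right hvv
    have hvz : Commute v C.z := (C.commute_z_rot hr).symm.mul_left (C.mem_H.1 C.t_mem_H)
    obtain ⟨y₀, hy₀⟩ := S.surj η
    -- a lift fixed by the reflection
    have hw₁ : (y₀ : G)⁻¹ * (v * y₀ * v) ∈ W := by
      have h1 : S.φ y₀ = S.φ ⟨v * y₀ * v⁻¹, conj_mem hvN.1 y₀.2⟩ := by
        rw [← S.act_apply hvN y₀, hy₀, hγη]
      have := S.map_eq_iff.1 h1
      change (y₀ : G)⁻¹ * (v * y₀ * v⁻¹) ∈ W at this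
      rwa [hvi] at this
    obtain ⟨i, hy1v⟩ := exists_fixed hvv (odd_orderOf hWo hw₁)
    set w₁ := ((y₀ : G)⁻¹ * (v * y₀ * v)) ^ i with hw₁def
    set y₁ : S.L := y₀ * ⟨w₁, S.W_le (pow_mem hw₁ i)⟩ with hy₁def
    have hy₁η : S.φ y₁ = η := by
      rw [hy₁def, map_mul, (S.ker ⟨w₁, S.W_le (pow_mem hw₁ i)⟩).2 (pow_mem hw₁ i), mul_one, hy₀]
    -- inverted by `z`
    have hw₂ : C.z * (y₁ : G) * C.z * y₁ ∈ W :=
      (S.ker (⟨C.z, hzL⟩ * y₁ * ⟨C.z, hzL⟩ * y₁)).1 (by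
        rw [map_mul, map_mul, map_mul, hy₁η, ← hζ, hηz, inv_mul_cancel])
    obtain ⟨j, hjz⟩ := exists_inverted_lift C.inv_z.1 (hWz _ hw₂).symm (odd_orderOf hWo hw₂)
    set w₂ := (C.z * (y₁ : G) * C.z * y₁) ^ j with hw₂def
    set y : S.L := y₁ * ⟨w₂, S.W_le (pow_mem hw₂ j)⟩⁻¹ with hydef
    have hyη : S.φ y = η := by
      rw [hydef, map_mul, map_inv, (S.ker ⟨w₂, S.W_le (pow_mem hw₂ j)⟩).2 (pow_mem hw₂ j), inv_one,
        mul_one, hy₁η]
    have hyval : (y : G) = y₁ * w₂⁻¹ := rfl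
    have hy1v' : Commute (y₁ : G) v := hy1v
    have hyv : Commute (y : G) v := by
      rw [hyval, hw₂def]
      exact hy1v'.mul_left
        ((((hvz.symm.mul_left hy1v').mul_left hvz.symm).mul_left hy1v').pow_left j).inv_left
    have hyz : C.z * (y : G) * C.z = (y : G)⁻¹ := by rw [hyval]; exact hjz
    have hyo : orderOf (y : G) = M' := by
      refine Nat.dvd_antisymm (orderOf_dvd_of_pow_eq_one ?_) ?_
      · have hmem : (y : G) ^ M' ∈ W := by
          have := (S.ker (y ^ M')).1 (by rw [map_pow, hyη, ← hηo, pow_orderOf_eq_one])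
          rwa [SubgroupClass.coe_pow] at this
        refine eq_one_of_inv_eq ?_ (odd_orderOf hWo hmem)
        rw [← inv_pow, ← hyz]
        calc (C.z * (y : G) * C.z) ^ M' = (C.z * (y : G) * C.z⁻¹) ^ M' := by rw [C.inv_z.inv_eq]
          _ = (y : G) ^ M' := by rw [conj_pow, (hWz _ hmem).symm.eq, mul_inv_cancel_right]
      · rw [← hηo, ← hyη, Subgroup.orderOf_coe]
        exact orderOf_map_dvd S.φ y
    obtain ⟨h, hhz, hhv⟩ := C.exists_exchange hr
    refine ⟨M', hM'o, hM'u, hM'c, h * y * h⁻¹, ?_, ?_, ?_⟩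
    · refine C.mem_U_of_odd (C.mem_H.2 ?_) (by rw [CfsgLib.Invol.orderOf_conj_eq, hyo]; exact hM'o)
      have := (Commute.conj_iff h).2 hyv
      rwa [hhv] at this
    · rw [CfsgLib.Invol.orderOf_conj_eq, hyo]
    · rw [hv, ← hhz]
      calc h * C.z * h⁻¹ * (h * y * h⁻¹) * (h * C.z * h⁻¹) = h * (C.z * y * C.z) * h⁻¹ := by group
        _ = (h * y * h⁻¹)⁻¹ := by rw [hyz]; group
  · -- fixed
    intro hsd hsg hu
    have hsK : C.s ∈ K := hmemK.2 hsd
    obtain ⟨c, hc, hcst⟩ := hfus C.s (mem_zpowers _) (hsd.mul_left hdt.symm)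
    have hstL : C.s * C.t ∈ S.L := hcst ▸ conj_mem (S.norm hc) hzL
    have hsL : C.s ∈ S.L := by
      have := mul_mem hstL htL
      rwa [mul_assoc, C.inv_t.1, mul_one] at this
    have hPL : (C.P : Subgroup G) ≤ S.L := fun x hx => by
      rcases C.data.cases x hx with h | h
      · exact zpowers_le.2 hsL h
      · have := mul_mem (zpowers_le.2 hsL h) htL
        rwa [mul_assoc, C.inv_t.1, mul_one] at this
    let f : ↥(C.P : Subgroup G) →* Q := S.φ.comp (inclusion hPL)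
    have hf : Function.Injective f := by
      rw [injective_iff_map_eq_one]
      intro x hx
      have hxW : (x : G) ∈ W := (S.ker _).1 hx
      obtain ⟨k, hk⟩ := C.P.2 x
      refine Subtype.ext (orderOf_eq_one_iff.1 (Nat.eq_one_of_dvd_coprimes
        ((Nat.coprime_two_right.2 (odd_orderOf hWo hxW)).pow_right k) dvd_rfl
        (orderOf_dvd_of_pow_eq_one ?_)))
      rw [← SubgroupClass.coe_pow, hk, Subgroup.coe_one]
    haveI := S.finite
    have hcardP : Nat.card (C.P : Subgroup G) = 2 ^ C.n := C.data.card_sylow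
    have hcardL : Nat.card S.L = Nat.card Q * Nat.card W := by
      rw [Subgroup.card_eq_card_quotient_mul_card_subgroup S.φ.ker,
        Nat.card_congr (QuotientGroup.quotientKerEquivOfSurjective _ S.surj).toEquiv]
      congr 1
      rw [show S.φ.ker = W.subgroupOf S.L from Subgroup.ext S.ker,
        Nat.card_congr (subgroupOfEquivOfLe S.W_le).toEquiv]
    have hdvd : 2 ^ C.n ∣ Nat.card Q := hcardP ▸ Subgroup.card_dvd_of_injective f hf
    have hndvd : ¬ 2 ^ (C.n + 1) ∣ Nat.card Q := by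
      intro h
      have h1 := (h.trans (dvd_mul_right _ (Nat.card W))).trans (hcardL ▸ card_subgroup_dvd_card S.L)
      rw [← (C.P : Subgroup G).card_mul_index, hcardP, pow_succ] at h1
      exact C.P.not_dvd_index (Nat.dvd_of_mul_dvd_mul_left (by positivity) h1)
    obtain ⟨q, ε, hq, hε, heq, hqQ⟩ := M.fixed hu C.n C.data.hn ⟨f ⟨C.s, C.data.σ_mem⟩, by
        rw [orderOf_injective f hf, Subgroup.orderOf_mk, C.data.ordσ],
      hφz ⟨C.s, hsL⟩ ((Commute.refl C.s).pow_right _), fun y hy => by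
        obtain ⟨k, rfl⟩ := hθgen y hy
        rw [← hgθ]
        exact ((show Commute (⟨C.s, hsL⟩ : S.L) g₀ from Subtype.ext hsg.eq).map S.φ).zpow_right k⟩
      hdvd hndvd
    refine ⟨q, ε, hq, hε, heq, ?_⟩
    set A := C.D1 ⊓ K with hA
    have hAL : A ⊓ S.L = W := by
      refine le_antisymm ?_ (le_inf (le_inf hW (CfsgLib.DGroup.coreIn_le K)) S.W_le)
      rintro x ⟨⟨hxD, -⟩, hxL⟩
      obtain ⟨hxU, hxt⟩ := C.mem_D1.1 hxD
      refine (S.ker ⟨x, hxL⟩).1 (eq_one_of_inv_eq ?_ (S.odd_map (hUo x hxU)))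
      rw [← M.inv _ (hcent_T hu ⟨x, hxL⟩ hxU), hτ, ← map_mul, ← map_mul]
      exact congrArg S.φ (Subtype.ext (conj_eq_of_commute C.inv_t.1 hxt))
    have h2 := CfsgLib.Solvable.card_sup_mul_card_inf (inf_le_right.trans S.norm : A ≤ normalizer (S.L : Set G))
    rw [hAL, hcardL, ← mul_assoc] at h2
    have h3 : Nat.card ↥(A ⊔ S.L) = Nat.card A * Nat.card Q :=
      Nat.eq_of_mul_eq_mul_right (Nat.card_pos (α := W)) h2
    exact (mul_dvd_mul_left _ hqQ).trans (h3 ▸ card_dvd_of_le (sup_le inf_le_right S.le))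

/-- The torus of `C(d)` for an element `d` of `D1` with the fusion of the four groups in `C(d)`. -/
theorem exists_torus {d : G} (hd : d ∈ C.D1) (hd1 : d ≠ 1)
    (hW : coreIn (centralizer ({d} : Set G)) ≤ C.D1)
    (hfus : ∀ r ∈ zpowers C.s, Commute (r * C.t) d →
      ∃ g ∈ centralizer ({d} : Set G), g * C.z * g⁻¹ = r * C.t) : Nonempty (Torus C d) := by
  classical
  set K := centralizer ({d} : Set G) with hK
  obtain ⟨hdU, hdt⟩ := C.mem_D1.1 hd
  have hdz : Commute d C.z := C.mem_H.1 (C.U_le_H hdU)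
  have hzK : C.z ∈ K := mem_centralizer_singleton_iff.2 hdz.eq.symm
  have htK : C.t ∈ K := mem_centralizer_singleton_iff.2 hdt.eq.symm
  have hKtop : K ≠ ⊤ := fun h => by
    haveI := C.simple
    rcases (show (center G).Normal from inferInstance).eq_bot_or_eq_top with h' | h'
    · refine hd1 (mem_bot.1 (h' ▸ mem_center_iff.2 fun g => ?_))
      exact mem_centralizer_singleton_iff.1 (show g ∈ K from h ▸ mem_top g)
    · exact C.na ⟨⟨fun x y => (mem_center_iff.1 (h' ▸ mem_top x) y).symm⟩⟩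
  have hzt : C.z ≠ C.t := CaseII.z_ne_t C
  obtain ⟨c₁, hc₁, hc₁t⟩ := hfus 1 (one_mem _) (by rw [one_mul]; exact hdt.symm)
  rw [one_mul] at hc₁t
  obtain ⟨c₂, hc₂, hc₂t⟩ := hfus C.z (pow_mem (mem_zpowers C.s) _) (hdz.symm.mul_left hdt.symm)
  obtain ⟨L₀, hLn, hOL, hLc, hshape⟩ := C.IH K hKtop C.t C.inv_t (CaseII.commute_zt C) hzt.symm
    ⟨hzK, htK, ⟨c₁, hc₁, hc₁t⟩, c₂, hc₂, hc₂t⟩
  have hV1 : ∀ {Q : Type} [Group Q] (S : Socle K Q), 2 ∣ Nat.card Q → C.z ∈ S.L ∧ C.t ∈ S.L := by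
    intro Q _ S h2
    have hev : Even (Nat.card S.L) :=
      even_iff_two_dvd.2 (h2.trans (Subgroup.card_dvd_of_surjective S.φ S.surj))
    obtain ⟨v, hv, hv1, hvL⟩ := CaseII.exists_mem_V1 C (L := K)
      ((closure_le _).2 (by rintro x (rfl | rfl); exacts [hzK, htK])) S.le S.norm hev
    have hback : ∀ {c w : G}, c ∈ K → w ∈ S.L → c * C.z * c⁻¹ = w → C.z ∈ S.L := fun {c w} hc hw e => by
      have := conj_mem' (S.norm hc) hw
      rwa [← e, show c⁻¹ * (c * C.z * c⁻¹) * c = C.z by group] at this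
    have hz : C.z ∈ S.L := by
      rcases (CaseII.mem_V1 C).1 hv with rfl | rfl | rfl | rfl
      exacts [absurd rfl hv1, hvL, hback hc₁ hvL hc₁t, hback hc₂ hvL hc₂t]
    exact ⟨hz, hc₁t ▸ conj_mem (S.norm hc₁) hz⟩
  rcases hshape with ⟨F, _, _, hodd, f, hfs, hfk⟩ | ⟨f, hfs, hfk⟩
  · obtain ⟨S⟩ := socle_of_shape hLn hOL hLc f hfs hfk
    have h2 : 2 ∣ Nat.card (Matrix.ProjectiveSpecialLinearGroup (Fin 2) F) := by
      have h1 := Fintype.one_lt_card (α := F)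
      obtain ⟨N⟩ := TorusPSL.exists_num hodd (by obtain ⟨k, hk⟩ := hodd; omega)
      refine Dvd.intro (2 ^ N.a * (Fintype.card F * N.u * N.M))
        (Nat.eq_of_mul_eq_mul_left two_pos ?_)
      rw [CfsgLib.GW.CaseI.two_mul_card_psl hodd, N.two_mul_card]
      ring
    obtain ⟨hzL, htL⟩ := hV1 S h2
    have hzI : (C.z : G) * C.z = 1 := C.inv_z.1
    have hc : Commute (S.φ ⟨C.t, htL⟩) (S.φ ⟨C.z, hzL⟩) :=
      Commute.map (show Commute (⟨C.t, htL⟩ : S.L) ⟨C.z, hzL⟩ from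
        Subtype.ext (CaseII.commute_zt C).eq.symm) S.φ
    have hne : S.φ ⟨C.t, htL⟩ ≠ S.φ ⟨C.z, hzL⟩ := fun h => hzt (S.eq_of_map_eq
      (x := ⟨C.t, htL⟩) (y := ⟨C.z, hzL⟩) C.inv_t.1 hzI
      (fun w hw => (C.mem_D1.1 (hW hw)).2) h).symm
    obtain ⟨M⟩ := psl_model hodd (S.map_sq (x := ⟨C.z, hzL⟩) hzI)
      (S.map_ne_one (x := ⟨C.z, hzL⟩) hzI C.inv_z.2) (S.map_sq (x := ⟨C.t, htL⟩) C.inv_t.1)
      (S.map_ne_one (x := ⟨C.t, htL⟩) C.inv_t.1 C.inv_t.2) hc hne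
    exact C.torus_of_socle hd hd1 hW hfus S hzL htL M
  · obtain ⟨S⟩ := socle_of_shape hLn hOL hLc f hfs hfk
    have h2 : 2 ∣ Nat.card (alternatingGroup (Fin 7)) := by
      rw [nat_card_alternatingGroup, Nat.card_fin]; decide
    obtain ⟨hzL, htL⟩ := hV1 S h2
    have hc : Commute (S.φ ⟨C.t, htL⟩) (S.φ ⟨C.z, hzL⟩) :=
      Commute.map (show Commute (⟨C.t, htL⟩ : S.L) ⟨C.z, hzL⟩ from
        Subtype.ext (CaseII.commute_zt C).eq.symm) S.φ
    obtain ⟨M⟩ := a7_model (S.map_sq (x := ⟨C.z, hzL⟩) C.inv_z.1)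
      (S.map_ne_one (x := ⟨C.z, hzL⟩) C.inv_z.1 C.inv_z.2) (S.map_sq (x := ⟨C.t, htL⟩) C.inv_t.1) hc
    exact C.torus_of_socle hd hd1 hW hfus S hzL htL M

end CfsgLib.GW.Eight.Ctx
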