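import Cfsg.Agent.GW.Eight.Main
import Cfsg.Agent.GW.Eight.Supply
import Cfsg.Agent.GW.Eight.Torus

/-!
# Gorenstein–Walter, `|S| ≥ 8`: the tori exist
-/

set_option autoImplicit false
set_option linter.style.haveILetI false

namespace CfsgLib.GW.Eight

open Subgroup

universe u

variable {G : Type u} [Group G] [Fintype G] [Fact (Nat.Prime 2)]

/-- The tori exist. -/
theorem torusSupply : TorusSupply G :=
  torus_supply_of fun E _ hd hd1 hW hfus => E.exists_torus hd hd1 hW hfus

end CfsgLib.GW.Eight
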