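import Cfsg.Agent.GW.Eight.Refl
import Cfsg.Agent.GW.Eight.CoreEigen

/-!
# Gorenstein–Walter, `|S| = 8`: the primes `p` with `O_p(H) ≠ 1` are good

Suppose `t` centralises a Sylow `p`-subgroup of `U`, hence an invariant one, `R`, contained in `U0`.
Some `X = O_q(H) ∩ [U, t]` is not centralised by `t`. If `q` is good, `X` is inverted by both reflections,
so central in `U0`; if not, `s t` centralises it and `U0` acts on it as the `p'`-group `[U, t]`. Either way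
`R` centralises `X`, against `C_U(R) ≤ D1`. What the theorem needs from the good primes and the inclusion
`R ≤ U0` are hypotheses here.
-/

set_option autoImplicit false
set_option linter.style.haveILetI false
set_option linter.unusedSectionVars false

namespace CfsgLib.GW.Eight.Ctx

open Subgroup CfsgLib.DihPrincipal CfsgLib.GW
open CfsgLib.NormCyclic (Inv)
open CfsgLib.DGroup (coreIn Op conj_mem conj_mem' odd_orderOf eq_one_of_inv_eq)
open CfsgLib.GW.CaseI (exists_pow_of_isPGroup invGen invGen_le mem_invGen exists_split le_normalizer_invGen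
  mem_normalizer_invGen_of_commute not_dvd_invGen commute_of_le_centralizer commute_of_le_inverted
  commute_of_fixed conj_eq_of_commute commute_of_conj_eq conj_invol_eq)

universe u

variable {G : Type u} [Group G] [Fintype G] [Fact (Nat.Prime 2)] (C : Ctx G)
include C

theorem U1_le_U : C.U1 ≤ C.U := invGen_le _ _

theorem U2_le_U : C.U2 ≤ C.U := invGen_le _ _

theorem U0_le_U : C.U0 ≤ C.U := sup_le C.U1_le_U C.U2_le_U

/-- An invariant Sylow subgroup of `U` is centralised by `t` if some Sylow subgroup is. -/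
theorem exists_sylowU_commute {p : ℕ} [Fact p.Prime] {Q : Subgroup G} (hQ : IsPGroup p Q)
    (hQU : Q ≤ C.U) (hQi : ¬ p ∣ Q.relIndex C.U) (hQt : ∀ x ∈ Q, Commute x C.t) :
    ∃ R, C.SylowU p R ∧ ∀ x ∈ R, Commute x C.t := by
  obtain ⟨R, hR⟩ := C.exists_sylowU p
  have hA : zpowers C.t ≤ normalizer (C.U : Set G) := zpowers_le.2 C.t_norm_U
  have hcop : (Nat.card (zpowers C.t)).Coprime (Nat.card C.U) := by
    rw [Nat.card_zpowers, C.inv_t.orderOf]; exact Nat.coprime_two_left.2 C.odd_U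
  have hsol : Group.IsSolvable (zpowers C.t) :=
    Group.isSolvable_of_comm fun x y => Subtype.ext (by
      obtain ⟨i, hi⟩ := mem_zpowers_iff.1 x.2
      obtain ⟨j, hj⟩ := mem_zpowers_iff.1 y.2
      simp only [Subgroup.coe_mul, ← hi, ← hj, ← zpow_add, add_comm])
  let S₁ : Sylow p C.U := (hQ.comap_subtype (K := C.U)).toSylow hQi
  let S₂ : Sylow p C.U := (hR.isPGroup.comap_subtype (K := C.U)).toSylow hR.index
  have hm1 : (S₁ : Subgroup C.U).map C.U.subtype = Q := map_subgroupOf_eq_of_le hQU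
  have hm2 : (S₂ : Subgroup C.U).map C.U.subtype = R := map_subgroupOf_eq_of_le hR.le
  obtain ⟨c, hct, hc⟩ := CfsgLib.CoprimeAct.invariant_sylow_conj hA hcop (Or.inl hsol) p S₁ S₂
    (by
      rw [hm1, zpowers_le]
      exact centralizer_le_normalizer _ (mem_centralizer_iff.2 fun x hx => (hQt x hx).eq))
    (by rw [hm2, zpowers_le]; exact hR.P_le C.data.τ_mem)
  have hct' : Commute (c : G) C.t := (mem_centralizer_iff.1 hct _ (mem_zpowers _)).symm
  refine ⟨R, hR, fun x hx => ?_⟩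
  rw [← hm2, ← hc] at hx
  obtain ⟨y, ⟨w, hw, rfl⟩, rfl⟩ := hx
  have h1 := (Commute.conj_iff (c : G)).2 (hQt w (hm1 ▸ ⟨w, hw, rfl⟩))
  rwa [hct'.eq, mul_inv_cancel_right] at h1

/-- `C_U(R) ≤ D1` for an invariant Sylow subgroup centralised by `t`. -/
theorem inf_centralizer_le_D1 (hmax : IsCoatom C.H) {p : ℕ} [Fact p.Prime] (hO : Op p C.H ≠ ⊥)
    {R : Subgroup G} (hR : C.SylowU p R) (hRt : ∀ x ∈ R, Commute x C.t) :
    C.U ⊓ centralizer (R : Set G) ≤ C.D1 := by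
  have hRD : R ≤ C.D1 := fun x hx => C.mem_D1.2 ⟨hR.le hx, hRt x hx⟩
  obtain ⟨r, h1, -, -, hrR⟩ := C.exists_rho_normalizer hR.isPGroup hRD fun h =>
    hR.index (h.trans (Dvd.intro _ (relIndex_mul_relIndex R C.D1 C.U hRD inf_le_left)))
  rintro x ⟨hxU, hxR⟩
  have hc : r⁻¹ * x * r ∈ centralizer (R : Set G) := mem_centralizer_iff.2 fun w hw => by
    have h2 : Commute (r * w * r⁻¹) x := mem_centralizer_iff.1 hxR _ (conj_mem hrR hw)
    have h3 := (Commute.conj_iff r⁻¹).2 h2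
    rw [inv_inv, show r⁻¹ * (r * w * r⁻¹) * r = w by group] at h3
    exact h3.eq
  have h2 := (Commute.conj_iff r).2
    (C.mem_H.1 (C.centralizer_le_H hmax hO hR.isPGroup hR.le hR.index hc))
  rw [h1, show r * (r⁻¹ * x * r) * r⁻¹ = x by group] at h2
  exact C.mem_D1.2 ⟨hxU, h2⟩

section Eight

variable (hn : C.n = 3)
include hn

theorem s_sq : C.s * C.s = C.z := by
  rw [z, hn]; exact (pow_two _).symm

theorem conj_s_t : C.s * C.t * C.s⁻¹ = C.z * C.t := by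
  have h := C.four.rot_conj_refl 0 1
  have e : C.s * C.t * C.s⁻¹ = C.s ^ (1 : ℤ) * (C.s ^ (0 : ℤ) * C.t) * (C.s ^ (1 : ℤ))⁻¹ := by simp
  rw [e]
  refine h.trans ?_
  show C.s ^ ((0 : ℤ) + 2 * 1) * C.t = C.z * C.t
  rw [zero_add, mul_one, show (C.s ^ (2 : ℤ)) = C.s * C.s by rw [zpow_two], C.s_sq hn]

/-- On `U` the reflections `t` and `z * t` act alike, so `[U, t]` is normal in `H`. -/
theorem H_le_normalizer_U1 : C.H ≤ normalizer (C.U1 : Set G) := by
  have hUn : C.U ≤ normalizer (C.U1 : Set G) := le_normalizer_invGen C.inv_t.1 C.odd_U C.t_norm_U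
  have ht : C.t ∈ normalizer (C.U1 : Set G) :=
    mem_normalizer_invGen_of_commute C.inv_t.1 (Commute.refl _) C.t_norm_U
  have hs : C.s ∈ normalizer (C.U1 : Set G) := by
    refine mem_normalizer_iff_map_conj_eq.2 (eq_of_le_of_card_ge ?_
      (card_map_of_injective (MulAut.conj C.s).injective).ge)
    rw [U1, invGen, MonoidHom.map_closure]
    refine (closure_le _).2 ?_
    rintro _ ⟨x, ⟨hxU, hxt⟩, rfl⟩
    have hyU : C.s * x * C.s⁻¹ ∈ C.U := conj_mem C.s_norm_U hxU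
    refine mem_invGen hyU ?_
    show C.t * (C.s * x * C.s⁻¹) * C.t = (C.s * x * C.s⁻¹)⁻¹
    have hx' : (C.z * C.t) * (C.s * x * C.s⁻¹) * (C.z * C.t) = (C.s * x * C.s⁻¹)⁻¹ := by
      rw [← C.conj_s_t hn, conj_mul, conj_mul, hxt, conj_inv]
    have hyt : Commute C.z (C.t * (C.s * x * C.s⁻¹) * C.t) := by
      have := C.commute_z (conj_mem C.t_norm_U hyU)
      rw [C.inv_t.inv_eq] at this
      exact this.symm
    rw [← hx', show C.z * C.t * (C.s * x * C.s⁻¹) * (C.z * C.t) =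
      C.z * (C.t * (C.s * x * C.s⁻¹)) * (C.z * C.t) by group, C.commute_zt.eq]
    calc C.t * (C.s * x * C.s⁻¹) * C.t
        = C.z * (C.t * (C.s * x * C.s⁻¹) * C.t) * C.z := by
          rw [hyt.eq, mul_assoc _ C.z C.z, C.inv_z.1, mul_one]
      _ = _ := by group
  intro h hh
  obtain ⟨u, hu, p, hp, rfl⟩ := C.exists_mul_P hh
  refine mul_mem (hUn hu) ?_
  obtain ⟨i, rfl | rfl⟩ := C.exists_cases hp
  · exact zpow_mem hs i
  · exact mul_mem (zpow_mem hs i) ht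

/-- If `t` centralises every `O_q(H) ∩ [U, t]` it centralises `U`. -/
theorem U1_eq_bot_of_commute
    (h : ∀ q : ℕ, q.Prime → ∀ x ∈ Op q C.H ⊓ C.U1, Commute x C.t) : C.U1 = ⊥ := by
  have hall : ∀ q : ℕ, q.Prime → ∀ x ∈ Op q C.H, Commute x C.t := by
    intro q hq x hx
    haveI : Fact q.Prime := ⟨hq⟩
    obtain ⟨c, -, i, hi, hct, hit, e⟩ := exists_split C.inv_t.1
      ((CfsgLib.DGroup.odd_Op q C.H)) (CfsgLib.DGroup.le_normalizer_Op q C.H C.t_mem_H) hx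
    have hi1 := eq_one_of_fixed_inverted C.inv_t.1 (odd_orderOf (CfsgLib.DGroup.odd_Op q C.H) hi)
      (h q hq i ⟨hi, mem_invGen (C.Op_le_U q hi) hit⟩) hit
    rw [e, hi1, mul_one]; exact hct
  refine (eq_bot_iff).2 ((closure_le _).2 ?_)
  rintro i ⟨hiU, hit⟩
  have hcomm : ∀ q : ℕ, q.Prime → ∀ x ∈ Op q C.H, Commute x i := fun q hq x hx => by
    haveI : Fact q.Prime := ⟨hq⟩
    exact (commute_of_fixed C.inv_t.1 (odd_orderOf C.odd_U hiU) hit (hall q hq x hx) (hall q hq _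
      (conj_mem (CfsgLib.DGroup.le_normalizer_Op q C.H (C.U_le_H hiU)) hx))).symm
  have hfit := CfsgLib.DGroup.mem_fit_of_commute hiU hcomm
  exact mem_bot.2 (eq_one_of_fixed_inverted C.inv_t.1 (odd_orderOf C.odd_U hiU)
    (mem_centralizer_singleton_iff.1 (CfsgLib.DGroup.fit_le_centralizer hall hfit)) hit)

/-- No Sylow subgroup of `U` is centralised by `t` for a prime `p` with `O_p(H) ≠ 1`. -/
theorem not_commute_t_of_inputs (hmax : IsCoatom C.H) (hD2 : C.D2 ≠ ⊥) {p : ℕ} [Fact p.Prime]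
    (hO : Op p C.H ≠ ⊥)
    (hN4 : ∀ q : ℕ, q.Prime → C.Good q → ∀ d ∈ Op q C.H, d ∈ C.U0 → (d ∈ C.D1 ∨ d ∈ C.D2) → d = 1)
    (hsub : ∀ R : Subgroup G, C.SylowU p R → (∀ x ∈ R, Commute x C.t) → R ≤ C.U0)
    {Q : Subgroup G} (hQ : IsPGroup p Q) (hQU : Q ≤ C.U) (hQi : ¬ p ∣ Q.relIndex C.U) :
    ¬ ∀ x ∈ Q, Commute x C.t := by
  intro hQt
  obtain ⟨R, hR, hRt⟩ := C.exists_sylowU_commute hQ hQU hQi hQt
  have hR0 := hsub R hR hRt
  have hp1 : ¬ p ∣ Nat.card C.U1 :=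
    not_dvd_invGen C.inv_t.1 C.odd_U C.t_norm_U hR.isPGroup hR.le hR.index hRt
  have hU1 : C.U1 ≠ ⊥ := by
    intro h1
    haveI := C.simple
    have hD1 : C.U ≤ C.D1 := fun x hx => by
      obtain ⟨c, hc, i, hi, hct, hit, e⟩ := exists_split C.inv_t.1 C.odd_U C.t_norm_U hx
      have := mem_invGen hi hit
      rw [show invGen C.t C.U = C.U1 from rfl, h1, mem_bot] at this
      rw [e, this, mul_one]
      exact C.mem_D1.2 ⟨hc, hct⟩
    rcases (inf_le_left.trans hD1 : C.D2 ≤ C.D1).lt_or_eq with hlt | heq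
    · refine hD2 ?_
      rw [← C.fixST_eq]
      refine fixST_eq_bot C.data (nested_of_lt C.data (by rwa [C.fixST_eq, C.fixT_eq]) fun y hy => ?_) C.conj
      rw [C.fixT_eq] at hy
      rw [pow_two, C.s_sq hn]
      exact (C.commute_z (C.mem_D1.1 hy).1).symm
    · have h2 : C.U2 = ⊥ := eq_bot_iff.2 ((closure_le _).2 fun i hi => mem_bot.2
        (eq_one_of_fixed_inverted C.inv_st.1 (odd_orderOf C.odd_U hi.1)
          (C.mem_D2.1 (show _ ∈ C.D2 by rw [show C.D2 = C.D1 from heq]; exact hD1 hi.1)).2 hi.2))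
      refine hO (eq_bot_iff.2 ((C.Op_le_of_sylow hR.isPGroup hR.le hR.index).trans (hR0.trans ?_)))
      rw [U0, h1, h2, sup_bot_eq]
  obtain ⟨q, hq, x₀, hx₀, hx₀t⟩ : ∃ q : ℕ, q.Prime ∧ ∃ x ∈ Op q C.H ⊓ C.U1, ¬ Commute x C.t := by
    by_contra h
    push Not at h
    exact hU1 (C.U1_eq_bot_of_commute hn h)
  haveI : Fact q.Prime := ⟨hq⟩
  set X := Op q C.H ⊓ C.U1 with hX
  have hXn : C.H ≤ normalizer (X : Set G) := fun g hg => mem_normalizer_iff.2 fun x => by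
    rw [hX, mem_inf, mem_inf, mem_normalizer_iff.1 (CfsgLib.DGroup.le_normalizer_Op q C.H hg) x,
      mem_normalizer_iff.1 (C.H_le_normalizer_U1 hn hg) x]
  have hXodd : Odd (Nat.card X) := (CfsgLib.DGroup.odd_Op q C.H).of_dvd_nat (card_dvd_of_le inf_le_left)
  -- it is enough that `R` centralises `X`
  suffices hRX : ∀ r ∈ R, ∀ x ∈ X, Commute r x by
    exact hx₀t (C.mem_D1.1 (C.inf_centralizer_le_D1 hmax hO hR hRt
      ⟨C.Op_le_U q hx₀.1, mem_centralizer_iff.2 fun r hr => (hRX r hr x₀ hx₀).eq⟩)).2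
  have hU1X : C.U1 ≤ normalizer (X : Set G) := (C.U1_le_U.trans C.U_le_H).trans hXn
  have hU2X : C.U2 ≤ normalizer (X : Set G) := (C.U2_le_U.trans C.U_le_H).trans hXn
  have hOq : Op q C.H ≠ ⊥ := fun h => hx₀t (by
    rw [(mem_bot.1 (h ▸ hx₀.1 :) : x₀ = 1)]; exact Commute.one_left _)
  by_cases hgood : C.Good q
  · -- both reflections invert `X`
    have hinv : ∀ b : G, b * b = 1 → b ∈ C.H →
        (∀ c ∈ X, Commute c b → c ∈ C.D1 ∨ c ∈ C.D2) → ∀ w ∈ X, b * w * b = w⁻¹ := by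
      intro b hb hbH hfix w hw
      obtain ⟨c, hc, i, -, hcb, hib, e⟩ := exists_split hb hXodd (hXn hbH) hw
      rw [e, hN4 q hq hgood c hc.1 (mem_sup_left hc.2) (hfix c hc hcb), one_mul]
      exact hib
    have e1 := commute_of_le_inverted C.inv_t.1 C.odd_U hU1X
      (hinv C.t C.inv_t.1 C.t_mem_H fun c hc h => Or.inl (C.mem_D1.2 ⟨C.Op_le_U q hc.1, h⟩))
    have e2 := commute_of_le_inverted C.inv_st.1 C.odd_U hU2X
      (hinv _ C.inv_st.1 C.st_mem_H fun c hc h => Or.inr (C.mem_D2.2 ⟨C.Op_le_U q hc.1, h⟩))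
    have hle : C.U0 ≤ centralizer (X : Set G) := sup_le
      (fun a ha => mem_centralizer_iff.2 fun w hw => (e1 a ha w hw).eq.symm)
      (fun a ha => mem_centralizer_iff.2 fun w hw => (e2 a ha w hw).eq.symm)
    intro r hr x hx
    exact (mem_centralizer_iff.1 (hle (hR0 hr)) x hx).symm
  -- `s * t` centralises `X`
  have hq2 : q ≠ 2 := fun e => hOq (by
    subst e
    refine (eq_bot_iff_forall _).2 fun y hy => ?_
    obtain ⟨j, hj⟩ := exists_pow_of_isPGroup (CfsgLib.DGroup.isPGroup_Op 2 C.H) hy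
    exact orderOf_eq_one_iff.1 (Nat.eq_one_of_dvd_coprimes
      ((Nat.coprime_two_right.2 (odd_orderOf (CfsgLib.DGroup.odd_Op 2 C.H) hy)).pow_right j)
      dvd_rfl (orderOf_dvd_of_pow_eq_one hj)))
  obtain ⟨T, hT, hTU, hTi, hTc⟩ : ∃ T : Subgroup G, IsPGroup q T ∧ T ≤ C.U ∧ ¬ q ∣ T.relIndex C.U ∧
      ((∀ w ∈ T, Commute w C.t) ∨ ∀ w ∈ T, Commute w (C.s * C.t)) := by
    by_contra h
    exact hgood ⟨hq, hq2, hOq, fun T hT hTU hTi =>
      ⟨fun hc => h ⟨T, hT, hTU, hTi, Or.inl hc⟩, fun hc => h ⟨T, hT, hTU, hTi, Or.inr hc⟩⟩⟩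
  have hXT : X ≤ T := inf_le_left.trans (C.Op_le_of_sylow hT hTU hTi)
  rcases hTc with hTc | hTc
  · exact absurd (hTc _ (hXT hx₀)) hx₀t
  set K := centralizer (X : Set G) ⊓ C.U with hK
  have hU2K : C.U2 ≤ K := fun a ha => ⟨mem_centralizer_iff.2 fun w hw =>
    (commute_of_le_centralizer C.inv_st.1 C.odd_U hU2X (fun w hw => hTc w (hXT hw)) a ha w hw).eq.symm,
    C.U2_le_U ha⟩
  have hKn : C.U ≤ normalizer (K : Set G) := fun g hg => mem_normalizer_iff.2 fun x => by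
    rw [hK, mem_inf, mem_inf,
      mem_normalizer_iff.1 (CfsgLib.DGroup.mem_normalizer_centralizer (hXn (C.U_le_H hg))) x,
      mem_normalizer_iff.1 (le_normalizer (H := C.U) hg) x]
  intro r hr
  obtain ⟨a, ha, k, hk, e⟩ := (CfsgLib.Solvable.mem_sup_of_le_normalizer (C.U1_le_U.trans hKn)).1
    ((sup_le le_sup_left (hU2K.trans le_sup_right) : C.U0 ≤ C.U1 ⊔ K) (hR0 hr))
  have hpow : ∀ m : ℕ, ∃ k' ∈ K, (a * k) ^ m = a ^ m * k' := by
    intro m
    induction m with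
    | zero => exact ⟨1, one_mem _, by simp⟩
    | succ m ih =>
      obtain ⟨k', hk', e'⟩ := ih
      refine ⟨a⁻¹ * k' * a * k, mul_mem (conj_mem' ((C.U1_le_U.trans hKn) ha) hk') hk, ?_⟩
      rw [pow_succ, e', pow_succ]; group
  obtain ⟨k', hk', e'⟩ := hpow (Nat.card C.U1)
  have ha1 : a ^ Nat.card C.U1 = 1 :=
    orderOf_dvd_iff_pow_eq_one.1 (Subgroup.orderOf_dvd_natCard _ ha)
  rw [ha1, one_mul, e] at e'
  obtain ⟨j, hj⟩ := exists_pow_of_isPGroup hR.isPGroup hr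
  obtain ⟨i, hi⟩ := exists_pow_eq_self_of_coprime (x := r) (n := Nat.card C.U1)
    (Nat.Coprime.of_dvd_right (orderOf_dvd_of_pow_eq_one hj)
      (((Fact.out : p.Prime).coprime_iff_not_dvd.2 hp1).symm.pow_right j))
  have hrK : r ∈ K := hi ▸ pow_mem (e' ▸ hk') i
  intro x hx
  exact (mem_centralizer_iff.1 hrK.1 x hx).symm

theorem flip_D2 : C.flip.D2 = C.D1 := by
  ext x
  refine ⟨fun hx => ?_, fun hx => ?_⟩ <;>
    [obtain ⟨hxU, h⟩ := C.flip.mem_D2.1 hx; obtain ⟨hxU, h⟩ := C.mem_D1.1 hx]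
  · change x ∈ C.U at hxU
    change Commute x (C.s * (C.s * C.t)) at h
    rw [← mul_assoc, C.s_sq hn] at h
    refine C.mem_D1.2 ⟨hxU, ?_⟩
    have h2 := (C.commute_z hxU).mul_right h
    rwa [← mul_assoc, C.inv_z.1, one_mul] at h2
  · refine C.flip.mem_D2.2 ⟨hxU, ?_⟩
    show Commute x (C.s * (C.s * C.t))
    rw [← mul_assoc, C.s_sq hn]
    exact (C.commute_z hxU).mul_right h

end Eight

/-- Every prime `p` with `O_p(H) ≠ 1` is good, given what is needed from good primes and the inclusion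
of the invariant Sylow subgroups centralised by a reflection in `U0`. -/
theorem good_of_Op_of_inputs (hmax : IsCoatom C.H) (hD1 : C.D1 ≠ ⊥) (hD2 : C.D2 ≠ ⊥) {p : ℕ}
    [Fact p.Prime] (hp2 : p ≠ 2) (hO : Op p C.H ≠ ⊥)
    (hN4 : ∀ E : Ctx G, IsCoatom E.H → E.D1 ≠ ⊥ → E.D2 ≠ ⊥ → ∀ q : ℕ, q.Prime → E.Good q →
      ∀ d ∈ Op q E.H, d ∈ E.U0 → (d ∈ E.D1 ∨ d ∈ E.D2) → d = 1)
    (hsub : ∀ E : Ctx G, E.n = 3 → IsCoatom E.H → E.D1 ≠ ⊥ → E.D2 ≠ ⊥ → Op p E.H ≠ ⊥ →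
      ∀ R : Subgroup G, E.SylowU p R → (∀ x ∈ R, Commute x E.t) → R ≤ E.U0) :
    C.Good p := by
  by_cases h4 : 4 ≤ C.n
  · exact C.good_of_four_le h4 hmax hp2 hO
  have hn : C.n = 3 := by have := C.data.hn; omega
  have hF2 : C.flip.D2 ≠ ⊥ := by rw [C.flip_D2 hn]; exact hD1
  exact ⟨Fact.out, hp2, hO, fun Q hQ hQU hQi =>
    ⟨C.not_commute_t_of_inputs hn hmax hD2 hO (hN4 C hmax hD1 hD2) (hsub C hn hmax hD1 hD2 hO) hQ hQU hQi,
      C.flip.not_commute_t_of_inputs hn hmax hF2 hO (hN4 C.flip hmax hD2 hF2)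
        (hsub C.flip hn hmax hD2 hF2 hO) hQ hQU hQi⟩⟩

end CfsgLib.GW.Eight.Ctx
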