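import Cfsg.Agent.GW.Eight.Invol
import Cfsg.Agent.S0223
import Cfsg.Agent.Bender.NC.Main
import Cfsg.Agent.Bender.Commuting.Main

/-!
# A proper subgroup over `C(z)` does not fuse both four groups

It would be strongly embedded, and then its involutions would commute with each other by Bender's
theorem, whereas `t` and `s * t` do not.
-/

set_option autoImplicit false
set_option linter.style.haveILetI false
set_option linter.unusedSectionVars false

namespace CfsgLib.GW.Eight.Ctx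

open Subgroup CfsgLib.DihPrincipal CfsgLib.GW
open CfsgLib.NormCyclic (Inv)
open CfsgLib.DGroup (odd_orderOf)

universe u

variable {G : Type u} [Group G] [Fintype G] [Fact (Nat.Prime 2)] (C : Ctx G)
include C

theorem oddCore_eq_bot : Cfsg.oddCore G = ⊥ := by
  haveI := C.simple
  refine (CfsgLib.DGroup.normal_oddCore G).eq_bot_or_eq_top.resolve_right fun h => ?_
  have := odd_orderOf (CfsgLib.DGroup.odd_oddCore G) (h ▸ mem_top C.t)
  rw [C.inv_t.orderOf] at this
  exact absurd this (by decide)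

/-- No proper subgroup over `C(z)` moves `z` into both four groups. -/
theorem false_of_both {M : Subgroup G} (hM : M ≠ ⊤) (hle : C.H ≤ M) (h1 : Fused M C.z C.t)
    (h2 : Fused M C.z (C.s * C.t)) : False := by
  obtain ⟨-, -, ⟨m₁, hm₁, hm₁'⟩, -⟩ := h1
  obtain ⟨-, -, ⟨m₂, hm₂, hm₂'⟩, -⟩ := h2
  have hall : ∀ x ∈ M, Inv x → ∃ k ∈ M, k * C.z * k⁻¹ = x := by
    intro x hx hI
    obtain ⟨R, hR⟩ := (IsPGroup.of_card (p := 2) (n := 1) (by
      rw [Nat.card_zpowers, ← Subgroup.orderOf_coe, hI.orderOf, pow_one]) :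
      IsPGroup 2 (zpowers (⟨x, hx⟩ : M))).exists_le_sylow
    obtain ⟨g, hg⟩ := MulAction.exists_smul_eq M R (C.P.subtype (C.P_le_H.trans hle))
    have hy : (g : G) * x * (g : G)⁻¹ ∈ (C.P : Subgroup G) := by
      have h1 : g * ⟨x, hx⟩ * g⁻¹ ∈ ((C.P.subtype (C.P_le_H.trans hle)) : Subgroup M) := by
        rw [← hg]; exact ⟨⟨x, hx⟩, hR (mem_zpowers _), rfl⟩
      exact h1
    suffices h : ∃ k ∈ M, k * C.z * k⁻¹ = (g : G) * x * (g : G)⁻¹ by
      obtain ⟨k, hk, e⟩ := h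
      exact ⟨(g : G)⁻¹ * k, mul_mem (inv_mem g.2) hk, by
        rw [show (g : G)⁻¹ * k * C.z * ((g : G)⁻¹ * k)⁻¹ = (g : G)⁻¹ * (k * C.z * k⁻¹) * g by group, e]
        group⟩
    rcases C.invol_cases (C.P_le_H hy) (hI.conj g) with h | ⟨c, hc, h⟩ | ⟨c, hc, h⟩
    · exact ⟨1, one_mem _, by rw [h]; group⟩
    · exact ⟨c * m₁, mul_mem (hle hc) hm₁, by rw [← h, ← hm₁']; group⟩
    · exact ⟨c * m₂, mul_mem (hle hc) hm₂, by rw [← h, ← hm₂']; group⟩
  have hse : Cfsg.IsStronglyEmbedded M := by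
    refine (Cfsg.Agent.S0223.result M hM (even_iff_two_dvd.2 (C.inv_z.orderOf ▸
      Subgroup.orderOf_dvd_natCard M (hle C.z_mem_H)))).2 ⟨fun v hv hv2 x hx => ?_, ?_⟩
    · obtain ⟨k, hk, hkv⟩ := hall v hv (Inv.of_orderOf hv2)
      have h1 : k⁻¹ * x * k ∈ M := hle (C.mem_H.2 (by
        have := (Commute.conj_iff k⁻¹).2 (mem_centralizer_singleton_iff.1 hx : Commute x v)
        rw [← hkv, inv_inv, show k⁻¹ * (k * C.z * k⁻¹) * k = C.z by group] at this
        exact this))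
      simpa [mul_assoc] using mul_mem (mul_mem hk h1) (inv_mem hk)
    · intro v hv w hw hv2 hw2 _
      obtain ⟨k, hk, hkv⟩ := hall v hv (Inv.of_orderOf hv2)
      obtain ⟨l, hl, hlw⟩ := hall w hw (Inv.of_orderOf hw2)
      exact ⟨l * k⁻¹, mul_mem hl (inv_mem hk), by rw [← hkv, ← hlw]; group⟩
  have hpair : CfsgLib.Bender.PairRank G :=
    ⟨C.z, C.t, C.inv_z.orderOf, C.inv_t.orderOf, C.t_ne_z.symm, C.commute_z_t⟩
  have hcomm := CfsgLib.Bender.NC.involComm_of_shape CfsgLib.Bender.Commuting.shapeBelow_all hse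
    C.oddCore_eq_bot hpair
  have hst := hcomm (QuotientGroup.mk 1) C.t (C.s * C.t) C.inv_t.orderOf C.inv_st.orderOf
    (CfsgLib.StrongEmbed.smul_mk_one_iff.2 (hle C.t_mem_H))
    (CfsgLib.StrongEmbed.smul_mk_one_iff.2 (hle C.st_mem_H))
  -- `t` then centralises `s`
  have h1 : C.t * C.s * C.t⁻¹ = C.s := by
    rw [C.inv_t.inv_eq, mul_assoc, hst.eq, mul_assoc, C.inv_t.1, mul_one]
  have h2 : C.s * C.s = 1 := by
    have h3 := h1.symm.trans C.data.rel
    nth_rw 2 [h3]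
    exact mul_inv_cancel _
  have h4 : orderOf C.s ∣ 2 := orderOf_dvd_of_pow_eq_one (by rw [sq, h2])
  rw [C.data.q_eq] at h4
  have := C.data.two_le_half
  have := Nat.le_of_dvd two_pos h4
  omega

end CfsgLib.GW.Eight.Ctx
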