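import Cfsg.Agent.GW.CaseI.Arith

/-!
# The arithmetic contradiction of the maximal case, Sylow 2-subgroup of order `4c ≥ 8`

`|G : H| = m² x (ce+η)` with `x = 2ce+η`, `m e = i u₁`, and a local group with quotient `L₂(q₁)`,
`q₁ = 2cu₁+ε`, gives `q₁ ∣ m² x (ce+η) i l`.
-/

set_option autoImplicit false
set_option linter.unusedVariables false

namespace CfsgLib.GW.Eight

open CaseI (Shape eq_one_of_dvd_sq not_int_dvd)

/-- The arithmetic contradiction; `c` is half the order of the Sylow 2-subgroup. -/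
theorem arith_contra {p m e u₁ i l q₁ c : ℕ} {η ε : ℤ} (hc2 : 2 ≤ c) (hp : p.Prime) (hp2 : p ≠ 2)
    (hη : η = 1 ∨ η = -1) (hε : ε = 1 ∨ ε = -1) (hu : 0 < u₁) (hpu : p ∣ u₁)
    (hq : IsPrimePow q₁) (hq₁ : (q₁ : ℤ) = 2 * c * u₁ + ε) (hcop : m.Coprime u₁) (hpm : ¬ p ∣ m)
    (hmod : (p : ℤ) ∣ (m : ℤ) ^ 2 - 1) (hme : m * e = i * u₁) (hsh : Shape p u₁ i l)
    (hdiv : (q₁ : ℤ) ∣ (m : ℤ) ^ 2 * (2 * c * e + η) * (c * e + η) * i * l) : False := by
  obtain ⟨k, hk, hkp, hpk, hcase⟩ := hsh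
  obtain ⟨u₀, rfl⟩ := hpu
  have hp3 : 3 ≤ p := by have := hp.two_le; omega
  have hu0 : 1 ≤ u₀ := Nat.pos_of_mul_pos_left hu
  have hik : i = k ∨ i = p * k := by
    rcases hcase with h | h | h
    exacts [Or.inl h.1, Or.inr h.1, Or.inr (by rw [h.2.1, mul_one]; exact h.1)]
  have hm1 : m = 1 := by
    refine eq_one_of_dvd_sq hp hp2 hk hkp hpk ?_ hmod
    have h1 : m ∣ i := hcop.dvd_of_dvd_mul_right (Dvd.intro e hme)
    rcases hik with h | h <;> rw [h] at h1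
    · exact h1
    · exact ((hp.coprime_iff_not_dvd.2 hpm).symm).dvd_of_dvd_mul_left h1
  subst hm1
  rw [one_mul] at hme
  subst hme
  obtain ⟨r, f, hr, hf, hrf⟩ := hq
  rw [← Nat.prime_iff] at hr
  -- `r` is prime to `u₁`
  have hrq : (r : ℤ) ∣ (q₁ : ℤ) := by
    rw [← hrf]; push_cast; exact dvd_pow_self _ (by omega)
  have hru : ¬ (r : ℤ) ∣ ((p * u₀ : ℕ) : ℤ) := fun h => by
    have : (r : ℤ) ∣ ε := by
      have := dvd_sub hrq (h.mul_left (2 * (c : ℤ)))
      rwa [hq₁, add_sub_cancel_left] at this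
    have h1 : (r : ℤ) ∣ 1 := by rcases hε with rfl | rfl <;> simpa using this
    exact hr.one_lt.ne' (by exact_mod_cast (Int.eq_one_of_dvd_one (by positivity) h1))
  have hrp : r ≠ p := fun h => hru (by rw [h]; push_cast; exact dvd_mul_right _ _)
  have hcopr : ∀ a : ℤ, ¬ (r : ℤ) ∣ a → ∀ b : ℤ, (q₁ : ℤ) ∣ a * b → (q₁ : ℤ) ∣ b := by
    intro a ha b hab
    refine (Int.isCoprime_iff_gcd_eq_one.2 ?_ : IsCoprime (q₁ : ℤ) a).dvd_of_dvd_mul_left hab
    rw [← hrf, Int.gcd_def, Int.natAbs_natCast]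
    exact Nat.Coprime.pow_left f ((hr.coprime_iff_not_dvd).2 fun h => ha (Int.natCast_dvd.2 h))
  have hq0 : 2 * c * (p * u₀) ≤ q₁ + 1 := by
    have : ((2 * c * (p * u₀) : ℕ) : ℤ) ≤ ((q₁ + 1 : ℕ) : ℤ) := by
      push_cast; rcases hε with rfl | rfl <;> push_cast at hq₁ <;> linarith
    exact_mod_cast this
  have hbig : 4 * p ≤ q₁ + 1 := le_trans (by
    calc 4 * p = 2 * 2 * (p * 1) := by ring
      _ ≤ 2 * c * (p * u₀) := by gcongr) hq0
  have hkl : k * l ≤ p ∧ 0 < k * l := by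
    have := hk.pos
    rcases hcase with h | h | h
    · simp [h.2.1, hkp, this]
    · simp [h.2, hkp, this]
    · obtain ⟨-, rfl, -, h1, h2⟩ := h
      rw [one_mul]; exact ⟨h2, h1⟩
  -- drop `p` and `m`
  have hdiv' : (q₁ : ℤ) ∣ (2 * c * ((i * (p * u₀) : ℕ) : ℤ) + η) *
      (c * ((i * (p * u₀) : ℕ) : ℤ) + η) * k * l := by
    rcases hik with h | h
    · rw [h] at hdiv ⊢; simpa using hdiv
    · refine hcopr (p : ℤ) (fun hh => hrp ((Nat.prime_dvd_prime_iff_eq hr hp).1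
        (Int.natCast_dvd_natCast.1 hh))) _ ?_
      refine hdiv.trans (dvd_of_eq ?_)
      rw [h]; push_cast; ring
  set E : ℤ := ((i * (p * u₀) : ℕ) : ℤ) with hE
  by_cases hrk : (r : ℤ) ∣ (k : ℤ)
  · -- then `r` divides `e`
    have hrE : (r : ℤ) ∣ E := by
      refine hrk.trans ?_
      rcases hik with h | h <;> rw [hE, h] <;> push_cast
      · exact dvd_mul_right _ _
      · exact ⟨(p : ℤ) * (p * u₀), by ring⟩
    have hηu : ¬ (r : ℤ) ∣ η := fun h => by
      have h1 : (r : ℤ) ∣ 1 := by rcases hη with rfl | rfl <;> simpa using h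
      exact hr.one_lt.ne' (by exact_mod_cast (Int.eq_one_of_dvd_one (by positivity) h1))
    have h1 : ¬ (r : ℤ) ∣ 2 * c * E + η := fun h => hηu ((dvd_add_right (hrE.mul_left (2 * (c : ℤ)))).1 h)
    have h2 : ¬ (r : ℤ) ∣ c * E + η := fun h => hηu ((dvd_add_right (hrE.mul_left (c : ℤ))).1 h)
    have h3 : (q₁ : ℤ) ∣ ((k * l : ℕ) : ℤ) := by
      refine hcopr _ h2 _ (hcopr _ h1 _ ?_)
      refine hdiv'.trans (dvd_of_eq ?_)
      push_cast; ring
    have := Nat.le_of_dvd hkl.2 (Int.natCast_dvd_natCast.1 h3)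
    omega
  -- `q₁` divides `(b η - i ε) l`
  have hX : ∃ b : ℤ, (b = 1 ∨ b = 2) ∧ (q₁ : ℤ) ∣ (b * η - i * ε) * l := by
    have h0 : (q₁ : ℤ) ∣ (2 * c * E + η) * (c * E + η) * l := by
      refine hcopr _ hrk _ (hdiv'.trans (dvd_of_eq ?_))
      ring
    have hne : ¬ ((r : ℤ) ∣ 2 * c * E + η ∧ (r : ℤ) ∣ c * E + η) := fun ⟨h1, h2⟩ => by
      have h3 : (r : ℤ) ∣ η := by
        have := dvd_sub (h2.mul_left 2) h1
        rwa [show 2 * ((c : ℤ) * E + η) - (2 * c * E + η) = η by ring] at this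
      have h1 : (r : ℤ) ∣ 1 := by rcases hη with rfl | rfl <;> simpa using h3
      exact hr.one_lt.ne' (by exact_mod_cast (Int.eq_one_of_dvd_one (by positivity) h1))
    by_cases h1 : (r : ℤ) ∣ 2 * c * E + η
    · have h2 : (q₁ : ℤ) ∣ (2 * c * E + η) * l := by
        refine hcopr _ (fun h => hne ⟨h1, h⟩) _ (h0.trans (dvd_of_eq ?_))
        ring
      refine ⟨1, Or.inl rfl, ?_⟩
      have := dvd_sub h2 (dvd_mul_right (q₁ : ℤ) ((i : ℤ) * l))
      refine this.trans (dvd_of_eq ?_)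
      rw [hE, hq₁]; push_cast; ring
    · have h2 : (q₁ : ℤ) ∣ (c * E + η) * l :=
        hcopr _ h1 _ (h0.trans (dvd_of_eq (by ring)))
      refine ⟨2, Or.inr rfl, ?_⟩
      have := dvd_sub (h2.mul_left 2) (dvd_mul_right (q₁ : ℤ) ((i : ℤ) * l))
      refine this.trans (dvd_of_eq ?_)
      rw [hE, hq₁]; push_cast; ring
  obtain ⟨b, hb2, hX⟩ := hX
  rcases hcase with ⟨hi, hl, hk3⟩ | ⟨hi, hl⟩ | ⟨hi, hk1, hp2u, hl1, hlp⟩
  · rw [hi, hl, Nat.cast_one, mul_one] at hX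
    refine not_int_dvd ?_ ?_ ?_ hX <;> rcases hη with rfl | rfl <;> rcases hε with rfl | rfl <;>
      rcases hb2 with rfl | rfl <;> omega
  · rw [hi, hl, Nat.cast_one, mul_one] at hX
    set A : ℕ := 2 * c * u₀ with hA
    have hA4 : 4 ≤ A := by
      calc 4 = 2 * 2 * 1 := rfl
        _ ≤ A := by rw [hA]; gcongr
    have hX' : (q₁ : ℤ) ∣ (A : ℤ) * b * η + k := by
      have := (hX.mul_left (A : ℤ)).add (dvd_mul_left (q₁ : ℤ) ((k : ℤ) * ε))
      refine this.trans (dvd_of_eq ?_)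
      rw [hq₁, hA]; push_cast
      have hεε : ε * ε = 1 := by rcases hε with rfl | rfl <;> rfl
      linear_combination (k : ℤ) * hεε
    obtain ⟨j, hj⟩ := hk
    have hne : ((A : ℤ) * b * η + k) ≠ 0 := by
      have hAe : (A : ℤ) = 2 * ((c * u₀ : ℕ) : ℤ) := by rw [hA]; push_cast; ring
      rcases hη with rfl | rfl <;> rcases hb2 with rfl | rfl <;> omega
    have hqA : A * p ≤ q₁ + 1 := le_trans (le_of_eq (by rw [hA]; ring)) hq0
    have hb : 2 * A + k + 1 < A * p := by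
      rcases Nat.lt_or_ge p 5 with h5 | h5
      · have hp' : p = 3 := by
          interval_cases p
          · rfl
          · exact absurd hp (by decide)
        subst hp'
        have : k ≠ 3 := fun h => hpk (h ▸ dvd_rfl)
        omega
      · nlinarith
    refine not_int_dvd hne ?_ ?_ hX' <;> rcases hη with rfl | rfl <;> rcases hb2 with rfl | rfl <;>
      omega
  · rw [hi] at hX
    obtain ⟨w, hw⟩ := hp2u
    have hb : (p + 2) * l + 1 < 2 * c * (p * u₀) := by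
      have hu0p : u₀ = p * w := Nat.eq_of_mul_eq_mul_left hp.pos (by rw [hw]; ring)
      have hw1 : 1 ≤ w := by rcases w with _ | w <;> simp_all
      subst hu0p
      calc (p + 2) * l + 1 < 4 * (p * p) := by nlinarith
        _ ≤ 2 * c * (p * (p * w)) := by
          calc 4 * (p * p) = 2 * 2 * (p * (p * 1)) := by ring
            _ ≤ _ := by gcongr
    have hX0 : b * η - (p : ℤ) * ε ≠ 0 := by
      rcases hη with rfl | rfl <;> rcases hε with rfl | rfl <;> rcases hb2 with rfl | rfl <;> omega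
    have habs : |b * η - (p : ℤ) * ε| ≤ p + 2 := abs_le.2 (by
      rcases hη with rfl | rfl <;> rcases hε with rfl | rfl <;> rcases hb2 with rfl | rfl <;> omega)
    have hl0 : (0 : ℤ) ≤ (l : ℤ) := Int.natCast_nonneg l
    have hq' : ((p : ℤ) + 2) * l < q₁ := by
      have : (((p + 2) * l + 1 : ℕ) : ℤ) < ((q₁ + 1 : ℕ) : ℤ) := Int.ofNat_lt.2 (lt_of_lt_of_le hb hq0)
      push_cast at this
      omega
    have h1 : |(b * η - (p : ℤ) * ε) * l| ≤ ((p : ℤ) + 2) * l := by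
      rw [abs_mul, abs_of_nonneg hl0]
      exact mul_le_mul_of_nonneg_right habs hl0
    obtain ⟨h2, h3⟩ := abs_le.1 h1
    exact not_int_dvd (mul_ne_zero hX0 (by omega)) (by omega) (by omega) hX

end CfsgLib.GW.Eight
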