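import Cfsg.Agent.GW.Eight.Setting

/-!
# The order formula when the two groups of fixed points have the same order

With `|D1| = |D2|` the first pair equation of the principal block gives `x = 2 ^ n j + δ`,
`m j = |U : D1|` and `|G : H| = m ^ 2 x (2 ^ (n - 1) j + δ)`.
-/

set_option autoImplicit false
set_option linter.style.haveILetI false
set_option linter.unusedSectionVars false

namespace CfsgLib.GW.Eight

open CfsgLib.DihPrincipal CfsgLib.GW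
open CfsgLib.Block CfsgLib.Block.Chr
open Cfsg (charDegree AlgInt IrrCharacter)

universe u

/-- The arithmetic of the order formula. -/
theorem order_arith {n g x w : ℕ} {δ : ℤ} (hn : 3 ≤ n) (hg : Odd g) (hδ : δ = 1 ∨ δ = -1)
    (hX : (x : ℤ) - δ ≠ 0) (hx : 1 ≤ x)
    (h : (g : ℤ) * ((x : ℤ) - δ) ^ 2 = 2 ^ (2 * n - 1) * (w : ℤ) ^ 2 * (x * (x + δ))) :
    ∃ j m : ℕ, 1 ≤ j ∧ (x : ℤ) = 2 ^ n * j + δ ∧ m * j = w ∧
      (g : ℤ) = (m : ℤ) ^ 2 * x * (2 ^ (n - 1) * j + δ) := by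
  obtain ⟨X, hXe⟩ : ∃ X : ℕ, (X : ℤ) = x - δ :=
    ⟨(x - δ).toNat, Int.toNat_of_nonneg (by rcases hδ with rfl | rfl <;> omega)⟩
  rw [← hXe] at h hX
  have hX0 : 0 < X := by omega
  have h1 : 2 ^ (2 * n - 1) ∣ X ^ 2 := by
    refine ((Nat.coprime_two_left.2 hg).pow_left (2 * n - 1)).dvd_of_dvd_mul_left ?_
    have : ((2 ^ (2 * n - 1) : ℕ) : ℤ) ∣ ((g * X ^ 2 : ℕ) : ℤ) :=
      ⟨(w : ℤ) ^ 2 * (x * (x + δ)), by push_cast; linear_combination h⟩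
    exact Int.natCast_dvd_natCast.1 this
  have h2 : 2 ^ n ∣ X := by
    obtain ⟨e, r, hr, rfl⟩ := Nat.exists_eq_two_pow_mul_odd hX0.ne'
    rw [mul_pow, ← pow_mul] at h1
    have h10 := ((Nat.coprime_two_left.2 hr).pow_left (2 * n - 1)).pow_right 2 |>.dvd_of_dvd_mul_right h1
    have h11 : 2 * n - 1 ≤ e * 2 := (Nat.pow_dvd_pow_iff_le_right Nat.one_lt_two).1 h10
    exact dvd_mul_of_dvd_left (pow_dvd_pow 2 (by omega)) r
  obtain ⟨j, rfl⟩ := h2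
  have hj : 1 ≤ j := Nat.pos_of_mul_pos_left hX0
  have hxj : (x : ℤ) = 2 ^ n * j + δ := by push_cast at hXe; linear_combination -hXe
  have hp : (2 : ℤ) ^ n = 2 * 2 ^ (n - 1) := by rw [← pow_succ', show n - 1 + 1 = n by omega]
  have hp2 : ((2 : ℤ) ^ n) ^ 2 = 2 * 2 ^ (2 * n - 1) := by
    rw [← pow_mul, ← pow_succ', show 2 * n - 1 + 1 = n * 2 by omega]
  have hE : (g : ℤ) * (j : ℤ) ^ 2 = (w : ℤ) ^ 2 * (x * (2 ^ (n - 1) * j + δ)) := by
    refine mul_left_cancel₀ (show ((2 : ℤ) * 2 ^ (2 * n - 1)) ≠ 0 by positivity) ?_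
    rw [← hp2]
    push_cast at h
    linear_combination h + (2 : ℤ) ^ (2 * n - 1) * (w : ℤ) ^ 2 * x * hxj +
      (2 : ℤ) ^ (2 * n - 1) * (w : ℤ) ^ 2 * x * j * hp +
      (-(w : ℤ) ^ 2 * (x * (2 ^ (n - 1) * j + δ))) * hp2
  have hδ2 : δ * δ = 1 := by rcases hδ with rfl | rfl <;> rfl
  have hc1 : IsCoprime (j : ℤ) x := ⟨-δ * 2 ^ n, δ, by rw [hxj]; linear_combination hδ2⟩
  have hc2 : IsCoprime (j : ℤ) (2 ^ (n - 1) * j + δ) := ⟨-δ * 2 ^ (n - 1), δ, by linear_combination hδ2⟩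
  have hjw : j ∣ w := by
    have h3 : (j : ℤ) ^ 2 ∣ (w : ℤ) ^ 2 :=
      ((hc1.mul_right hc2).pow_left).dvd_of_dvd_mul_right (hE ▸ dvd_mul_left _ _)
    exact Int.natCast_dvd_natCast.1 ((Int.pow_dvd_pow_iff two_ne_zero).1 h3)
  obtain ⟨m, rfl⟩ := hjw
  refine ⟨j, m, hj, hxj, mul_comm m j, ?_⟩
  refine mul_right_cancel₀ (show (j : ℤ) ^ 2 ≠ 0 from pow_ne_zero _ (by omega)) ?_
  rw [hE]; push_cast; ring

variable {G : Type u} [Group G] [Fintype G] [Fact (Nat.Prime 2)]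

namespace Ctx

variable (C : Ctx G)
include C

open scoped Classical in
/-- **The order formula.** -/
theorem order_formula (hD : Nat.card C.D1 = Nat.card C.D2) :
    ∃ (j m x : ℕ) (δ : ℤ), (δ = 1 ∨ δ = -1) ∧ 1 ≤ j ∧ 1 ≤ m ∧ (x : ℤ) = 2 ^ C.n * j + δ ∧
      m * j = C.D1.relIndex C.U ∧
      (C.H.index : ℤ) = (m : ℤ) ^ 2 * x * (2 ^ (C.n - 1) * j + δ) := by
  haveI := C.simple
  letI := CfsgLib.Block.Chr.irrFintype (G := G)
  obtain ⟨M, hM⟩ := exists_isPModular Nat.prime_two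
  haveI : M.IsPrime := hM.2.1.isPrime
  have hn := C.data.hn
  obtain ⟨ζ, hζ⟩ : ∃ ζ : ℂ, IsPrimitiveRoot ζ (2 ^ (C.n - 1)) :=
    ⟨_, Complex.isPrimitiveRoot_exp _ (by positivity)⟩
  obtain ⟨a₁, a₂, a₃, χ', δ₁, δ₂, δ₃, ⟨e1, -, -⟩, -, -, -, -, -, -, hd'0, K, hK, hE1, -⟩ :=
    pair_equations C.data hM C.conj hζ
  set x := charDegree (a₁ : G → ℂ) with hxdef
  have hx1 : (a₁ : G → ℂ) 1 = (x : ℂ) := (irr_one a₁).1
  have hxne : (x : ℂ) ≠ 0 := hx1 ▸ irr_one_ne_zero _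
  rw [hx1] at hE1 hd'0
  -- the reflections
  set w := C.D1.relIndex C.U with hwdef
  have hUw : Nat.card C.U = Nat.card C.D1 * w := by
    have := Subgroup.relIndex_mul_relIndex ⊥ C.D1 C.U bot_le inf_le_left
    rw [Subgroup.relIndex_bot_left, Subgroup.relIndex_bot_left] at this
    exact this.symm
  have hw0 : w ≠ 0 := fun h => by
    rw [h, mul_zero] at hUw
    exact (Nat.card_pos (α := C.U)).ne' hUw
  have hclass : ∀ e : ℤ, (e = 0 ∨ e = 1) → (reflClass C.data e).card = 2 ^ (C.n - 2) * w := by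
    intro e he
    have h := card_reflClass_mul C.data e he
    have hDe : Nat.card ↥(oddU C.data ⊓ Subgroup.centralizer ({C.s ^ e * C.t} : Set G)) = Nat.card C.D1 := by
      rcases he with rfl | rfl
      · rw [zpow_zero, one_mul]; exact congrArg (fun S : Subgroup G => Nat.card S) C.fixT_eq
      · rw [zpow_one, hD]; exact congrArg (fun S : Subgroup G => Nat.card S) C.fixST_eq
    rw [hDe, C.oddU_eq, hUw] at h
    refine Nat.eq_of_mul_eq_mul_right (show 0 < 4 * Nat.card C.D1 from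
      Nat.mul_pos (by norm_num) Nat.card_pos) ?_
    rw [h, show C.n = C.n - 2 + 2 by omega, pow_add, show C.n - 2 + 2 - 2 = C.n - 2 by omega]
    ring
  have hrefl : C.data.refl.card = 2 * (2 ^ (C.n - 2) * w) := by
    rw [refl_eq_union C.data, Finset.card_union_of_disjoint (disjoint_reflClass C.data),
      hclass 0 (Or.inl rfl), hclass 1 (Or.inr rfl)]
    ring
  have hKH : K = (C.H.index : ℂ) := by
    refine mul_right_cancel₀ (show (Nat.card C.H : ℂ) ≠ 0 from Nat.cast_ne_zero.2 Nat.card_pos.ne') ?_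
    rw [show (K * Nat.card C.H : ℂ) = Nat.card G from hK, ← Nat.cast_mul, Subgroup.index_mul_card]
  rw [hrefl, hKH] at hE1
  push_cast at hE1
  have hQ : (1 + (δ₁ : ℂ) / x - 4 * ((δ₁ : ℂ) / ((x : ℂ) + δ₁))) * ((x : ℂ) * ((x : ℂ) + δ₁)) =
      ((x : ℂ) - δ₁) ^ 2 := by
    have hδsq : (δ₁ : ℂ) ^ 2 = 1 := by rcases e1 with rfl | rfl <;> norm_num
    field_simp
    ring
  have hN : (2 : ℂ) ^ (2 * C.n - 1) = 8 * (2 : ℂ) ^ (2 * (C.n - 2)) := by
    rw [show 2 * C.n - 1 = 3 + 2 * (C.n - 2) by omega, pow_add]; norm_num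
  have hord : (C.H.index : ℤ) * ((x : ℤ) - δ₁) ^ 2 =
      2 ^ (2 * C.n - 1) * (w : ℤ) ^ 2 * (x * (x + δ₁)) := by
    have : (((C.H.index : ℤ) * ((x : ℤ) - δ₁) ^ 2 : ℤ) : ℂ) =
        ((2 ^ (2 * C.n - 1) * (w : ℤ) ^ 2 * (x * (x + δ₁)) : ℤ) : ℂ) := by
      push_cast
      rw [hN, pow_mul']
      linear_combination (-((x : ℂ) * ((x : ℂ) + δ₁))) * hE1 - (C.H.index : ℂ) * hQ
    exact_mod_cast this
  have hxpos : 1 ≤ x := Nat.pos_of_ne_zero fun h => hxne (by rw [h]; simp)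
  have hX : (x : ℤ) - δ₁ ≠ 0 := fun h => by
    rw [h] at hord
    have h0 : (x : ℤ) + δ₁ ≠ 0 := fun h' => hd'0 (by exact_mod_cast h')
    have h4 : (2 : ℤ) ^ (2 * C.n - 1) * (w : ℤ) ^ 2 * (x * (x + δ₁)) ≠ 0 :=
      mul_ne_zero (mul_ne_zero (by positivity) (pow_ne_zero _ (by exact_mod_cast hw0)))
        (mul_ne_zero (by omega) h0)
    simp [← hord] at h4
  have hodd : Odd C.H.index :=
    (Nat.odd_iff.2 (Nat.two_dvd_ne_zero.1 C.P.not_dvd_index)).of_dvd_nat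
      (Subgroup.index_dvd_of_le C.P_le_H)
  obtain ⟨j, m, hj, hxj, hmj, hG⟩ := order_arith hn hodd e1 hX hxpos hord
  refine ⟨j, m, x, δ₁, e1, hj, ?_, hxj, hmj, hG⟩
  exact Nat.pos_of_ne_zero fun h => hw0 (by rw [← hmj, h, zero_mul])

end Ctx

end CfsgLib.GW.Eight
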