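import Cfsg.Agent.GW.Eight.Count
import Cfsg.Agent.GW.Eight.FourCount
import Cfsg.Agent.GW.Eight.Order
import Cfsg.Agent.GW.Eight.EightArith

/-!
# Gorenstein–Walter, `|S| ≥ 8`: a line fixed by `s`

If `s` fixes `d` and the torus of `d`, the two classes have the same fixed points on `C_U(d)`, so
`|D1| = |D2|`, and the order formula contradicts the divisibility given by `C(d)`.
-/

set_option autoImplicit false
set_option linter.style.haveILetI false
set_option linter.unusedSectionVars false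

namespace CfsgLib.GW.Eight

open Subgroup
open CfsgLib.GW.CaseI (invGen mem_invGen invGen_le exists_split conj_invol_eq conj_eq_of_commute
  invol_mul invol_inv)
open CfsgLib.DGroup (coreIn Op conj_mem conj_mem' odd_orderOf eq_one_of_inv_eq)

universe u

variable {G : Type u} [Group G] [Fintype G] [Fact (Nat.Prime 2)]

namespace Ctx

variable (C : Ctx G)

/-- A `U`-conjugate of `d ∈ D1` fixed by `t` is a `D1`-conjugate. -/
theorem fixed_conj {d u : G} (hd : d ∈ C.D1) (hu : u ∈ C.U) (h : Commute (u * d * u⁻¹) C.t) :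
    ∃ e ∈ C.D1, e * d * e⁻¹ = u * d * u⁻¹ := by
  obtain ⟨e, he, i, hi, het, hit, rfl⟩ := exists_split C.inv_t.1 C.odd_U C.t_norm_U hu
  have hd' := (C.mem_D1.1 hd).2
  have h1 : C.t * (e * i * d * (e * i)⁻¹) * C.t = e * i * d * (e * i)⁻¹ :=
    conj_eq_of_commute C.inv_t.1 h
  rw [invol_mul C.inv_t.1, invol_mul C.inv_t.1, invol_mul C.inv_t.1, invol_inv C.inv_t.1,
    invol_mul C.inv_t.1, conj_eq_of_commute C.inv_t.1 het, conj_eq_of_commute C.inv_t.1 hd', hit,
    show e * i⁻¹ * d * (e * i⁻¹)⁻¹ = e * (i⁻¹ * d * i) * e⁻¹ by group,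
    show e * i * d * (e * i)⁻¹ = e * (i * d * i⁻¹) * e⁻¹ by group] at h1
  have h2 : i⁻¹ * d * i = i * d * i⁻¹ := mul_left_cancel (mul_right_cancel h1)
  have h3 : i * i ∈ centralizer ({d} : Set G) := mem_centralizer_singleton_iff.2 (by
    calc i * i * d = i * (i * d * i⁻¹) * i := by group
      _ = i * (i⁻¹ * d * i) * i := by rw [h2]
      _ = d * (i * i) := by group)
  have h4 : Commute i d :=
    mem_centralizer_singleton_iff.1 (mem_of_sq_mem (odd_orderOf C.odd_U hi) h3)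
  refine ⟨e, C.mem_D1.2 ⟨he, het⟩, ?_⟩
  rw [show e * i * d * (e * i)⁻¹ = e * (i * d * i⁻¹) * e⁻¹ by group, h4.eq, mul_inv_cancel_right]

variable {C}

/-- The primes of `u₁` are good when `s` centralises the torus. -/
theorem Env.good_of_dvd {p : ℕ} [Fact p.Prime] (E : C.Env p) {d : G} (hdO : d ∈ Op p C.H)
    (T : Torus C d) (hsg : Commute C.s T.g) {q : ℕ} [Fact q.Prime] (hq : q ∣ T.u₁) : C.Good q := by
  refine ⟨Fact.out, fun h => ?_, fun hbot => ?_, C.noCentral_of_dvd ?_ ?_⟩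
  · exact Nat.not_even_iff_odd.2 (T.odd_u.of_dvd_nat hq) (even_iff_two_dvd.2 (h ▸ dvd_rfl))
  rotate_left
  · exact hq.trans (T.g_order ▸ Subgroup.orderOf_dvd_natCard _ (mem_invGen T.g_mem T.g_inv))
  · exact hq.trans (T.g_order ▸ Subgroup.orderOf_dvd_natCard _
      (mem_invGen T.g_mem (C.inverted_st_of_commute T.g_inv hsg)))
  set x := T.g ^ (T.u₁ / q) with hx
  have hxU : x ∈ C.U := pow_mem T.g_mem _
  have hxd : Commute x d := T.g_comm.pow_left _
  have hxb : C.t * x * C.t = x⁻¹ := by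
    rw [← conj_invol_eq C.inv_t.1, ← conj_pow, conj_invol_eq C.inv_t.1, T.g_inv, inv_pow]
  have hxo : orderOf x = q := by
    have h := orderOf_pow_orderOf_div (orderOf_pos T.g).ne' (T.g_order.symm ▸ hq)
    rwa [T.g_order] at h
  have hx1 : x ≠ 1 := fun h => (Fact.out : q.Prime).one_lt.ne (by rw [← hxo, h, orderOf_one])
  have hxq : ∃ k, x ^ q ^ k = 1 := ⟨1, by rw [pow_one, ← hxo, pow_orderOf_eq_one]⟩
  set K := centralizer ({d} : Set G) with hK
  have hxK : x ∈ K := mem_centralizer_singleton_iff.2 hxd.eq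
  have hcent : ∀ r : ℕ, r.Prime → r ≠ q → ∀ z ∈ Op r C.H, z ∈ K → Commute x z := by
    intro r hr hrq z hz hzK
    haveI : Fact r.Prime := ⟨hr⟩
    refine T.centralises hr hxU hxd hxb (Q := Op r C.H ⊓ K)
      ((CfsgLib.DGroup.isPGroup_Op r C.H).to_le inf_le_left) (inf_le_inf_right K (C.Op_le_U r))
      (mem_normalizer_iff.2 fun v => by
        rw [mem_inf, mem_inf,
          mem_normalizer_iff.1 (CfsgLib.DGroup.le_normalizer_Op r C.H (C.U_le_H hxU)) v,
          mem_normalizer_iff.1 (le_normalizer hxK) v])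
      (hxo ▸ (Nat.coprime_primes Fact.out hr).2 (Ne.symm hrq)) z ⟨hz, hzK⟩
  have hall : ∀ r : ℕ, r.Prime → ∀ z ∈ Op r C.H, Commute z x := by
    intro r hr z hz
    haveI : Fact r.Prime := ⟨hr⟩
    by_cases hrq : r = q
    · subst hrq
      rw [hbot, mem_bot] at hz
      rw [hz]; exact Commute.one_left x
    by_cases hrp : r = p
    · subst hrp
      have hdp : IsPGroup r (zpowers d) :=
        (CfsgLib.DGroup.isPGroup_Op r C.H).to_le (zpowers_le.2 hdO)
      have hcop : (Nat.card (zpowers x)).Coprime r := by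
        rw [Nat.card_zpowers, hxo]; exact (Nat.coprime_primes Fact.out hr).2 (Ne.symm hrq)
      have h := CfsgLib.CoprimeAct.p_times_q_aux _ r (zpowers d) (zpowers x) (Op r C.H) rfl hdp hcop
        (CfsgLib.DGroup.isPGroup_Op r C.H)
        (zpowers_le.2 (mem_centralizer_iff.2 fun v hv => by
          obtain ⟨k, rfl⟩ := mem_zpowers_iff.1 hv
          exact (hxd.zpow_left k).eq))
        (zpowers_le.2 (le_normalizer hdO))
        (zpowers_le.2 (CfsgLib.DGroup.le_normalizer_Op r C.H (C.U_le_H hxU))) (fun v hv => by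
          have hvd : v * d = d * v := (mem_centralizer_iff.1 hv.2 d (mem_zpowers d)).symm
          have hxv := hcent r hr hrq v hv.1 (mem_centralizer_singleton_iff.2 hvd)
          refine mem_centralizer_iff.2 fun w hw => ?_
          obtain ⟨k, rfl⟩ := mem_zpowers_iff.1 hw
          exact (hxv.zpow_left k).eq)
      rw [commutator_eq_bot_iff_le_centralizer] at h
      exact (mem_centralizer_iff.1 (h hz) x (mem_zpowers x)).symm
    · exact (hcent r hr hrq z hz
        (mem_centralizer_singleton_iff.2 (CfsgLib.DGroup.Op_commute hrp hz hdO).eq)).symm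
  have := CfsgLib.DGroup.mem_Op_of_commute (M := C.H) (p := q) hxU hxq hall
  rw [hbot, mem_bot] at this
  exact hx1 this

/-- **No line fixed by `s`.** -/
theorem false_of_st_fixes {p : ℕ} [Fact p.Prime] (E : C.Env p) {d : G} (hdD : d ∈ C.D1)
    (hdO : d ∈ Op p C.H) (hd1 : d ≠ 1) (T : Torus C d) (hs : Commute C.s d)
    (hsg : Commute C.s T.g) (hpu : p ∣ T.u₁)
    (hconj : ∀ u ∈ C.U, (Commute (u * d * u⁻¹) C.t ↔ Commute (u * d * u⁻¹) (C.s * C.t)))
    (hfix : ∀ e ∈ C.D1, e ∈ C.U1 → Commute e d)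
    (hsh : CaseI.Shape p T.u₁ ((C.U1 ⊓ centralizer ({d} : Set G)).relIndex C.U1)
      ((C.D1 ⊓ normalizer (zpowers d : Set G)).relIndex C.D1)) : False := by
  have hp : p.Prime := Fact.out
  have hp2 : p ≠ 2 := E.good.2.1
  have hu0 : 0 < T.u₁ := T.odd_u.pos
  have hu1 : 1 < T.u₁ := hp.one_lt.trans_le (Nat.le_of_dvd hu0 hpu)
  set K := centralizer ({d} : Set G) with hK
  -- the torus of the second class
  have hdt : Commute d (C.s * C.t) := hs.symm.mul_right (C.mem_D1.1 hdD).2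
  have hdD2 : d ∈ C.flip.D1 := C.flip.mem_D1.2 ⟨C.D1_le_U hdD, hdt⟩
  have hzd : C.s * d * C.s⁻¹ = d := by rw [hs.eq, mul_inv_cancel_right]
  obtain ⟨T2⟩ := E.flip.torus hdD2 hdO hd1 (C.flip.Eig_of_conj_eq (Or.inl hzd))
  have hgst := C.inverted_st_of_commute T.g_inv hsg
  obtain ⟨k, hk⟩ := mem_zpowers_iff.1 (T2.gen T.g T.g_mem T.g_comm hgst)
  have hs2 : Commute C.s T2.g := by
    rcases T2.rot C.s (mem_zpowers _) (by rw [hzd]; exact mem_zpowers d) (hs.mul_left hs) with h | ⟨-, -, h⟩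
    · exact h
    · exfalso
      have h1 : C.s * T.g * C.s⁻¹ = T.g⁻¹ := by rw [← hk, ← conj_zpow, h, inv_zpow]
      rw [hsg.eq, mul_inv_cancel_right] at h1
      have h2 := eq_one_of_inv_eq h1.symm (odd_orderOf C.odd_U T.g_mem)
      have h3 := T.g_order
      rw [h2, orderOf_one] at h3
      omega
  have hg2t := ((C.inverted_flip_iff T2.g).2
    ⟨T2.g_inv, C.flip.inverted_st_of_commute T2.g_inv hs2⟩).1
  have heq : zpowers T.g = zpowers T2.g :=
    le_antisymm (zpowers_le.2 (T2.gen T.g T.g_mem T.g_comm hgst))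
      (zpowers_le.2 (T.gen T2.g T2.g_mem T2.g_comm hg2t))
  have hu12 : T.u₁ = T2.u₁ := by
    rw [← T.g_order, ← T2.g_order, ← Nat.card_zpowers, ← Nat.card_zpowers, heq]
  have hK12 : Nat.card ↥(C.D1 ⊓ K) = Nat.card ↥(C.flip.D1 ⊓ K) := by
    refine Nat.eq_of_mul_eq_mul_left hu0 ?_
    rw [← T.card_inf]
    exact T2.card_inf.trans (by rw [hu12])
  -- the two orbits coincide
  have horb : (fun x : G => ∃ k ∈ C.D1, k * d * k⁻¹ = x) = fun x : G => ∃ k ∈ C.flip.D1, k * d * k⁻¹ = x := by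
    funext x
    apply propext
    constructor
    · rintro ⟨a, ha, rfl⟩
      have h := ((Commute.conj_iff a).2 (C.mem_D1.1 hdD).2)
      rw [(C.mem_D1.1 ha).2.eq, mul_inv_cancel_right] at h
      exact C.flip.fixed_conj hdD2 (C.D1_le_U ha) ((hconj _ (C.D1_le_U ha)).1 h)
    · rintro ⟨a, ha, rfl⟩
      have ha' := C.flip.mem_D1.1 ha
      have h : Commute (a * d * a⁻¹) (C.s * C.t) := by
        have h := (Commute.conj_iff a).2 hdt
        rwa [show a * (C.s * C.t) = C.s * C.t * a from ha'.2.eq, mul_inv_cancel_right] at h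
      exact C.fixed_conj hdD ha'.1 ((hconj _ ha'.1).2 h)
  have hD12 : Nat.card C.D1 = Nat.card C.D2 := by
    rw [← card_conjugates_mul C.D1 d, ← hK, hK12,
      show {x : G // ∃ k ∈ C.D1, k * d * k⁻¹ = x} = {x : G // ∃ k ∈ C.flip.D1, k * d * k⁻¹ = x} from
        congrArg (fun q : G → Prop => Subtype q) horb]
    exact card_conjugates_mul C.flip.D1 d
  obtain ⟨j, m, x, δ, hδ, hj, hm, hx, hmj, hindex⟩ := C.order_formula hD12
  -- `|U : D1| = i u₁`
  set i := (C.U1 ⊓ K).relIndex C.U1 with hi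
  have hui : C.D1.relIndex C.U = i * T.u₁ := T.relIndex_eq hdD hfix
  rw [hui] at hmj
  -- the primes of `u₁`
  have hqm : ∀ q : ℕ, q.Prime → q ∣ T.u₁ → ¬ q ∣ m := by
    intro q hq hqu hqm
    haveI : Fact q.Prime := ⟨hq⟩
    have h := C.index_modEq_one E.hmax (E.good_of_dvd hdO T hsg hqu)
    have hdvd : (q : ℤ) ∣ (C.H.index : ℤ) := by
      rw [hindex]
      exact dvd_mul_of_dvd_left (dvd_mul_of_dvd_left ((Int.natCast_dvd_natCast.2 hqm).trans
        (dvd_pow_self _ two_ne_zero)) _) _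
    have h' : C.H.index % q = 0 := Nat.mod_eq_zero_of_dvd (Int.natCast_dvd_natCast.1 hdvd)
    rw [Nat.ModEq, h', Nat.mod_eq_of_lt hq.one_lt] at h
    exact zero_ne_one h
  have hpm : ¬ p ∣ m := hqm p hp hpu
  have hcop : m.Coprime T.u₁ := Nat.coprime_of_dvd fun q hq h1 h2 => hqm q hq h2 h1
  have hn := C.data.hn
  have hc : (2 : ℤ) ^ C.n = 2 * 2 ^ (C.n - 1) := by rw [← pow_succ', show C.n - 1 + 1 = C.n by omega]
  have hmod : (p : ℤ) ∣ (m : ℤ) ^ 2 - 1 := by
    have hg := C.index_modEq_one E.hmax (E.good_of_dvd hdO T hsg hpu)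
    have hpj : p ∣ j := by
      have : p ∣ m * j := hmj ▸ hpu.mul_left i
      exact (hp.dvd_mul.1 this).resolve_left hpm
    have h1 : (p : ℤ) ∣ (C.H.index : ℤ) - 1 := by
      have h0 := (Int.natCast_modEq_iff.2 hg).symm
      rw [Int.modEq_iff_dvd] at h0
      simpa using h0
    rw [hindex, hx] at h1
    obtain ⟨r, hr⟩ := hpj
    have h2 : δ * δ = 1 := by rcases hδ with rfl | rfl <;> rfl
    have h3 := dvd_sub h1 (dvd_mul_right (p : ℤ)
      ((m : ℤ) ^ 2 * (r : ℤ) * (2 ^ C.n * 2 ^ (C.n - 1) * (j : ℤ) + (2 ^ C.n + 2 ^ (C.n - 1)) * δ)))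
    refine h3.trans (dvd_of_eq ?_)
    have he : (j : ℤ) = (p : ℤ) * r := by exact_mod_cast hr
    linear_combination (m : ℤ) ^ 2 * h2 +
      ((m : ℤ) ^ 2 * (2 ^ C.n * 2 ^ (C.n - 1) * (j : ℤ) + (2 ^ C.n + 2 ^ (C.n - 1)) * δ)) * he
  -- the divisibility from `C(d)`
  obtain ⟨q₁, ε, hq, hε, hq₁, hdvdK⟩ := T.fixed hs hsg hu1
  set ND := C.D1 ⊓ normalizer (zpowers d : Set G) with hND
  set l := ND.relIndex C.D1 with hl
  have hNK : ND ≤ normalizer (K : Set G) := fun w hw => by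
    have h1 : w ∈ normalizer (centralizer (zpowers d : Set G) : Set G) :=
      CfsgLib.DGroup.mem_normalizer_centralizer hw.2
    rwa [zpowers_eq_closure, centralizer_closure] at h1
  have hinf : ND ⊓ K = C.D1 ⊓ K := le_antisymm (inf_le_inf_right _ inf_le_left) fun w hw =>
    ⟨⟨hw.1, centralizer_le_normalizer _ (by
      rw [zpowers_eq_closure, centralizer_closure]; exact hw.2)⟩, hw.2⟩
  have hD : Nat.card C.D1 = Nat.card ND * l := by
    have := relIndex_mul_relIndex ⊥ ND C.D1 bot_le inf_le_left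
    rw [relIndex_bot_left, relIndex_bot_left] at this
    exact this.symm
  have hU : Nat.card C.U = Nat.card C.D1 * (i * T.u₁) := by
    have := relIndex_mul_relIndex ⊥ C.D1 C.U bot_le C.D1_le_U
    rw [relIndex_bot_left, relIndex_bot_left, hui] at this
    exact this.symm
  have hdiv₀ : q₁ ∣ 2 ^ C.n * T.u₁ * (C.H.index * i * l) := by
    refine Nat.dvd_of_mul_dvd_mul_left (k := Nat.card ND * Nat.card ↥(C.D1 ⊓ K))
      (Nat.mul_pos Nat.card_pos Nat.card_pos) ?_
    have h := CfsgLib.Solvable.card_sup_mul_card_inf hNK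
    rw [hinf] at h
    rw [mul_assoc]
    refine (Nat.mul_dvd_mul_left (Nat.card ND) hdvdK).trans ?_
    rw [← h, mul_comm (Nat.card ↥(ND ⊔ K))]
    refine (Nat.mul_dvd_mul_left _ (card_subgroup_dvd_card (ND ⊔ K))).trans (dvd_of_eq ?_)
    rw [← card_mul_index C.H, C.card_H, hU, hD]
    ring
  have hco : IsCoprime (q₁ : ℤ) (2 ^ C.n * (T.u₁ : ℤ)) := by
    refine ⟨ε, -ε, ?_⟩
    have hεε : ε * ε = 1 := by rcases hε with h' | h' <;> rw [h'] <;> rfl
    linear_combination ε * hq₁ + hεε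
  have hdiv : (q₁ : ℤ) ∣ (m : ℤ) ^ 2 * (2 * ((2 ^ (C.n - 1) : ℕ) : ℤ) * j + δ) *
      (((2 ^ (C.n - 1) : ℕ) : ℤ) * j + δ) * i * l := by
    have h := Int.natCast_dvd_natCast.2 hdiv₀
    push_cast at h
    have h' := hco.dvd_of_dvd_mul_left h
    rw [hindex, hx, hc] at h'
    push_cast
    exact h'
  exact arith_contra (c := 2 ^ (C.n - 1)) (i := i) (l := l)
    (by calc 2 = 2 ^ 1 := rfl
          _ ≤ _ := Nat.pow_le_pow_right two_pos (by omega))
    hp hp2 hδ hε hu0 hpu hq (by push_cast; rw [hq₁, hc]) hcop hpm hmod hmj hsh hdiv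

end Ctx

end CfsgLib.GW.Eight
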