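import Cfsg.Agent.GW.Eight.Count

/-!
# Gorenstein–Walter, `|S| ≥ 8`: a fixed element inverted by `s` in `O_p(U0)`

If `s t` inverts `d` and `[U, s t]` centralises it, `|U : D2| = u₁ f` with `f` a multiple of `p` less than
`4 |U1 : C(d)|`, while the outer torus has an element of order prime to `u₁`, at least `2 u₁ - 1`,
inverted by `s t`.
-/

set_option autoImplicit false
set_option linter.style.haveILetI false
set_option linter.unusedSectionVars false

namespace CfsgLib.GW.Eight.Ctx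

open Subgroup CfsgLib.DihPrincipal CfsgLib.GW
open CfsgLib.GW.CaseI (invGen mem_invGen invGen_le exists_split conj_eq_of_commute invol_mul
  exists_pow_of_isPGroup le_normalizer_invGen)
open CfsgLib.DGroup (Op conj_mem odd_orderOf eq_one_of_inv_eq)

universe u

variable {G : Type u} [Group G] [Fintype G] [Fact (Nat.Prime 2)] {C : Ctx G}

/-- An element of `D2` commuting with `d` is fixed by `t`, when `s` centralises the inverted part. -/
theorem mem_D1_of_commute {d : G} (T : Torus C d) (hsg : Commute C.s T.g) {x : G} (hx : x ∈ C.D2)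
    (hxd : Commute x d) : x ∈ C.D1 := by
  obtain ⟨hxU, hxst⟩ := C.mem_D2.1 hx
  obtain ⟨e, he, hed, k, rfl⟩ := T.exists_mul x hxU hxd
  set y := T.g ^ k with hy
  have hsy : Commute C.s y := hsg.zpow_right k
  have hyt : C.t * y * C.t = y⁻¹ := inverted_zpow C.inv_t.1 T.g_inv k
  have h1 := C.conj_s_conj_t (e * y)
  rw [conj_eq_of_commute C.inv_st.1 hxst, invol_mul C.inv_t.1,
    conj_eq_of_commute C.inv_t.1 (C.mem_D1.1 he).2, hyt] at h1
  have h2 : C.s * e * C.s⁻¹ = e * y * y := by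
    calc C.s * e * C.s⁻¹ = C.s * (e * y⁻¹) * C.s⁻¹ * (C.s * y * C.s⁻¹) := by group
      _ = e * y * y := by rw [h1, hsy.eq, mul_inv_cancel_right]
  have hm : ∀ m : ℕ, C.s ^ m * e * (C.s ^ m)⁻¹ = e * (y * y) ^ m := by
    intro m
    induction m with
    | zero => simp
    | succ m ih =>
      calc C.s ^ (m + 1) * e * (C.s ^ (m + 1))⁻¹
          = C.s * (C.s ^ m * e * (C.s ^ m)⁻¹) * C.s⁻¹ := by rw [pow_succ']; group
        _ = C.s * e * C.s⁻¹ * (C.s * (y * y) ^ m * C.s⁻¹) := by rw [ih]; group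
        _ = e * (y * y) ^ (m + 1) := by
            rw [((hsy.mul_right hsy).pow_right m).eq, mul_inv_cancel_right, h2, pow_succ']
            simp only [mul_assoc]
  have h3 := hm (orderOf C.s)
  rw [pow_orderOf_eq_one, one_mul, inv_one, mul_one] at h3
  have hyy : orderOf (y * y) ∣ orderOf C.s := orderOf_dvd_of_pow_eq_one (mul_eq_left.1 h3.symm)
  have hyU : y ∈ C.U := zpow_mem T.g_mem k
  have hy1 : y * y = 1 := orderOf_eq_one_iff.1 (Nat.eq_one_of_dvd_coprimes
    ((Nat.coprime_two_left.2 (odd_orderOf C.odd_U (mul_mem hyU hyU))).pow_left (C.n - 1))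
    (C.data.ordσ ▸ hyy) dvd_rfl)
  rw [CfsgLib.DGroup.eq_one_of_sq hy1 (odd_orderOf C.odd_U hyU), mul_one]
  exact he

/-- No fixed element of `O_p(H) ∩ U0` is inverted by `s` and centralised by `[U, s t]`. -/
theorem false_of_st_inverts {p : ℕ} [Fact p.Prime] (E : C.Env p) {d : G} (hdD : d ∈ C.D1)
    (hdO : d ∈ Op p C.H) (hd1 : d ≠ 1) (T : Torus C d) (hs : C.s * d * C.s⁻¹ = d⁻¹)
    (hsg : Commute C.s T.g) (hpu : p ∣ T.u₁)
    (hcen : ∀ x ∈ C.U, C.s * C.t * x * (C.s * C.t) = x⁻¹ → Commute x d)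
    (hfix : ∀ e ∈ C.D1, e ∈ C.U1 → Commute e d)
    (hi : (C.U1 ⊓ centralizer ({d} : Set G)).relIndex C.U1 ≤ p) : False := by
  haveI := C.simple
  have hp3 : 3 ≤ p := lt_of_le_of_ne (Fact.out : p.Prime).two_le (Ne.symm E.good.2.1)
  have hu1 : 1 < T.u₁ := lt_of_lt_of_le (by omega) (Nat.le_of_dvd T.odd_u.pos hpu)
  have hdU := C.D1_le_U hdD
  have hs2 : Commute (C.s * C.s) d := mul_inv_eq_iff_eq_mul.1 (by
    rw [show C.s * C.s * d * (C.s * C.s)⁻¹ = C.s * (C.s * d * C.s⁻¹) * C.s⁻¹ by group, hs,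
      ← conj_inv, hs, inv_inv])
  obtain ⟨M, hM, hMu, hMc, x, hxU, hxo, hxi⟩ := T.outer C.s (mem_zpowers _) hs hs2 hu1
  -- `|U : D2| = u₁ f`
  set Cd := centralizer ({d} : Set G) with hCd
  set A := C.D1 ⊓ Cd with hA
  set F := A ⊓ C.D2 with hF
  have hU2 : C.U2 ≤ C.U ⊓ Cd := le_inf (invGen_le _ _)
    ((closure_le _).2 fun y hy => mem_centralizer_singleton_iff.2 (hcen y hy.1 hy.2).eq)
  have hn : C.D2 ≤ normalizer (C.U2 : Set G) :=
    C.D2_le_U.trans (le_normalizer_invGen C.inv_st.1 C.odd_U C.st_norm_U)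
  have hsup1 : C.D2 ⊔ C.U2 = C.U := le_antisymm (sup_le C.D2_le_U (invGen_le _ _)) fun y hy => by
    obtain ⟨c, hc, i, hi, hcb, hib, rfl⟩ := exists_split C.inv_st.1 C.odd_U C.st_norm_U hy
    exact mul_mem (mem_sup_left (C.mem_D2.2 ⟨hc, hcb⟩)) (mem_sup_right (mem_invGen hi hib))
  have hsup2 : F ⊔ C.U2 = C.U ⊓ Cd := by
    refine le_antisymm (sup_le (le_inf (inf_le_left.trans (inf_le_left.trans C.D1_le_U))
      (inf_le_left.trans inf_le_right)) hU2) fun y hy => ?_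
    obtain ⟨c, hc, i, hi, hcb, hib, rfl⟩ := exists_split C.inv_st.1 C.odd_U C.st_norm_U hy.1
    have hiC : i ∈ C.U2 := mem_invGen hi hib
    have hy2 : c * i ∈ Cd := hy.2
    have hi2 : i ∈ Cd := (hU2 hiC).2
    have hcd : c ∈ Cd := by
      have := mul_mem hy2 (inv_mem hi2)
      rwa [mul_inv_cancel_right] at this
    have hcd' : Commute c d := mem_centralizer_singleton_iff.1 hcd
    exact mul_mem (mem_sup_left ⟨⟨mem_D1_of_commute T hsg (C.mem_D2.2 ⟨hc, hcb⟩) hcd', hcd⟩,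
      C.mem_D2.2 ⟨hc, hcb⟩⟩) (mem_sup_right hiC)
  have hFD : F ⊓ C.U2 = C.D2 ⊓ C.U2 := by
    refine le_antisymm (inf_le_inf_right _ inf_le_right) fun y hy => ⟨⟨⟨?_, (hU2 hy.2).2⟩, hy.1⟩, hy.2⟩
    exact mem_D1_of_commute T hsg hy.1 (mem_centralizer_singleton_iff.1 (hU2 hy.2).2)
  have h1 := CfsgLib.Solvable.card_sup_mul_card_inf hn
  have h2 := CfsgLib.Solvable.card_sup_mul_card_inf
    (show F ≤ normalizer (C.U2 : Set G) from inf_le_right.trans hn)
  rw [hsup1, ← card_mul_relIndex C.D2_le_U] at h1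
  rw [hsup2, hFD, T.card_inf] at h2
  have h3 := card_mul_relIndex (inf_le_left : F ≤ A)
  rw [← hA, ← h3] at h2
  set b := C.D2.relIndex C.U with hb
  set f := F.relIndex A with hf
  have hbf : b = T.u₁ * f := by
    have hc : 0 < Nat.card C.D2 * Nat.card F * Nat.card ↥(C.D2 ⊓ C.U2) :=
      Nat.mul_pos (Nat.mul_pos Nat.card_pos Nat.card_pos) Nat.card_pos
    refine Nat.eq_of_mul_eq_mul_left hc ?_
    calc Nat.card C.D2 * Nat.card F * Nat.card ↥(C.D2 ⊓ C.U2) * b
        = Nat.card F * (Nat.card C.D2 * b * Nat.card ↥(C.D2 ⊓ C.U2)) := by ring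
      _ = Nat.card C.D2 * (Nat.card F * Nat.card C.U2) := by rw [h1]; ring
      _ = _ := by rw [← h2]; ring
  -- `p` divides `f`
  have hpf : p ∣ f := by
    obtain ⟨j, hj⟩ := exists_pow_of_isPGroup (CfsgLib.DGroup.isPGroup_Op p C.H) hdO
    have hpd : p ∣ orderOf d := by
      obtain ⟨j', -, hj'⟩ := (Nat.dvd_prime_pow (Fact.out : p.Prime)).1 (orderOf_dvd_of_pow_eq_one hj)
      rcases j' with _ | j'
      · exact absurd (orderOf_eq_one_iff.1 hj') hd1
      · exact hj' ▸ dvd_pow_self p (Nat.succ_ne_zero j')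
    have hdA : zpowers d ≤ A := zpowers_le.2 ⟨hdD, mem_centralizer_singleton_iff.2 rfl⟩
    have hdis : zpowers d ⊓ F = ⊥ := (eq_bot_iff_forall _).2 fun y hy => by
      obtain ⟨i, rfl⟩ := mem_zpowers_iff.1 hy.1
      have hyi : C.s * d ^ i * C.s⁻¹ = (d ^ i)⁻¹ := by rw [← conj_zpow, hs, inv_zpow]
      have hc2 : Commute (d ^ i) C.s := by
        have := (C.mem_D2.1 hy.2.2).2.mul_right (C.mem_D1.1 hy.2.1.1).2
        rwa [C.st_mul_t] at this
      rw [hc2.symm.eq, mul_inv_cancel_right] at hyi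
      exact eq_one_of_inv_eq hyi.symm (odd_orderOf C.odd_U (zpow_mem hdU i))
    have hn' : F ≤ normalizer (zpowers d : Set G) := fun y hy =>
      centralizer_le_normalizer _ (by
        rw [zpowers_eq_closure, centralizer_closure]; exact hy.1.2)
    have h4 := CfsgLib.Solvable.card_sup_mul_card_inf hn'
    rw [inf_comm, hdis, card_bot, mul_one, Nat.card_zpowers] at h4
    have h5 := card_dvd_of_le (sup_le inf_le_left hdA : F ⊔ zpowers d ≤ A)
    rw [h4, ← h3] at h5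
    exact hpd.trans (Nat.dvd_of_mul_dvd_mul_left Nat.card_pos h5)
  obtain ⟨f', hf'⟩ := hpf
  -- the bound and the contradiction
  have hMb : M ∣ b := hxo ▸ CfsgLib.GW.Eight.orderOf_dvd_relIndex C.inv_st.1 C.odd_U C.st_norm_U hxU hxi
  have hMf : M ∣ f' := by
    rw [hbf, hf', ← mul_assoc] at hMb
    exact (hMc.mul_right (Nat.Coprime.of_dvd_right hpu hMc)).dvd_of_dvd_mul_left hMb
  have hlt := card_fixT_lt C.data C.conj
  rw [C.fixT_eq, C.fixST_eq] at hlt
  have hU1 := card_mul_relIndex C.D1_le_U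
  have hUb := card_mul_relIndex C.D2_le_U
  rw [T.relIndex_eq hdD hfix] at hU1
  rw [← hb, hbf, hf'] at hUb
  have hf0 : 0 < f' := Nat.pos_of_ne_zero fun h => by
    rw [h, mul_zero, mul_zero, mul_zero] at hUb
    exact (Nat.card_pos (α := C.U)).ne hUb
  have hlt4 : f' < 4 := by
    by_contra hge
    rw [not_lt] at hge
    set i := (C.U1 ⊓ centralizer ({d} : Set G)).relIndex C.U1
    have h6 : Nat.card C.D1 * (i * T.u₁) ≤ Nat.card C.D1 * (p * T.u₁) :=
      Nat.mul_le_mul_left _ (Nat.mul_le_mul_right _ hi)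
    have h7 : Nat.card C.D2 * (T.u₁ * (p * 4)) ≤ Nat.card C.D2 * (T.u₁ * (p * f')) :=
      Nat.mul_le_mul_left _ (Nat.mul_le_mul_left _ (Nat.mul_le_mul_left _ hge))
    have h8 : Nat.card C.D1 * (p * T.u₁) < 4 * Nat.card C.D2 * (p * T.u₁) :=
      Nat.mul_lt_mul_of_pos_right hlt (Nat.mul_pos (by omega) (by omega))
    nlinarith
  have hMle := Nat.le_of_dvd hf0 hMf
  have := Nat.le_of_dvd T.odd_u.pos hpu
  omega

end CfsgLib.GW.Eight.Ctx
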