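import Cfsg.Agent.GW.Eight.Layer
import Cfsg.Agent.GW.CaseI.Arith
import Cfsg.Agent.GW.Eight.Inverts
import Cfsg.Agent.GW.Eight.FixedLine

/-!
# Gorenstein–Walter, `|S| ≥ 8`: a central line below the layer

The layer is `A C₀` with `A = Y ∩ D1` and `C₀` a line inverted by both classes and central in `U0`.
The element `s` is `1` or `-1` on `A`, and every element of `A` moved by `[U, t]` gives an index `p`.
-/

set_option autoImplicit false
set_option linter.style.haveILetI false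
set_option linter.unusedSectionVars false

namespace CfsgLib.GW.Eight.Ctx.Chief

open Subgroup
open CfsgLib.GW.CaseI (invGen mem_invGen exists_split conj_invol_eq conj_eq_of_commute invol_mul
  invol_inv inverted_conj inverted_inv le_normalizer_of_conj commute_of_inverted)
open CfsgLib.DGroup (coreIn Op conj_mem conj_mem' odd_orderOf eq_one_of_sq eq_one_of_inv_eq)

universe u

variable {G : Type u} [Group G] [Fintype G] [Fact (Nat.Prime 2)] {C : Ctx G} {p : ℕ} [Fact p.Prime]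
  (S : C.Chief p)
include S

theorem commute_inf_D1 {e f : G} (he : e ∈ S.Y) (heD : e ∈ C.D1) (hf : f ∈ S.Y) (hfD : f ∈ C.D1) :
    Commute e f :=
  mul_inv_eq_iff_eq_mul.1 (mul_inv_eq_one.1 (S.eq_one_of_mem_C0 (S.comm e he f hf)
    (mul_mem (mul_mem (mul_mem heD hfD) (inv_mem heD)) (inv_mem hfD))))

section

variable (hY : ∀ i ∈ S.Y, C.t * i * C.t = i⁻¹ → i ∈ S.C0)
include hY

/-- `t` is trivial on `Y` modulo `C₀`. -/
theorem conj_t_mod {y : G} (hy : y ∈ S.Y) : ∃ c ∈ S.C0, C.t * y * C.t = y * c := by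
  obtain ⟨e, -, heD, i, hi, hit, rfl⟩ := S.split hy
  have hi0 := hY i hi hit
  refine ⟨i⁻¹ * i⁻¹, mul_mem (inv_mem hi0) (inv_mem hi0), ?_⟩
  rw [invol_mul C.inv_t.1, conj_eq_of_commute C.inv_t.1 (C.mem_D1.1 heD).2, hit]
  group

/-- `s * s` centralises `Y`. -/
theorem commute_sq {y : G} (hy : y ∈ S.Y) : Commute (C.s * C.s) y := by
  have hs : C.s ∈ normalizer (S.Y : Set G) := S.norm C.s_mem_H
  have hz : ∀ c ∈ S.C0, Commute (C.s * C.s) c := fun c hc =>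
    (S.commute_s_C0 hc).mul_left (S.commute_s_C0 hc)
  have hconj : ∀ w ∈ S.Y, ∃ c ∈ S.C0, C.s * C.s * w * (C.s * C.s)⁻¹ = w * c := by
    intro w hw
    obtain ⟨c₁, hc₁, e1⟩ := S.conj_t_mod hY (conj_mem' hs hw)
    obtain ⟨c₂, hc₂, e2⟩ := S.conj_t_mod hY hw
    refine ⟨c₁ * c₂⁻¹, mul_mem hc₁ (inv_mem hc₂), ?_⟩
    have h1 : C.s * (C.t * (C.s⁻¹ * w * C.s) * C.t) * C.s⁻¹ = w * c₁ := by
      rw [e1, show C.s * (C.s⁻¹ * w * C.s * c₁) * C.s⁻¹ = w * (C.s * c₁ * C.s⁻¹) by group,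
        (S.commute_s_C0 hc₁).eq, mul_inv_cancel_right]
    have h2 : C.s * (C.t * (C.s⁻¹ * w * C.s) * C.t) * C.s⁻¹ =
        C.s * C.s * (C.t * w * C.t) * (C.s * C.s)⁻¹ := by
      have a : C.t * C.s⁻¹ = C.s * C.t := by
        rw [← C.inv_st.inv_eq, mul_inv_rev, C.inv_t.inv_eq]
      have b : C.s * C.t = C.t * C.s⁻¹ := a.symm
      calc C.s * (C.t * (C.s⁻¹ * w * C.s) * C.t) * C.s⁻¹
          = C.s * (C.t * C.s⁻¹) * w * (C.s * C.t) * C.s⁻¹ := by group
        _ = C.s * (C.s * C.t) * w * (C.t * C.s⁻¹) * C.s⁻¹ := by rw [a]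
        _ = _ := by group
    rw [h1, e2, ← conj_mul, (hz c₂ hc₂).eq, mul_inv_cancel_right] at h2
    rw [← mul_assoc, h2, mul_inv_cancel_right]
  obtain ⟨c, hc, e⟩ := hconj y hy
  set r := C.s * C.s with hr
  have hk : ∀ k : ℕ, r ^ k * y * (r ^ k)⁻¹ = y * c ^ k := by
    intro k
    induction k with
    | zero => simp
    | succ k ih =>
      calc r ^ (k + 1) * y * (r ^ (k + 1))⁻¹ = r * (r ^ k * y * (r ^ k)⁻¹) * r⁻¹ := by
            rw [pow_succ']; group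
        _ = r * y * r⁻¹ * (r * c ^ k * r⁻¹) := by rw [ih]; group
        _ = y * c ^ (k + 1) := by
            rw [e, ((hz c hc).pow_right k).eq, mul_inv_cancel_right, mul_assoc, ← pow_succ']
  have h5 := hk (2 ^ (C.n - 2))
  have hord : r ^ 2 ^ (C.n - 2) = 1 := by
    rw [hr, ← pow_two, ← pow_mul, show 2 * 2 ^ (C.n - 2) = orderOf C.s by
      rw [C.data.ordσ, CfsgLib.DihPrincipal.two_mul_pow C.data.hn], pow_orderOf_eq_one]
  rw [hord, one_mul, inv_one, mul_one] at h5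
  have hc1 : c = 1 := orderOf_eq_one_iff.1 (Nat.eq_one_of_dvd_coprimes
    ((Nat.coprime_two_left.2 (odd_orderOf C.odd_U (S.le_U (S.C0_le hc)))).pow_left (C.n - 2))
    (orderOf_dvd_of_pow_eq_one (mul_eq_left.1 h5.symm)) dvd_rfl)
  rw [hc1, mul_one] at e
  exact mul_inv_eq_iff_eq_mul.1 e

theorem conj_s_mem {e : G} (he : e ∈ S.Y) (heD : e ∈ C.D1) :
    C.s * e * C.s⁻¹ ∈ S.Y ∧ C.s * e * C.s⁻¹ ∈ C.D1 :=
  ⟨conj_mem (S.norm C.s_mem_H) he, C.conj_s_mem_D1 heD (S.commute_sq hY he)⟩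

/-- `s` is `1` or `-1` on `Y ∩ D1`. -/
theorem s_scalar (E : C.Env p) {z : G} (hz : z ∈ S.C0) (hz1 : z ≠ 1) :
    (∀ e ∈ S.Y, e ∈ C.D1 → C.s * e * C.s⁻¹ = e) ∨
      (∀ e ∈ S.Y, e ∈ C.D1 → C.s * e * C.s⁻¹ = e⁻¹) := by
  by_contra hne
  push Not at hne
  obtain ⟨⟨x, hx, hxD, hxs⟩, y, hy, hyD, hys⟩ := hne
  -- an inverted one and a fixed one
  set a := x⁻¹ * (C.s * x * C.s⁻¹) with ha
  set f := y * (C.s * y * C.s⁻¹) with hf
  have hx2 := S.conj_s_mem hY hx hxD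
  have hy2 := S.conj_s_mem hY hy hyD
  have haY : a ∈ S.Y := mul_mem (inv_mem hx) hx2.1
  have haD : a ∈ C.D1 := mul_mem (inv_mem hxD) hx2.2
  have hfY : f ∈ S.Y := mul_mem hy hy2.1
  have hfD : f ∈ C.D1 := mul_mem hyD hy2.2
  have ha1 : a ≠ 1 := fun h => hxs (inv_mul_eq_one.1 h).symm
  have hf1 : f ≠ 1 := fun h => hys (eq_inv_of_mul_eq_one_right h)
  have hfs : C.s * f * C.s⁻¹ = f := by
    rw [hf, ← conj_mul, show C.s * (C.s * y * C.s⁻¹) * C.s⁻¹ = C.s * C.s * y * (C.s * C.s)⁻¹ by group,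
      (S.commute_sq hY hy).eq, mul_inv_cancel_right]
    exact (S.commute_inf_D1 hy2.1 hy2.2 hy hyD).eq
  have has : C.s * a * C.s⁻¹ = a⁻¹ := by
    rw [ha, ← conj_mul, show C.s * (C.s * x * C.s⁻¹) * C.s⁻¹ = C.s * C.s * x * (C.s * C.s)⁻¹ by group,
      (S.commute_sq hY hx).eq, mul_inv_cancel_right]
    group
  have hfc : Commute f (C.s * C.t) :=
    (show Commute f C.s from (mul_inv_eq_iff_eq_mul.1 hfs).symm).mul_right (C.mem_D1.1 hfD).2
  have hast : C.s * C.t * a * (C.s * C.t) = a⁻¹ := by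
    rw [← C.conj_s_conj_t, conj_eq_of_commute C.inv_t.1 (C.mem_D1.1 haD).2, has]
  obtain ⟨T⟩ := E.flip.torus (d := f) (C.mem_D2.2 ⟨S.le_U hfY, hfc⟩) (S.le_O hfY) hf1
    (C.flip.Eig_of_conj_eq (Or.inl hfs))
  have := T.mem_zpowers_inverted (S.le_U haY) (S.commute_inf_D1 haY haD hfY hfD) hast
    (S.pow_eq a haY) (S.le_U (S.C0_le hz)) (S.commute_C0 hz (S.le_U0 hfY)).symm (S.inverted_C0' hz)
    (S.pow_eq z (S.C0_le hz)) hz1
  exact ha1 (S.eq_one_of_mem_C0 (zpowers_le.2 hz this) haD)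

variable (E : C.Env p) {z : G} (hz : z ∈ S.C0) (hz1 : z ≠ 1)
include E hz hz1

/-- The tori at the elements of `Y ∩ D1`. -/
theorem exists_line_torus {e : G} (he : e ∈ S.Y) (heD : e ∈ C.D1) (he1 : e ≠ 1) :
    ∃ T : Torus C e, p ∣ T.u₁ ∧ Commute C.s T.g ∧
      ∃ x ∈ C.U, C.t * x * C.t = x⁻¹ ∧ ¬ Commute x e := by
  have hse : C.s * e * C.s⁻¹ = e ∨ C.s * e * C.s⁻¹ = e⁻¹ :=
    (S.s_scalar hY E hz hz1).imp (fun h => h e he heD) (fun h => h e he heD)
  obtain ⟨T⟩ := S.torus E he heD he1 (C.Eig_of_conj_eq hse)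
  have hze : Commute z e := (S.commute_C0 hz (S.le_U0 he)).symm
  have hzg : z ∈ zpowers T.g := T.gen z (S.le_U (S.C0_le hz)) hze (S.inverted_C0 hz)
  have hsg : Commute C.s T.g := by
    rcases T.rot C.s (mem_zpowers _) (by
      rcases hse with h | h <;> rw [h]
      exacts [mem_zpowers e, inv_mem (mem_zpowers e)]) (S.commute_sq hY he) with h | ⟨-, -, h⟩
    · exact h
    · obtain ⟨k, hk⟩ := mem_zpowers_iff.1 hzg
      have h1 : C.s * z * C.s⁻¹ = z⁻¹ := by rw [← hk, ← conj_zpow, h, inv_zpow]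
      rw [(S.commute_s_C0 hz).eq, mul_inv_cancel_right] at h1
      exact absurd (eq_one_of_inv_eq h1.symm (odd_orderOf C.odd_U (S.le_U (S.C0_le hz)))) hz1
  refine ⟨T, ?_, hsg, ?_⟩
  · rw [← T.g_order, ← S.orderOf_eq (S.C0_le hz) hz1, ← Nat.card_zpowers T.g]
    exact Subgroup.orderOf_dvd_natCard _ hzg
  by_contra hne
  push Not at hne
  have hg : ∀ x ∈ C.U, C.t * x * C.t = x⁻¹ → ∃ k : ℤ, T.g ^ k = x := fun x hx hxt =>
    mem_zpowers_iff.1 (T.gen x hx (hne x hx hxt) hxt)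
  refine false_of_cen E.hD2 heD (S.le_U0 he) he1 (fun x hx hxt => ?_) fun x hx w hw hxt hwt => ?_
  · obtain ⟨k, rfl⟩ := hg x hx hxt
    exact hsg.zpow_right k
  · obtain ⟨k, rfl⟩ := hg x hx hxt
    obtain ⟨l, rfl⟩ := hg w hw hwt
    exact (Commute.refl T.g).zpow_zpow k l

theorem C0_eq_zpowers : S.C0 = zpowers z := by
  obtain ⟨d, hd, hdD, hd1, he⟩ := S.exists_meet
  obtain ⟨T⟩ := S.torus E hd hdD hd1 he
  exact le_antisymm (fun i hi => T.mem_zpowers_inverted (S.le_U (S.C0_le hi))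
    (S.commute_C0 hi (S.le_U0 hd)).symm (S.inverted_C0 hi) (S.pow_eq i (S.C0_le hi))
    (S.le_U (S.C0_le hz)) (S.commute_C0 hz (S.le_U0 hd)).symm (S.inverted_C0 hz)
    (S.pow_eq z (S.C0_le hz)) hz1) (zpowers_le.2 hz)

theorem card_C0 : Nat.card S.C0 = p := by
  rw [S.C0_eq_zpowers hY E hz hz1, Nat.card_zpowers, S.orderOf_eq (S.C0_le hz) hz1]

/-- The index of the centraliser of an element of `Y ∩ D1` in `[U, t]`, and the orbit of its line. -/
theorem line_data {d : G} (hd : d ∈ S.Y) (hdD : d ∈ C.D1) (hd1 : d ≠ 1) (T : Torus C d)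
    (hTp : p ∣ T.u₁) :
    (∀ e ∈ C.D1, e ∈ C.U1 → Commute e d) ∧ (C.U1 ⊓ centralizer ({d} : Set G)).relIndex C.U1 = p ∧
      CaseI.Shape p T.u₁ ((C.U1 ⊓ centralizer ({d} : Set G)).relIndex C.U1)
        ((C.D1 ⊓ normalizer (zpowers d : Set G)).relIndex C.D1) := by
  have hp2 : p ≠ 2 := E.good.2.1
  have htt := C.inv_t.1
  have hzd : Commute z d := (S.commute_C0 hz (S.le_U0 hd)).symm
  have hcard := S.card_C0 hY E hz hz1
  have hU10 : C.U1 ≤ C.U0 := le_sup_left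
  -- commutators with fixed elements lie in `C₀`
  have hS : ∀ e ∈ S.Y, e ∈ C.D1 → ∀ x ∈ C.U1, x * e * x⁻¹ * e⁻¹ ∈ S.C0 := by
    intro e he heD
    let Se : Subgroup G :=
      { carrier := {x | x ∈ C.U1 ∧ x * e * x⁻¹ * e⁻¹ ∈ S.C0}
        one_mem' := ⟨one_mem _, by simp⟩
        mul_mem' := fun {x y} hx hy => ⟨mul_mem hx.1 hy.1, by
          rw [show x * y * e * (x * y)⁻¹ * e⁻¹ =
            x * (y * e * y⁻¹ * e⁻¹) * x⁻¹ * (x * e * x⁻¹ * e⁻¹) by group,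
            (S.commute_C0 hy.2 (hU10 hx.1)).eq, mul_inv_cancel_right]
          exact mul_mem hy.2 hx.2⟩
        inv_mem' := fun {x} hx => ⟨inv_mem hx.1, by
          rw [show x⁻¹ * e * x⁻¹⁻¹ * e⁻¹ = x⁻¹ * (x * e * x⁻¹ * e⁻¹)⁻¹ * x⁻¹⁻¹ by group,
            (S.commute_C0 hx.2 (hU10 (inv_mem hx.1))).inv_right.eq, mul_inv_cancel_right]
          exact inv_mem hx.2⟩ }
    suffices h : C.U1 ≤ Se from fun x hx => (h hx).2
    refine (closure_le _).2 fun x hx => ?_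
    have hx1 : x ∈ C.U1 := mem_invGen hx.1 hx.2
    have hx0 : x ∈ C.U0 := hU10 hx1
    obtain ⟨e', he', he'D, c', hc'Y, hc'b, hxe⟩ := S.split (conj_mem (S.norm (C.U_le_H hx.1)) he)
    have hc' := hY c' hc'Y hc'b
    have h1 : x⁻¹ * e * x = e' * c'⁻¹ := by
      have h2 := congrArg (fun v => C.t * v * C.t) hxe
      rw [invol_mul htt, invol_mul htt, invol_mul htt, invol_inv htt, hx.2,
        conj_eq_of_commute htt (C.mem_D1.1 heD).2, conj_eq_of_commute htt (C.mem_D1.1 he'D).2,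
        hc'b, inv_inv] at h2
      exact h2
    have h2 : x * x * e * (x * x)⁻¹ * e⁻¹ = c' * c' := by
      have h3 : x * e' * x⁻¹ = e * c' := by
        have h4 : e = x * (e' * c'⁻¹) * x⁻¹ := by rw [← h1]; group
        calc x * e' * x⁻¹ = x * (e' * c'⁻¹) * x⁻¹ * (x * c' * x⁻¹) := by group
          _ = e * c' := by rw [← h4, (S.commute_C0 hc' hx0).eq, mul_inv_cancel_right]
      rw [show x * x * e * (x * x)⁻¹ = x * (x * e * x⁻¹) * x⁻¹ by group, hxe,
        show x * (e' * c') * x⁻¹ = x * e' * x⁻¹ * (x * c' * x⁻¹) by group, h3,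
        (S.commute_C0 hc' hx0).eq, mul_inv_cancel_right, mul_assoc e,
        (S.commute_C0 (mul_mem hc' hc') (S.le_U0 he)).eq, mul_inv_cancel_right]
    have hsq : x * x ∈ Se := ⟨mul_mem hx1 hx1, by rw [h2]; exact mul_mem hc' hc'⟩
    exact mem_of_sq_mem (odd_orderOf C.odd_U hx.1) hsq
  let ψ : ∀ e : G, e ∈ S.Y → e ∈ C.D1 → (C.U1 →* S.C0) := fun e he heD =>
    MonoidHom.mk' (fun x => ⟨(x : G) * e * (x : G)⁻¹ * e⁻¹, hS e he heD x x.2⟩) fun x y => by
      refine Subtype.ext ?_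
      show (x : G) * y * e * ((x : G) * y)⁻¹ * e⁻¹ =
        (x : G) * e * (x : G)⁻¹ * e⁻¹ * ((y : G) * e * (y : G)⁻¹ * e⁻¹)
      rw [show (x : G) * y * e * ((x : G) * y)⁻¹ * e⁻¹ =
        (x : G) * ((y : G) * e * (y : G)⁻¹ * e⁻¹) * (x : G)⁻¹ * ((x : G) * e * (x : G)⁻¹ * e⁻¹) by group,
        (S.commute_C0 (hS e he heD y y.2) (hU10 x.2)).eq, mul_inv_cancel_right]
      exact ((S.commute_C0 (hS e he heD x x.2) (S.le_U0 (S.C0_le (hS e he heD y y.2)))).eq)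
  have hker : ∀ e (he : e ∈ S.Y) (heD : e ∈ C.D1),
      (ψ e he heD).ker = (centralizer ({e} : Set G)).subgroupOf C.U1 := fun e he heD => by
    ext x
    rw [MonoidHom.mem_ker, mem_subgroupOf, mem_centralizer_singleton_iff, Subtype.ext_iff]
    show (x : G) * e * (x : G)⁻¹ * e⁻¹ = 1 ↔ _
    rw [mul_inv_eq_one, mul_inv_eq_iff_eq_mul]
  have hidx : ∀ e (he : e ∈ S.Y) (_ : e ∈ C.D1), e ≠ 1 →
      (centralizer ({e} : Set G)).relIndex C.U1 = p := by
    intro e he heD he1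
    obtain ⟨-, -, -, x, hx, hxb, hxe⟩ := S.exists_line_torus hY E hz hz1 he heD he1
    rw [relIndex, ← hker e he heD, index_ker]
    have hdvd : Nat.card (ψ e he heD).range ∣ p := (card_subgroup_dvd_card _).trans hcard.dvd
    refine ((Fact.out : p.Prime).eq_one_or_self_of_dvd _ hdvd).resolve_left fun h => ?_
    have h' : ψ e he heD ⟨x, mem_invGen hx hxb⟩ ∈ (⊥ : Subgroup S.C0) := by
      rw [← card_eq_one.1 h]; exact ⟨_, rfl⟩
    have h'' := congrArg Subtype.val (mem_bot.1 h')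
    exact hxe (mul_inv_eq_iff_eq_mul.1 (mul_inv_eq_one.1 h''))
  obtain ⟨-, -, -, x₀, hx₀, hx₀b, hx₀d⟩ := S.exists_line_torus hY E hz hz1 hd hdD hd1
  set g := T.g with hgdef
  have hg0 : g ∈ C.U1 := mem_invGen T.g_mem T.g_inv
  have hx00 : x₀ ∈ C.U1 := mem_invGen hx₀ hx₀b
  have hfixU : ∀ e ∈ S.Y, e ∈ C.D1 → ∀ v ∈ C.D1, v ∈ C.U1 → Commute v e := fun e he heD v hv hv0 =>
    mul_inv_eq_iff_eq_mul.1 (mul_inv_eq_one.1 (S.eq_one_of_mem_C0 (hS e he heD v hv0)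
      (mul_mem (mul_mem (mul_mem hv heD) (inv_mem hv)) (inv_mem heD))))
  have hindex : (C.U1 ⊓ centralizer ({d} : Set G)).relIndex C.U1 = p := by
    rw [inf_relIndex_left, hidx d hd hdD hd1]
  refine ⟨hfixU d hd hdD, hindex, ?_⟩
  -- a fixed element is determined by its commutators with `g` and `x₀`
  have hdet : ∀ e ∈ S.Y, e ∈ C.D1 → Commute g e → Commute x₀ e → e = 1 := by
    intro e he heD hge hxe
    by_contra he1
    have htn : C.t ∈ normalizer ((C.U ⊓ centralizer ({d} : Set G) : Subgroup G) : Set G) :=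
      mem_normalizer_iff.2 fun v => by
        rw [mem_inf, mem_inf, mem_normalizer_iff.1 C.t_norm_U v, mem_normalizer_iff.1
          (le_normalizer (mem_centralizer_singleton_iff.2 (C.mem_D1.1 hdD).2.symm.eq) :
            C.t ∈ normalizer (centralizer ({d} : Set G) : Set G)) v]
    have hle : (C.U1 ⊓ centralizer ({d} : Set G)) ≤ C.U1 ⊓ centralizer ({e} : Set G) := by
      rintro v ⟨hv0, hvd⟩
      obtain ⟨c, hc, i, hi, hcb, hib, rfl⟩ := exists_split htt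
        (C.odd_U.of_dvd_nat (card_dvd_of_le inf_le_left)) htn
        (⟨CaseI.invGen_le _ _ hv0, hvd⟩ : v ∈ C.U ⊓ centralizer ({d} : Set G))
      have hiU : i ∈ C.U := hi.1
      obtain ⟨k, hk⟩ := mem_zpowers_iff.1 (T.gen i hiU (mem_centralizer_singleton_iff.1 hi.2) hib)
      have hc0 : c ∈ C.U1 := by
        have := mul_mem (show c * i ∈ C.U1 from hv0) (inv_mem (show i ∈ C.U1 from mem_invGen hiU hib))
        rwa [mul_inv_cancel_right] at this
      refine ⟨hv0, mem_centralizer_singleton_iff.2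
        ((hfixU e he heD c (C.mem_D1.2 ⟨hc.1, hcb⟩) hc0).mul_left ?_).eq⟩
      rw [← hk]; exact hge.zpow_left k
    have h1 : (C.U1 ⊓ centralizer ({d} : Set G)).relIndex C.U1 =
        (C.U1 ⊓ centralizer ({e} : Set G)).relIndex C.U1 := by
      rw [hindex, inf_relIndex_left, hidx e he heD he1]
    have h2 := relIndex_mul_relIndex _ _ C.U1 hle inf_le_left
    have hne : (C.U1 ⊓ centralizer ({e} : Set G)).relIndex C.U1 ≠ 0 := by
      rw [inf_relIndex_left, hidx e he heD he1]; exact (Fact.out : p.Prime).ne_zero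
    rw [h1, Nat.mul_eq_right hne, relIndex_eq_one] at h2
    exact hx₀d (mem_centralizer_singleton_iff.1
      (h2 ⟨hx00, mem_centralizer_singleton_iff.2 hxe.eq⟩).2)
  set A := S.Y ⊓ C.D1 with hA
  let Φ : A → S.C0 × S.C0 := fun e => (ψ e e.2.1 e.2.2 ⟨g, hg0⟩, ψ e e.2.1 e.2.2 ⟨x₀, hx00⟩)
  have hcomm_of_eq : ∀ (v : G) (hv : v ∈ C.U1) (e₁ e₂ : A),
      ψ e₁ e₁.2.1 e₁.2.2 ⟨v, hv⟩ = ψ e₂ e₂.2.1 e₂.2.2 ⟨v, hv⟩ → Commute v ((e₁ : G)⁻¹ * e₂) := by
    intro v hv e₁ e₂ h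
    have h' : v * (e₁ : G) * v⁻¹ * (e₁ : G)⁻¹ = v * (e₂ : G) * v⁻¹ * (e₂ : G)⁻¹ :=
      congrArg Subtype.val h
    refine mul_inv_eq_iff_eq_mul.1 ?_
    calc v * ((e₁ : G)⁻¹ * e₂) * v⁻¹
        = (v * (e₁ : G) * v⁻¹ * (e₁ : G)⁻¹ * e₁)⁻¹ * (v * (e₂ : G) * v⁻¹ * (e₂ : G)⁻¹ * e₂) := by
          group
      _ = (v * (e₁ : G) * v⁻¹ * (e₁ : G)⁻¹ * e₁)⁻¹ * (v * (e₁ : G) * v⁻¹ * (e₁ : G)⁻¹ * e₂) := by
          rw [h']
      _ = (e₁ : G)⁻¹ * e₂ := by group
  have hΦ : Function.Injective Φ := fun e₁ e₂ h => Subtype.ext (inv_mul_eq_one.1 (hdet _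
    (mul_mem (inv_mem e₁.2.1) e₂.2.1) (mul_mem (inv_mem e₁.2.2) e₂.2.2)
    (hcomm_of_eq g hg0 e₁ e₂ (congrArg Prod.fst h)) (hcomm_of_eq x₀ hx00 e₁ e₂ (congrArg Prod.snd h))))
  have hA2 : Nat.card A ≤ p * p := by
    have := Nat.card_le_card_of_injective Φ hΦ
    rwa [Nat.card_prod, hcard] at this
  have hdA : zpowers d ≤ A := zpowers_le.2 ⟨hd, hdD⟩
  have hdo : orderOf d = p := S.orderOf_eq hd hd1
  rw [hindex]
  by_cases hAp : Nat.card A ≤ p
  · have hAeq : zpowers d = A := eq_of_le_of_card_ge hdA (by rw [Nat.card_zpowers, hdo]; exact hAp)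
    have hl : (C.D1 ⊓ normalizer (zpowers d : Set G)).relIndex C.D1 = 1 := by
      rw [inf_relIndex_left, relIndex_eq_one]
      refine le_normalizer_of_conj fun e he w hw => ?_
      rw [hAeq] at hw ⊢
      exact ⟨conj_mem (S.norm (C.U_le_H (C.D1_le_U he))) hw.1,
        C.D1.mul_mem (C.D1.mul_mem he hw.2) (C.D1.inv_mem he)⟩
    rw [hl]
    exact ⟨1, odd_one, (Fact.out : p.Prime).one_le, (Fact.out : p.Prime).not_dvd_one,
      Or.inr (Or.inl ⟨(mul_one p).symm, rfl⟩)⟩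
  -- `p²` divides `u₁`
  have hp2u : p ^ 2 ∣ T.u₁ := by
    obtain ⟨r, hr⟩ := hTp
    by_contra hnd
    have hpr : ¬ p ∣ r := fun ⟨s, hs⟩ => hnd ⟨s, by rw [hr, hs, pow_two, mul_assoc]⟩
    refine hAp (((Nat.card_le_card_of_injective (fun e => (Φ e).2) fun e₁ e₂ h => hΦ (Prod.ext ?_ h)).trans
      hcard.le))
    have hgr : (g ^ r) ^ p = 1 := by
      rw [← pow_mul, mul_comm, ← hr, ← T.g_order, pow_orderOf_eq_one]
    obtain ⟨k, hk⟩ : ∃ k : ℤ, z ^ k = g ^ r := mem_zpowers_iff.1 (T.mem_zpowers_inverted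
      (pow_mem T.g_mem r) (T.g_comm.pow_left r)
      (by rw [← conj_invol_eq htt, ← conj_pow, conj_invol_eq htt, T.g_inv, inv_pow]) hgr
      (S.le_U (S.C0_le hz)) hzd (S.inverted_C0 hz) (S.pow_eq z (S.C0_le hz)) hz1)
    have hone : ∀ e : A, (Φ e).1 = 1 := by
      intro e
      have h1 : (Φ e).1 ^ r = 1 := by
        show ψ e e.2.1 e.2.2 ⟨g, hg0⟩ ^ r = 1
        rw [← map_pow]
        refine Subtype.ext ?_
        show g ^ r * (e : G) * (g ^ r)⁻¹ * (e : G)⁻¹ = 1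
        rw [← hk, ← ((S.commute_C0 (zpow_mem hz k) (S.le_U0 e.2.1))).eq, mul_inv_cancel_right,
          mul_inv_cancel]
      have h2 : (Φ e).1 ^ p = 1 := Subtype.ext (S.pow_eq _ (S.C0_le (Φ e).1.2))
      exact orderOf_eq_one_iff.1 (Nat.eq_one_of_dvd_coprimes
        ((Fact.out : p.Prime).coprime_iff_not_dvd.2 hpr) (orderOf_dvd_of_pow_eq_one h2)
        (orderOf_dvd_of_pow_eq_one h1))
    rw [hone, hone]
  -- the orbit of the line
  set ND := C.D1 ⊓ normalizer (zpowers d : Set G) with hND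
  have hl1 : 1 ≤ ND.relIndex C.D1 := Nat.one_le_iff_ne_zero.2 index_ne_zero_of_finite
  have hlo : Odd (ND.relIndex C.D1) :=
    (C.odd_U.of_dvd_nat (card_dvd_of_le C.D1_le_U)).of_dvd_nat (index_dvd_card _)
  have hlp : ND.relIndex C.D1 * (p - 1) ≤ p * p - 1 := by
    let f : (C.D1 ⧸ ND.subgroupOf C.D1) × Fin (p - 1) → {e : A // e ≠ 1} := fun qn =>
      ⟨⟨(qn.1.out : G) * d ^ (qn.2.1 + 1) * (qn.1.out : G)⁻¹,
        conj_mem (S.norm (C.U_le_H (C.D1_le_U qn.1.out.2))) (pow_mem hd _),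
        (mul_mem (mul_mem qn.1.out.2 (pow_mem hdD _)) (inv_mem qn.1.out.2) :
          (qn.1.out : G) * d ^ (qn.2.1 + 1) * (qn.1.out : G)⁻¹ ∈ C.D1)⟩, fun h => by
          have h1 : (qn.1.out : G) * d ^ (qn.2.1 + 1) * (qn.1.out : G)⁻¹ = 1 :=
            congrArg Subtype.val h
          have h2 := orderOf_dvd_of_pow_eq_one (conj_eq_one_iff.1 h1)
          rw [hdo] at h2
          have := Nat.le_of_dvd (Nat.succ_pos _) h2
          have := qn.2.2
          omega⟩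
    have hf : Function.Injective f := by
      rintro ⟨q₁, n₁⟩ ⟨q₂, n₂⟩ h
      have h1 : (q₁.out : G) * d ^ (n₁.1 + 1) * (q₁.out : G)⁻¹ =
          (q₂.out : G) * d ^ (n₂.1 + 1) * (q₂.out : G)⁻¹ :=
        congrArg (fun e : {e : A // e ≠ 1} => ((e : A) : G)) h
      set t : G := (q₂.out : G)⁻¹ * q₁.out with ht
      have h2 : t * d ^ (n₁.1 + 1) * t⁻¹ = d ^ (n₂.1 + 1) := by
        calc t * d ^ (n₁.1 + 1) * t⁻¹ = (q₂.out : G)⁻¹ *
              ((q₁.out : G) * d ^ (n₁.1 + 1) * (q₁.out : G)⁻¹) * q₂.out := by rw [ht]; group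
          _ = _ := by rw [h1]; group
      have hgen : ∀ n : Fin (p - 1), zpowers (d ^ (n.1 + 1)) = zpowers d := fun n => by
        refine eq_of_le_of_card_ge (zpowers_le.2 (npow_mem_zpowers d _)) ?_
        rw [Nat.card_zpowers, Nat.card_zpowers, hdo, orderOf_pow' d (Nat.succ_ne_zero _), hdo,
          Nat.coprime_iff_gcd_eq_one.1 ((Fact.out : p.Prime).coprime_iff_not_dvd.2 fun h => by
            have := Nat.le_of_dvd (Nat.succ_pos _) h
            have := n.2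
            omega), Nat.div_one]
      have ht' : t ∈ normalizer (zpowers d : Set G) := by
        refine mem_normalizer_iff_map_conj_eq.2 ?_
        show (zpowers d).map (MulAut.conj t).toMonoidHom = zpowers d
        conv_lhs => rw [← hgen n₁, MonoidHom.map_zpowers]
        show zpowers (t * d ^ (n₁.1 + 1) * t⁻¹) = zpowers d
        rw [h2, hgen]
      have hq : q₁ = q₂ := by
        rw [← q₁.out_eq', ← q₂.out_eq']
        exact (QuotientGroup.eq.2 (show q₂.out⁻¹ * q₁.out ∈ ND.subgroupOf C.D1 from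
          ⟨(q₂.out⁻¹ * q₁.out).2, ht'⟩)).symm
      subst hq
      refine Prod.ext rfl (Fin.ext ?_)
      have h3 : d ^ (n₁.1 + 1) = d ^ (n₂.1 + 1) := by simpa using h1
      have := n₁.2
      have := n₂.2
      have h4 : n₁.1 + 1 ≡ n₂.1 + 1 [MOD p] := by
        have := pow_eq_pow_iff_modEq.1 h3
        rwa [hdo] at this
      have := h4.eq_of_lt_of_lt (by omega) (by omega)
      show n₁.1 = n₂.1
      omega
    have h := Nat.card_le_card_of_injective f hf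
    rw [Nat.card_prod, Nat.card_fin] at h
    refine h.trans ?_
    have hlt : Nat.card {e : A // e ≠ 1} < Nat.card A :=
      Finite.card_subtype_lt (p := fun e : A => e ≠ 1) (x := 1) (by simp)
    omega
  refine ⟨1, odd_one, (Fact.out : p.Prime).one_le, (Fact.out : p.Prime).not_dvd_one,
    Or.inr (Or.inr ⟨rfl, rfl, hp2u, hl1, ?_⟩)⟩
  have hp3 : 3 ≤ p := lt_of_le_of_ne (Fact.out : p.Prime).two_le (Ne.symm hp2)
  obtain ⟨j, hj⟩ := hlo
  obtain ⟨k, hk⟩ := (Fact.out : p.Prime).odd_of_ne_two hp2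
  by_contra hlt
  have hge : p + 2 ≤ ND.relIndex C.D1 := by omega
  have h5 := Nat.mul_le_mul_right (p - 1) hge
  obtain ⟨q, rfl⟩ : ∃ q, p = q + 1 := ⟨p - 1, by omega⟩
  simp only [Nat.add_sub_cancel] at h5 hlp
  have : (q + 1) * (q + 1) - 1 = q * q + 2 * q := Nat.sub_eq_of_eq_add (by ring)
  nlinarith

end

/-- The layer is not a centralised group over a central line. -/
theorem false_of_central (E : C.Env p) {z0 : G} (hz : z0 ∈ S.C0) (hz1 : z0 ≠ 1)
    (hY : ∀ i ∈ S.Y, C.t * i * C.t = i⁻¹ → i ∈ S.C0) :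
    False := by
  obtain ⟨d, hd, hdD, hd1⟩ := S.meet
  obtain ⟨T, hTp, hsg, -⟩ := S.exists_line_torus hY E hz hz1 hd hdD hd1
  obtain ⟨hfix, hidx, hsh⟩ := S.line_data hY E hz hz1 hd hdD hd1 T hTp
  rcases S.s_scalar hY E hz hz1 with hs | hs
  · -- `s` centralises `A`
    refine Ctx.false_of_st_fixes E hdD (S.le_O hd) hd1 T (mul_inv_eq_iff_eq_mul.1 (hs d hd hdD)) hsg hTp
      (fun u hu => ?_) hfix hsh
    have hw : u * d * u⁻¹ ∈ S.Y := conj_mem (S.norm (C.U_le_H hu)) hd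
    constructor
    · intro h
      have hwD : u * d * u⁻¹ ∈ C.D1 := C.mem_D1.2 ⟨S.le_U hw, h⟩
      exact (show Commute (u * d * u⁻¹) C.s from
        (mul_inv_eq_iff_eq_mul.1 (hs _ hw hwD)).symm).mul_right h
    · intro h
      obtain ⟨e, he, heD, i, hi, hit, hei⟩ := S.split hw
      rw [hei] at h ⊢
      have h1 := conj_eq_of_commute C.inv_st.1 h
      have hec : Commute e (C.s * C.t) :=
        (show Commute e C.s from (mul_inv_eq_iff_eq_mul.1 (hs e he heD)).symm).mul_right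
          (C.mem_D1.1 heD).2
      rw [invol_mul C.inv_st.1, conj_eq_of_commute C.inv_st.1 hec,
        S.inverted_C0' (hY i hi hit), mul_right_inj] at h1
      rw [show i = 1 from eq_one_of_inv_eq h1 (odd_orderOf C.odd_U (S.le_U hi)), mul_one]
      exact (C.mem_D1.1 heD).2
  · -- `s` inverts `A`, so `s t` inverts `Y`
    have hinv : ∀ w ∈ S.Y, C.s * C.t * w * (C.s * C.t) = w⁻¹ := by
      intro w hw
      obtain ⟨e, he, heD, i, hi, hit, rfl⟩ := S.split hw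
      have he' : C.s * C.t * e * (C.s * C.t) = e⁻¹ := by
        rw [← C.conj_s_conj_t, conj_eq_of_commute C.inv_t.1 (C.mem_D1.1 heD).2, hs e he heD]
      rw [invol_mul C.inv_st.1, he', S.inverted_C0' (hY i hi hit), mul_inv_rev]
      exact ((S.commute_C0 (hY i hi hit) (S.le_U0 he)).inv_inv).eq
    refine Ctx.false_of_st_inverts E hdD (S.le_O hd) hd1 T (hs d hd hdD) hsg hTp (fun x hx hxst => ?_) hfix hidx.le
    exact commute_of_inverted C.inv_st.1 (odd_orderOf C.odd_U hx) hxst (hinv d hd)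
      (hinv _ (conj_mem (S.norm (C.U_le_H hx)) hd))

end CfsgLib.GW.Eight.Ctx.Chief
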