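import Cfsg.Agent.GW.Eight.Fusion
import Cfsg.Agent.Solvable.CoprimeAct

/-!
# Gorenstein–Walter, `|S| ≥ 8`: inverted elements and the collapse to the nested configuration

An element of `U` inverted by a reflection has order dividing the index of the fixed points.  If `s`
centralises every element inverted by `t` and these commute, `D2 ≤ D1`, which is the nested
configuration unless `U0` meets `D1` trivially.
-/

set_option autoImplicit false
set_option linter.style.haveILetI false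
set_option linter.unusedSectionVars false

namespace CfsgLib.GW.Eight

open Subgroup CfsgLib.DihPrincipal CfsgLib.GW
open CfsgLib.GW.CaseI (invGen mem_invGen invGen_le exists_split conj_invol_eq conj_eq_of_commute
  commute_of_conj_eq invol_mul invol_inv)
open CfsgLib.DGroup (conj_mem conj_mem' odd_orderOf eq_one_of_sq eq_one_of_inv_eq)

universe u

variable {G : Type u} [Group G]

theorem inverted_zpow {b x : G} (hb : b * b = 1) (h : b * x * b = x⁻¹) (k : ℤ) :
    b * x ^ k * b = (x ^ k)⁻¹ := by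
  rw [← conj_invol_eq hb, ← conj_zpow, conj_invol_eq hb, h, inv_zpow]

theorem eq_one_of_fixed_inverted {b x : G} (hb : b * b = 1) (hx : Odd (orderOf x))
    (hf : Commute x b) (hi : b * x * b = x⁻¹) : x = 1 :=
  eq_one_of_inv_eq (hi.symm.trans (conj_eq_of_commute hb hf)) hx

/-- The order of an inverted element divides the index of the fixed points. -/
theorem orderOf_dvd_relIndex [Finite G] {b : G} (hb : b * b = 1) {U : Subgroup G}
    (hU : Odd (Nat.card U)) (hbU : b ∈ normalizer (U : Set G)) {x : G} (hx : x ∈ U)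
    (hxb : b * x * b = x⁻¹) :
    orderOf x ∣ (U ⊓ centralizer ({b} : Set G)).relIndex U := by
  refine (Nat.dvd_iff_prime_pow_dvd_dvd _ _).2 fun r k hr hdvd => ?_
  haveI : Fact r.Prime := ⟨hr⟩
  set D := U ⊓ centralizer ({b} : Set G) with hD
  set y := x ^ (orderOf x / r ^ k) with hy
  have hyo : orderOf y = r ^ k := orderOf_pow_orderOf_div (orderOf_pos x).ne' hdvd
  have hyb : b * y * b = y⁻¹ := by
    rw [hy, ← zpow_natCast]; exact inverted_zpow hb hxb _
  have hcop : (Nat.card (zpowers b)).Coprime (Nat.card U) := by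
    rw [Nat.card_zpowers]
    exact Nat.Coprime.of_dvd_left (orderOf_dvd_of_pow_eq_one (by rw [pow_two, hb]))
      (Nat.coprime_two_left.2 hU)
  have hsolv : Group.IsSolvable (zpowers b) ∨ Group.IsSolvable U :=
    Or.inl (Group.isSolvable_of_comm fun g h => by
      obtain ⟨i, hi⟩ := mem_zpowers_iff.1 g.2
      obtain ⟨j, hj⟩ := mem_zpowers_iff.1 h.2
      exact Subtype.ext (by simp only [Subgroup.coe_mul, ← hi, ← hj, ← zpow_add, add_comm]))
  have hAU : zpowers b ≤ normalizer (U : Set G) := zpowers_le.2 hbU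
  have hYn : zpowers b ≤ normalizer (zpowers y : Set G) := by
    refine zpowers_le.2 (mem_normalizer_iff.2 fun v => ?_)
    have key : ∀ v ∈ zpowers y, b * v * b⁻¹ ∈ zpowers y := by
      intro v hv
      obtain ⟨i, rfl⟩ := mem_zpowers_iff.1 hv
      rw [conj_invol_eq hb, inverted_zpow hb hyb]
      exact inv_mem hv
    refine ⟨key v, fun h => ?_⟩
    have h2 := key _ h
    rw [inv_eq_of_mul_eq_one_right hb] at h2
    rwa [show b * (b * v * b) * b = (b * b) * v * (b * b) by group, hb, one_mul, mul_one] at h2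
  have hYp : IsPGroup r (zpowers y) := IsPGroup.of_card (n := k) (by rw [Nat.card_zpowers, hyo])
  obtain ⟨P, hYP, hPn⟩ := CfsgLib.CoprimeAct.exists_invariant_sylow_ge hAU hcop hsolv r
    (zpowers_le.2 (pow_mem hx _) : zpowers y ≤ U) hYp hYn
  set PG := (P : Subgroup U).map U.subtype with hPG
  set Cf := PG ⊓ centralizer ({b} : Set G) with hCf
  have hPGU : PG ≤ U := map_subtype_le _
  obtain ⟨m, hm⟩ := IsPGroup.iff_card.1 (P.2.map U.subtype : IsPGroup r PG)
  obtain ⟨c, hc⟩ := IsPGroup.iff_card.1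
    ((P.2.map U.subtype : IsPGroup r PG).to_le (inf_le_left : Cf ≤ PG))
  -- `⟨y⟩` meets the fixed points trivially
  have hkc : k + c ≤ m := by
    refine (Nat.pow_le_pow_iff_right hr.one_lt).1 ?_
    have he : r ^ k * r ^ c = Nat.card (zpowers y × Cf) := by
      rw [Nat.card_prod, Nat.card_zpowers, hyo, hc]
    rw [pow_add, he, ← hm]
    refine Nat.card_le_card_of_injective
      (fun q : zpowers y × Cf => (⟨(q.1 : G) * q.2, mul_mem (hYP q.1.2) q.2.2.1⟩ : PG)) ?_
    rintro ⟨y₁, c₁⟩ ⟨y₂, c₂⟩ h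
    have h' : (y₁ : G) * c₁ = (y₂ : G) * c₂ := congrArg Subtype.val h
    set w : G := (y₂ : G)⁻¹ * y₁ with hw
    have hwY : w ∈ zpowers y := mul_mem (inv_mem y₂.2) y₁.2
    have hwc : w = (c₂ : G) * (c₁ : G)⁻¹ := by
      rw [eq_mul_inv_iff_mul_eq, hw, mul_assoc, h', inv_mul_cancel_left]
    have hwC : Commute w b := by
      refine mem_centralizer_singleton_iff.1 ?_
      rw [hwc]; exact mul_mem c₂.2.2 (inv_mem c₁.2.2)
    have hwi : b * w * b = w⁻¹ := by
      obtain ⟨i, hi⟩ := mem_zpowers_iff.1 hwY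
      rw [← hi]; exact inverted_zpow hb hyb i
    have hw1 : w = 1 := eq_one_of_fixed_inverted hb
      (odd_orderOf hU (hPGU (hYP hwY))) hwC hwi
    have hy12 : y₁ = y₂ := Subtype.ext (inv_mul_eq_one.1 hw1).symm
    subst hy12
    exact Prod.ext rfl (Subtype.ext (mul_left_cancel h'))
  -- a Sylow subgroup of the fixed points is conjugate into `Cf`
  obtain ⟨S⟩ : Nonempty (Sylow r D) := inferInstance
  set SG := (S : Subgroup D).map D.subtype with hSG
  have hSD : SG ≤ D := map_subtype_le _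
  have hSn : zpowers b ≤ normalizer (SG : Set G) :=
    zpowers_le.2 (centralizer_le_normalizer _ (mem_centralizer_iff.2 fun v hv =>
      (mem_centralizer_singleton_iff.1 (hSD hv).2)))
  obtain ⟨Q, hSQ, hQn⟩ := CfsgLib.CoprimeAct.exists_invariant_sylow_ge hAU hcop hsolv r
    (hSD.trans inf_le_left) (S.2.map D.subtype) hSn
  obtain ⟨g, hg, hQP⟩ := CfsgLib.CoprimeAct.invariant_sylow_conj hAU hcop hsolv r Q P hQn hPn
  have hgb : Commute (g : G) b := (mem_centralizer_iff.1 hg b (mem_zpowers b)).symm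
  have hle : SG.map (MulAut.conj (g : G)).toMonoidHom ≤ Cf := by
    rintro _ ⟨v, hv, rfl⟩
    refine ⟨?_, mem_centralizer_singleton_iff.2 ?_⟩
    · obtain ⟨q, hq, rfl⟩ := hSQ hv
      exact ⟨g * q * g⁻¹, hQP ▸ ⟨q, hq, rfl⟩, rfl⟩
    · exact ((hgb.mul_left (mem_centralizer_singleton_iff.1 (hSD hv).2)).mul_left hgb.inv_left).eq
  obtain ⟨e, he⟩ := IsPGroup.iff_card.1 (S.2 : IsPGroup r (S : Subgroup D))
  have hec : e ≤ c := by
    refine (Nat.pow_le_pow_iff_right hr.one_lt).1 ?_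
    rw [← he, ← hc, ← card_map_of_injective (f := D.subtype) D.subtype_injective,
      ← card_map_of_injective (f := (MulAut.conj (g : G)).toMonoidHom) (MulAut.conj (g : G)).injective]
    exact card_le_of_le hle
  -- count
  have h1 : r ^ m ∣ Nat.card D * D.relIndex U := by
    rw [← hm, ← Nat.card_congr (subgroupOfEquivOfLe (inf_le_left : D ≤ U)).toEquiv, relIndex,
      card_mul_index]
    exact card_dvd_of_le hPGU
  rw [← card_mul_index (S : Subgroup D), he, mul_assoc] at h1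
  have h2 : r ^ (m - e) ∣ (S : Subgroup D).index * D.relIndex U := by
    refine Nat.dvd_of_mul_dvd_mul_left (pow_pos hr.pos e) ?_
    rwa [← pow_add, Nat.add_sub_cancel' (by omega)]
  have h3 := (((hr.coprime_iff_not_dvd).2 S.not_dvd_index).pow_left (m - e)).dvd_of_dvd_mul_left h2
  exact (pow_dvd_pow r (by omega)).trans h3

namespace Ctx

variable [Fintype G] [Fact (Nat.Prime 2)] (C : Ctx G)

theorem D1_le_U : C.D1 ≤ C.U := inf_le_left

theorem D2_le_U : C.D2 ≤ C.U := inf_le_left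

theorem t_norm_U : C.t ∈ normalizer (C.U : Set G) := C.H_le_normalizer_U C.t_mem_H

theorem s_norm_U : C.s ∈ normalizer (C.U : Set G) := C.H_le_normalizer_U C.s_mem_H

theorem st_norm_U : C.s * C.t ∈ normalizer (C.U : Set G) := C.H_le_normalizer_U C.st_mem_H

/-- `t s = s⁻¹ t`. -/
theorem t_mul_s : C.t * C.s = C.s⁻¹ * C.t := by
  rw [← C.data.rel, inv_mul_cancel_right]

/-- Every element of `U` is a fixed one times an inverted one. -/
theorem exists_mul_t {x : G} (hx : x ∈ C.U) :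
    ∃ e ∈ C.D1, ∃ y ∈ C.U, C.t * y * C.t = y⁻¹ ∧ x = e * y := by
  obtain ⟨c, hc, i, hi, hcb, hib, e⟩ := exists_split C.inv_t.1 C.odd_U C.t_norm_U hx
  exact ⟨c, C.mem_D1.2 ⟨hc, hcb⟩, i, hi, hib, e⟩

/-- The decomposition is unique. -/
theorem eq_of_mul_eq {e e' y y' : G} (he : e ∈ C.D1) (he' : e' ∈ C.D1) (hy : y ∈ C.U)
    (hy' : y' ∈ C.U) (hyt : C.t * y * C.t = y⁻¹) (hy't : C.t * y' * C.t = y'⁻¹)
    (h : e * y = e' * y') : e = e' ∧ y = y' := by
  have htt := C.inv_t.1
  have h2 := congrArg (fun v => C.t * v * C.t) h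
  simp only [invol_mul htt, conj_eq_of_commute htt (C.mem_D1.1 he).2,
    conj_eq_of_commute htt (C.mem_D1.1 he').2, hyt, hy't] at h2
  have hsq : y * y = y' * y' := by
    calc y * y = (e * y⁻¹)⁻¹ * (e * y) := by group
      _ = (e' * y'⁻¹)⁻¹ * (e' * y') := by rw [h, h2]
      _ = y' * y' := by group
  have hyy := CfsgLib.GW.CaseI.eq_of_sq (odd_orderOf C.odd_U hy) (odd_orderOf C.odd_U hy') hsq
  exact ⟨mul_right_cancel (hyy ▸ h), hyy⟩

variable {C}

section Cen

variable (hs : ∀ x ∈ C.U, C.t * x * C.t = x⁻¹ → Commute C.s x)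
include hs

/-- `s` normalises `D1` and `s * s` centralises it. -/
theorem conj_D1_of_cen {e : G} (he : e ∈ C.D1) :
    C.s * e * C.s⁻¹ ∈ C.D1 ∧ Commute (C.s ^ 2) e := by
  obtain ⟨heU, het⟩ := C.mem_D1.1 he
  obtain ⟨e', he', y, hy, hyt, hey⟩ := C.exists_mul_t (conj_mem C.s_norm_U heU)
  have hsy : Commute C.s y := hs y hy hyt
  have htt := C.inv_t.1
  have h1 : C.s⁻¹ * e * C.s = e' * y⁻¹ := by
    have h2 := congrArg (fun v => C.t * v * C.t) hey
    simp only [invol_mul htt (x := e'), conj_eq_of_commute htt (C.mem_D1.1 he').2, hyt] at h2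
    rw [← h2]
    calc C.s⁻¹ * e * C.s = C.s⁻¹ * (C.t * e * C.t) * C.s := by rw [conj_eq_of_commute htt het]
      _ = (C.s⁻¹ * C.t) * e * (C.t * C.s) := by group
      _ = (C.t * C.s) * e * (C.s⁻¹ * C.t) := by rw [C.t_mul_s]
      _ = C.t * (C.s * e * C.s⁻¹) * C.t := by group
  have h3 : C.s * e' * C.s⁻¹ = e * y := by
    have h4 : e = C.s * e' * C.s⁻¹ * (C.s * y⁻¹ * C.s⁻¹) := by
      rw [conj_mul, ← h1]; group
    rw [hsy.inv_right.eq, mul_inv_cancel_right] at h4
    rw [h4, inv_mul_cancel_right]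
  have hsq : ∀ k : ℕ, C.s ^ (2 * k) * e * (C.s ^ (2 * k))⁻¹ = e * y ^ (2 * k) := by
    intro k
    induction k with
    | zero => simp
    | succ k ih =>
      calc C.s ^ (2 * (k + 1)) * e * (C.s ^ (2 * (k + 1)))⁻¹
          = C.s * (C.s * (C.s ^ (2 * k) * e * (C.s ^ (2 * k))⁻¹) * C.s⁻¹) * C.s⁻¹ := by
            rw [show 2 * (k + 1) = 1 + (1 + 2 * k) by ring, pow_add, pow_add, pow_one]; group
        _ = C.s * (C.s * e * C.s⁻¹ * (C.s * y ^ (2 * k) * C.s⁻¹)) * C.s⁻¹ := by rw [ih]; group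
        _ = C.s * (e' * y * y ^ (2 * k)) * C.s⁻¹ := by
            rw [hey, (hsy.pow_right (2 * k)).eq, mul_inv_cancel_right]
        _ = C.s * e' * C.s⁻¹ * (C.s * y ^ (2 * k + 1) * C.s⁻¹) := by rw [pow_succ']; group
        _ = e * y * y ^ (2 * k + 1) := by
            rw [h3, (hsy.pow_right (2 * k + 1)).eq, mul_inv_cancel_right]
        _ = e * y ^ (2 * (k + 1)) := by
            rw [show 2 * (k + 1) = 2 * k + 1 + 1 by ring, pow_succ' y (2 * k + 1), mul_assoc]
  have hy1 : y = 1 := by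
    have h5 := hsq (2 ^ (C.n - 2))
    rw [show 2 * 2 ^ (C.n - 2) = orderOf C.s by rw [C.data.ordσ, two_mul_pow C.data.hn],
      pow_orderOf_eq_one] at h5
    simp only [one_mul, inv_one, mul_one] at h5
    refine orderOf_eq_one_iff.1 (Nat.eq_one_of_dvd_coprimes
      ((Nat.coprime_two_left.2 (odd_orderOf C.odd_U hy)).pow_left (C.n - 1))
      ?_ dvd_rfl)
    rw [← C.data.ordσ]
    exact orderOf_dvd_of_pow_eq_one (mul_eq_left.1 h5.symm)
  refine ⟨by rw [hey, hy1, mul_one]; exact he', ?_⟩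
  have h6 := hsq 1
  rw [hy1, one_pow, mul_one, mul_one] at h6
  exact mul_inv_eq_iff_eq_mul.1 h6

/-- `D2 ≤ D1`. -/
theorem D2_le_D1_of_cen : C.D2 ≤ C.D1 := by
  intro x hx
  obtain ⟨hxU, hxst⟩ := C.mem_D2.1 hx
  obtain ⟨e, he, y, hy, hyt, rfl⟩ := C.exists_mul_t hxU
  have hsy : Commute C.s y := hs y hy hyt
  have htt := C.inv_t.1
  have e1 : C.s * e * C.s⁻¹ * y⁻¹ = e * y := by
    have h1 := conj_eq_of_commute C.inv_st.1 hxst
    rw [← h1]
    calc C.s * e * C.s⁻¹ * y⁻¹ = C.s * (e * y⁻¹) * C.s⁻¹ := by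
          rw [← conj_mul, hsy.inv_right.eq, mul_inv_cancel_right]
      _ = C.s * (C.t * (e * y) * C.t) * C.s⁻¹ := by
          rw [invol_mul htt, conj_eq_of_commute htt (C.mem_D1.1 he).2, hyt]
      _ = C.s * C.t * (e * y) * (C.t * C.s⁻¹) := by group
      _ = C.s * C.t * (e * y) * (C.s * C.t) := by
          congr 1
          calc C.t * C.s⁻¹ = C.t⁻¹ * C.s⁻¹ := by rw [C.inv_t.inv_eq]
            _ = (C.s * C.t)⁻¹ := (mul_inv_rev _ _).symm
            _ = C.s * C.t := C.inv_st.inv_eq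
  obtain ⟨-, hy2⟩ := C.eq_of_mul_eq (conj_D1_of_cen hs he).1 he (inv_mem hy) hy
    (by rw [invol_inv htt, hyt]) hyt e1
  rw [show y = 1 from eq_one_of_inv_eq hy2 (odd_orderOf C.odd_U hy), mul_one]
  exact he

end Cen

/-- The collapse. -/
theorem false_of_cen (hD2 : C.D2 ≠ ⊥) {d : G} (hdD : d ∈ C.D1)
    (hd0 : d ∈ C.U0) (hd1 : d ≠ 1)
    (hs : ∀ x ∈ C.U, C.t * x * C.t = x⁻¹ → Commute C.s x)
    (hcomm : ∀ x ∈ C.U, ∀ y ∈ C.U, C.t * x * C.t = x⁻¹ → C.t * y * C.t = y⁻¹ → Commute x y) :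
    False := by
  haveI := C.simple
  have hle := D2_le_D1_of_cen hs
  rcases hle.lt_or_eq with hlt | heq
  · refine hD2 ?_
    rw [← C.fixST_eq]
    refine fixST_eq_bot C.data (nested_of_lt C.data (by rwa [C.fixST_eq, C.fixT_eq]) fun y hy => ?_) C.conj
    rw [C.fixT_eq] at hy
    exact (conj_D1_of_cen hs hy).2
  · have htt := C.inv_t.1
    have hinv : ∀ x ∈ C.U1, x ∈ C.U ∧ C.t * x * C.t = x⁻¹ := by
      intro x hx
      induction hx using closure_induction with
      | mem x hx => exact hx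
      | one => exact ⟨one_mem _, by rw [mul_one, htt, inv_one]⟩
      | inv x _ ih => exact ⟨inv_mem ih.1, by rw [invol_inv htt, ih.2]⟩
      | mul x y _ _ ihx ihy =>
        exact ⟨mul_mem ihx.1 ihy.1, by
          rw [invol_mul htt, ihx.2, ihy.2, mul_inv_rev,
            ((hcomm x ihx.1 y ihy.1 ihx.2 ihy.2).inv_inv).eq]⟩
    have hU21 : C.U2 ≤ C.U1 := by
      refine (closure_le _).2 fun x hx => ?_
      obtain ⟨e, he, y, hy, hyt, rfl⟩ := C.exists_mul_t hx.1
      have het : Commute e (C.s * C.t) := (C.mem_D2.1 (heq ▸ he)).2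
      have hyst : C.s * C.t * y * (C.s * C.t) = y⁻¹ := by
        calc C.s * C.t * y * (C.s * C.t) = C.s * (C.t * y * (C.s * C.t)) := by group
          _ = C.s * (C.t * y * C.t * (C.t * C.s * C.t)) := by
              congr 1
              rw [show C.t * y * C.t * (C.t * C.s * C.t) = C.t * y * (C.t * C.t) * C.s * C.t by group,
                htt]
              group
          _ = C.s * (y⁻¹ * C.s⁻¹) := by
              rw [hyt, C.t_mul_s, mul_assoc C.s⁻¹, htt, mul_one]
          _ = y⁻¹ := by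
              rw [← (hs y hy hyt).inv_inv.eq, mul_inv_cancel_left]
      refine mem_invGen hx.1 ?_
      have h1 : C.s * C.t * (e * y) * (C.s * C.t) = (e * y)⁻¹ := hx.2
      rw [invol_mul C.inv_st.1, conj_eq_of_commute C.inv_st.1 het, hyst] at h1
      rw [invol_mul htt, conj_eq_of_commute htt (C.mem_D1.1 he).2, hyt, h1]
    obtain ⟨-, h⟩ := hinv d ((sup_le le_rfl hU21 : C.U0 ≤ C.U1) hd0)
    exact hd1 (eq_one_of_fixed_inverted htt (odd_orderOf C.odd_U (C.D1_le_U hdD))
      (C.mem_D1.1 hdD).2 h)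

end Ctx

end CfsgLib.GW.Eight
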