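import Cfsg.Agent.GW.Eight.Normalizer
import Cfsg.Agent.GW.Eight.Refl

/-!
# Gorenstein–Walter, `|S| ≥ 8`: `U0 = [U, P]` and the symmetry between the two classes

`U0` is normal in `H` and the same for both orderings of the classes.  Eigenvectors of `s` on a subgroup
whose elements are centralised by `s * s`, and elements inverted by both reflections.
-/

set_option autoImplicit false
set_option linter.style.haveILetI false
set_option linter.unusedSectionVars false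

namespace CfsgLib.GW.Eight

open Subgroup
open CfsgLib.GW.CaseI (invGen mem_invGen invGen_le exists_split conj_invol_eq conj_eq_of_commute
  commute_of_conj_eq invol_mul invol_inv le_normalizer_invGen inverted_inv eq_of_sq
  commute_of_le_inverted)
open CfsgLib.DGroup (coreIn Op conj_mem conj_mem' odd_orderOf eq_one_of_sq eq_one_of_inv_eq)

universe u

variable {G : Type u} [Group G]

/-- An element of odd order whose square is in a subgroup is in the subgroup. -/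
theorem mem_of_sq_mem [Finite G] {N : Subgroup G} {x : G} (hx : Odd (orderOf x)) (h : x * x ∈ N) :
    x ∈ N := by
  obtain ⟨j, hj⟩ := hx
  have e : x = (x * x) ^ (j + 1) := by
    rw [← pow_two, ← pow_mul, show 2 * (j + 1) = orderOf x + 1 by omega, pow_succ,
      pow_orderOf_eq_one, one_mul]
  rw [e]
  exact pow_mem h _

/-- An eigenvector of an element whose square centralises a subgroup which it normalises. -/
theorem exists_eigen {N : Subgroup G} {r : G} (hr : r ∈ normalizer (N : Set G))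
    (h2 : ∀ x ∈ N, Commute (r * r) x) (hN : N ≠ ⊥) :
    ∃ d ∈ N, d ≠ 1 ∧ (r * d * r⁻¹ = d ∨ r * d * r⁻¹ = d⁻¹) := by
  obtain ⟨x, hx, hx1⟩ := N.bot_or_exists_ne_one.resolve_left hN
  by_cases h : r * x * r⁻¹ = x
  · exact ⟨x, hx, hx1, Or.inl h⟩
  refine ⟨x⁻¹ * (r * x * r⁻¹), mul_mem (inv_mem hx) (conj_mem hr hx),
    fun e => h (inv_mul_eq_one.1 e).symm, Or.inr ?_⟩
  rw [← conj_mul, show r * (r * x * r⁻¹) * r⁻¹ = r * r * x * (r * r)⁻¹ by group,
    (h2 x hx).eq, mul_inv_cancel_right]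
  group

namespace Ctx

variable [Fintype G] [Fact (Nat.Prime 2)] (C : Ctx G)

theorem st_mul_t : C.s * C.t * C.t = C.s := by rw [mul_assoc, C.inv_t.1, mul_one]

/-- Conjugation by `s` after conjugation by `t` is conjugation by `s t`. -/
theorem conj_s_conj_t (x : G) : C.s * (C.t * x * C.t) * C.s⁻¹ = C.s * C.t * x * (C.s * C.t) := by
  have h : C.t * C.s⁻¹ = C.s * C.t := by
    rw [← C.inv_st.inv_eq, mul_inv_rev, C.inv_t.inv_eq]
  calc C.s * (C.t * x * C.t) * C.s⁻¹ = C.s * C.t * x * (C.t * C.s⁻¹) := by group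
    _ = _ := by rw [h]

/-- Conjugation by `t` after conjugation by `s`. -/
theorem conj_t_conj_s (x : G) : C.t * (C.s * x * C.s⁻¹) * C.t = C.s⁻¹ * (C.t * x * C.t) * C.s := by
  have h : C.s⁻¹ * C.t = C.t * C.s := C.t_mul_s.symm
  have h' : C.s⁻¹ * C.t * C.s⁻¹ = C.t := by rw [h, mul_inv_cancel_right]
  calc C.t * (C.s * x * C.s⁻¹) * C.t = C.t * C.s * x * (C.s⁻¹ * C.t) := by group
    _ = C.s⁻¹ * C.t * x * (C.t * C.s) := by rw [h]
    _ = _ := by group

/-- An element inverted by `t` and by `s t` commutes with `s`. -/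
theorem commute_s_of_inverted {x : G} (h1 : C.t * x * C.t = x⁻¹)
    (h2 : C.s * C.t * x * (C.s * C.t) = x⁻¹) : Commute C.s x := by
  have h := C.conj_s_conj_t x
  rw [h1, h2] at h
  exact Commute.inv_right_iff.1 (mul_inv_eq_iff_eq_mul.1 h)

/-- An element inverted by `t` and commuting with `s` is inverted by `s t`. -/
theorem inverted_st_of_commute {x : G} (h1 : C.t * x * C.t = x⁻¹) (hs : Commute C.s x) :
    C.s * C.t * x * (C.s * C.t) = x⁻¹ := by
  rw [← C.conj_s_conj_t, h1, hs.inv_right.eq, mul_inv_cancel_right]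

theorem U0_le : C.U0 ≤ C.U := sup_le (invGen_le _ _) (invGen_le _ _)

theorem mem_U0_of_inverted {x : G} (hx : x ∈ C.U) (h : C.t * x * C.t = x⁻¹) : x ∈ C.U0 :=
  mem_sup_left (mem_invGen hx h)

theorem mem_U0_of_inverted' {x : G} (hx : x ∈ C.U) (h : C.s * C.t * x * (C.s * C.t) = x⁻¹) :
    x ∈ C.U0 :=
  mem_sup_right (mem_invGen hx h)

theorem U_le_normalizer_U1 : C.U ≤ normalizer (C.U1 : Set G) :=
  le_normalizer_invGen C.inv_t.1 C.odd_U C.t_norm_U

theorem U_le_normalizer_U0 : C.U ≤ normalizer (C.U0 : Set G) := by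
  intro u hu
  have h1 := C.U_le_normalizer_U1 hu
  have h2 : u ∈ normalizer (C.U2 : Set G) :=
    le_normalizer_invGen C.inv_st.1 C.odd_U C.st_norm_U hu
  refine mem_normalizer_iff_map_conj_eq.2 ?_
  show (C.U1 ⊔ C.U2).map (MulAut.conj u).toMonoidHom = C.U1 ⊔ C.U2
  rw [Subgroup.map_sup]
  exact congrArg₂ (· ⊔ ·) (mem_normalizer_iff_map_conj_eq.1 h1) (mem_normalizer_iff_map_conj_eq.1 h2)

/-- The elements of `N(U)` acting trivially modulo `U0`. -/
def ActsTriv (v : G) : Prop :=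
  v ∈ normalizer (C.U : Set G) ∧ ∀ x ∈ C.U, v * x * v⁻¹ * x⁻¹ ∈ C.U0

variable {C}

theorem ActsTriv.mul {v w : G} (hv : C.ActsTriv v) (hw : C.ActsTriv w) : C.ActsTriv (v * w) := by
  refine ⟨mul_mem hv.1 hw.1, fun x hx => ?_⟩
  rw [show v * w * x * (v * w)⁻¹ * x⁻¹ =
    v * (w * x * w⁻¹) * v⁻¹ * (w * x * w⁻¹)⁻¹ * (w * x * w⁻¹ * x⁻¹) by group]
  exact mul_mem (hv.2 _ (conj_mem hw.1 hx)) (hw.2 x hx)

theorem actsTriv_refl {b : G} (hb : b * b = 1) (hbU : b ∈ normalizer (C.U : Set G))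
    (h : invGen b C.U ≤ C.U0) : C.ActsTriv b := by
  refine ⟨hbU, fun x hx => ?_⟩
  obtain ⟨c, hc, i, hi, hcb, hib, rfl⟩ := exists_split hb C.odd_U hbU hx
  have h1 : i⁻¹ * i⁻¹ ∈ C.U0 :=
    mul_mem (inv_mem (h (mem_invGen hi hib))) (inv_mem (h (mem_invGen hi hib)))
  rw [conj_invol_eq hb, invol_mul hb, conj_eq_of_commute hb hcb, hib,
    show c * i⁻¹ * (c * i)⁻¹ = c * (i⁻¹ * i⁻¹) * c⁻¹ by group]
  exact conj_mem (C.U_le_normalizer_U0 hc) h1

theorem ActsTriv.invGen_le {b : G} (hb : b * b = 1) (h : C.ActsTriv b) : invGen b C.U ≤ C.U0 := by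
  refine (closure_le _).2 fun x hx => ?_
  have h1 := h.2 x hx.1
  rw [conj_invol_eq hb, hx.2, ← mul_inv_rev, inv_mem_iff] at h1
  exact mem_of_sq_mem (odd_orderOf C.odd_U hx.1) h1

theorem ActsTriv.norm {v : G} (h : C.ActsTriv v) : v ∈ normalizer (C.U0 : Set G) := by
  refine mem_normalizer_iff_map_conj_eq.2 (eq_of_le_of_card_ge ?_
    (card_map_of_injective (MulAut.conj v).injective).ge)
  rintro _ ⟨x, hx, rfl⟩
  show v * x * v⁻¹ ∈ C.U0
  have := mul_mem (h.2 x (C.U0_le hx)) hx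
  rwa [inv_mul_cancel_right] at this

variable (C)

theorem actsTriv_t : C.ActsTriv C.t := actsTriv_refl C.inv_t.1 C.t_norm_U le_sup_left

theorem actsTriv_st : C.ActsTriv (C.s * C.t) := actsTriv_refl C.inv_st.1 C.st_norm_U le_sup_right

theorem actsTriv_s : C.ActsTriv C.s := by
  have := C.actsTriv_st.mul C.actsTriv_t
  rwa [C.st_mul_t] at this

theorem H_le_normalizer_U0 : C.H ≤ normalizer (C.U0 : Set G) := by
  intro h hh
  obtain ⟨u, hu, p, hp, rfl⟩ := C.exists_mul_P hh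
  refine mul_mem (C.U_le_normalizer_U0 hu) ?_
  obtain ⟨i, rfl | rfl⟩ := C.exists_cases hp
  · exact zpow_mem C.actsTriv_s.norm i
  · exact mul_mem (zpow_mem C.actsTriv_s.norm i) C.actsTriv_t.norm

theorem flip_U0 : C.flip.U0 = C.U0 := by
  apply le_antisymm
  · exact sup_le le_sup_right
      ((C.actsTriv_s.mul C.actsTriv_st).invGen_le C.flip.inv_st.1)
  · have h := (C.flip.actsTriv_t.mul C.flip.actsTriv_st).mul C.flip.actsTriv_t
    have e : C.flip.t * (C.flip.s * C.flip.t) * C.flip.t = C.t := by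
      show C.s * C.t * (C.s * (C.s * C.t)) * (C.s * C.t) = C.t
      have e1 : C.s * C.t * C.s = C.t := by rw [mul_assoc, C.t_mul_s, mul_inv_cancel_left]
      calc C.s * C.t * (C.s * (C.s * C.t)) * (C.s * C.t)
          = C.s * C.t * C.s * (C.s * C.t * (C.s * C.t)) := by group
        _ = C.t := by rw [e1, C.inv_st.1, mul_one]
    rw [e] at h
    exact sup_le (h.invGen_le C.inv_t.1) le_sup_left

theorem conj_s_mem_flip_D2 {x : G} (hx : x ∈ C.D1) : C.s * x * C.s⁻¹ ∈ C.flip.D2 := by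
  obtain ⟨hxU, hxt⟩ := C.mem_D1.1 hx
  refine C.flip.mem_D2.2 ⟨conj_mem C.s_norm_U hxU, ?_⟩
  have h := (Commute.conj_iff C.s).2 hxt
  have e : C.s * C.t * C.s⁻¹ = C.s * (C.s * C.t) := by
    rw [mul_assoc C.s C.t, ← C.inv_st.inv_eq, mul_inv_rev, C.inv_t.inv_eq]
  rwa [e] at h

theorem flip_D2_ne_bot (h : C.D1 ≠ ⊥) : C.flip.D2 ≠ ⊥ := fun e => by
  obtain ⟨x, hx, hx1⟩ := C.D1.bot_or_exists_ne_one.resolve_left h
  have h1 := C.conj_s_mem_flip_D2 hx
  rw [e, mem_bot, conj_eq_one_iff] at h1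
  exact hx1 h1

variable {C}

theorem Good.flip {p : ℕ} [Fact p.Prime] (hp : C.Good p) : C.flip.Good p := by
  refine ⟨hp.1, hp.2.1, hp.2.2.1, fun Q hQ hQU hQi => ⟨(hp.2.2.2 Q hQ hQU hQi).2, fun h => ?_⟩⟩
  refine C.not_commute_refl hp.2.2.2 hQ hQU hQi (one_mem _) 2 fun x hx => ?_
  have h1 : Commute x (C.s * (C.s * C.t)) := h x hx
  rwa [one_mul, inv_one, mul_one, zpow_ofNat, pow_two, mul_assoc]

variable (C)

/-- For `n = 3` the element `s` normalises `D1`, and `s * s` centralises `U`. -/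
theorem commute_sq_of_eight (hn : C.n = 3) {x : G} (hx : x ∈ C.U) : Commute (C.s * C.s) x := by
  have h : C.z = C.s * C.s := by rw [z, hn, show (2 : ℕ) ^ (3 - 2) = 2 by norm_num, pow_two]
  rw [← h]
  exact (C.commute_z hx).symm

/-- `s` maps an element of `D1` centralised by `s * s` into `D1`. -/
theorem conj_s_mem_D1 {x : G} (hx : x ∈ C.D1) (h2 : Commute (C.s * C.s) x) :
    C.s * x * C.s⁻¹ ∈ C.D1 := by
  obtain ⟨hxU, hxt⟩ := C.mem_D1.1 hx
  refine C.mem_D1.2 ⟨conj_mem C.s_norm_U hxU, commute_of_conj_eq C.inv_t.1 ?_⟩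
  rw [C.conj_t_conj_s, conj_eq_of_commute C.inv_t.1 hxt]
  calc C.s⁻¹ * x * C.s = C.s⁻¹ * (x * (C.s * C.s)) * C.s⁻¹ := by group
    _ = C.s⁻¹ * (C.s * C.s * x) * C.s⁻¹ := by rw [h2.eq]
    _ = _ := by group

/-- A subgroup normalised by `H` and meeting neither `D1` nor `D2` is inverted and central in `U0`. -/
theorem inverted_of_disjoint {N : Subgroup G} (hNU : N ≤ C.U) (hN : C.H ≤ normalizer (N : Set G))
    (h1 : ∀ x ∈ N, x ∈ C.D1 → x = 1) (h2 : ∀ x ∈ N, x ∈ C.D2 → x = 1) :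
    ∀ x ∈ N, C.t * x * C.t = x⁻¹ ∧ C.s * C.t * x * (C.s * C.t) = x⁻¹ ∧
      ∀ v ∈ C.U0, Commute v x := by
  have key : ∀ b : G, b * b = 1 → b ∈ C.H →
      (∀ x ∈ N, x ∈ C.U ⊓ centralizer ({b} : Set G) → x = 1) → ∀ x ∈ N, b * x * b = x⁻¹ := by
    intro b hb hbH hd x hx
    obtain ⟨c, hc, i, hi, hcb, hib, rfl⟩ := exists_split hb
      (C.odd_U.of_dvd_nat (card_dvd_of_le hNU)) (hN hbH) hx
    rw [hd c hc ⟨hNU hc, mem_centralizer_singleton_iff.2 hcb.eq⟩, one_mul]
    exact hib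
  have ht := key C.t C.inv_t.1 C.t_mem_H h1
  have hst := key _ C.inv_st.1 C.st_mem_H h2
  have hle : C.U0 ≤ centralizer (N : Set G) := by
    refine sup_le (fun v hv => mem_centralizer_iff.2 fun w hw => ?_)
      (fun v hv => mem_centralizer_iff.2 fun w hw => ?_)
    · exact (commute_of_le_inverted C.inv_t.1 C.odd_U
        (fun y hy => hN (C.U_le_H (invGen_le _ _ hy))) ht v hv w hw).symm.eq
    · exact (commute_of_le_inverted C.inv_st.1 C.odd_U
        (fun y hy => hN (C.U_le_H (invGen_le _ _ hy))) hst v hv w hw).symm.eq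
  exact fun x hx => ⟨ht x hx, hst x hx, fun v hv =>
    (mem_centralizer_iff.1 (hle hv) x hx : Commute x v).symm⟩

end Ctx

end CfsgLib.GW.Eight
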