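import Cfsg.Agent.GW.Eight.Fused
import Cfsg.Agent.GW.Eight.CaseII.Coatom
import Cfsg.Agent.GW.Eight.Sym

/-!
# Dihedral Sylow 2-subgroup of order at least eight: `C(z)` is maximal when both fixed point groups
are nontrivial
-/

set_option autoImplicit false
set_option linter.unusedSectionVars false

namespace CfsgLib.GW.Eight.Ctx

open Subgroup

universe u

variable {G : Type u} [Group G] [Fintype G] [Fact (Nat.Prime 2)]

/-- `C(z)` is a maximal subgroup once both fixed point groups are nontrivial. -/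
theorem isCoatom_H (C : Ctx G) (hD1 : C.D1 ≠ ⊥) (hD2 : C.D2 ≠ ⊥) : IsCoatom C.H :=
  C.isCoatom_H_of_not_fused (fun {_} hM hlt => C.not_fused_of_lt hD1 hD2 hM hlt)
    (fun {_} hM hlt => C.flip.not_fused_of_lt hD2 (C.flip_D2_ne_bot hD1) hM hlt)

end CfsgLib.GW.Eight.Ctx
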