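import Cfsg.Agent.GW.Eight.Invariant

/-!
# Gorenstein–Walter, `|S| ≥ 8`: the odd core of `C(d)` lies in `D1`

For `d ∈ D1 ∩ O_p(H)`, `p` good, every `O_r` of `C(d)` is centralised by `V1`: for a good prime `r` by
fusion, otherwise because its part inverted by `t` is trivial, conjugates in `C(d)` transporting the
fixed points of `z` to those of `t` and `z * t`.
-/

set_option autoImplicit false
set_option linter.style.haveILetI false
set_option linter.unusedSectionVars false

namespace CfsgLib.GW.Eight.Ctx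

open Subgroup
open CfsgLib.NormCyclic (Inv)
open CfsgLib.DGroup (coreIn Op conj_mem conj_mem' odd_orderOf eq_one_of_inv_eq)
open CfsgLib.GW.CaseI (exists_pow_of_isPGroup mem_invGen exists_split conj_eq_of_commute
  commute_of_conj_eq)

universe u

variable {G : Type u} [Group G] [Fintype G] [Fact (Nat.Prime 2)] (C : Ctx G)
include C

/-- An inverted `r`-element of `C(d)` normalised by the centraliser is trivial when `r` divides no
`|[U, t]|` or `O_r(H) = 1`. -/
theorem inverted_eq_one_of_not_good {p r : ℕ} [Fact p.Prime] [Fact r.Prime]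
    (hp : Op p C.H ≠ ⊥) (hrG : Op r C.H = ⊥ ∨ ¬ r ∣ Nat.card C.U1) {d i : G} (hdO : d ∈ Op p C.H)
    (hiY : i ∈ Op r (centralizer ({d} : Set G))) (hiU : i ∈ C.U)
    (hit : C.t * i * C.t = i⁻¹) : i = 1 := by
  set K := centralizer ({d} : Set G) with hK
  obtain ⟨j, hj⟩ := exists_pow_of_isPGroup (CfsgLib.DGroup.isPGroup_Op r K) hiY
  rcases hrG with hbot | hdvd
  swap
  · exact orderOf_eq_one_iff.1 (Nat.eq_one_of_dvd_coprimes
      (((Fact.out : r.Prime).coprime_iff_not_dvd.2 hdvd).pow_left j) (orderOf_dvd_of_pow_eq_one hj)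
      (Subgroup.orderOf_dvd_natCard _ (mem_invGen hiU hit)))
  have hrp : r ≠ p := fun e => hp (e ▸ hbot)
  have hiK : i ∈ K := CfsgLib.DGroup.coreIn_le _ (CfsgLib.DGroup.Op_le r K hiY)
  have hiH : i ∈ C.H := C.U_le_H hiU
  -- `i` commutes with the centraliser of `d` in every `O_q(U)`
  have hcent : ∀ q : ℕ, q.Prime → q ≠ r → ∀ z ∈ Op q C.H, z ∈ K → Commute z i := by
    intro q hq hqr z hz hzK
    haveI : Fact q.Prime := ⟨hq⟩
    exact CfsgLib.DGroup.commute_of_pq hqr (CfsgLib.DGroup.isPGroup_Op q C.H)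
      (CfsgLib.DGroup.isPGroup_Op r K) hz hiY (CfsgLib.DGroup.le_normalizer_Op r K hzK)
      (CfsgLib.DGroup.le_normalizer_Op q C.H hiH)
  have hall : ∀ q : ℕ, q.Prime → ∀ z ∈ Op q C.H, Commute z i := by
    intro q hq z hz
    haveI : Fact q.Prime := ⟨hq⟩
    by_cases hqr : q = r
    · subst hqr
      rw [hbot, mem_bot] at hz
      rw [hz]; exact Commute.one_left i
    by_cases hqp : q = p
    · subst hqp
      -- Thompson's lemma
      have hdp : IsPGroup q (zpowers d) := (CfsgLib.DGroup.isPGroup_Op q C.H).to_le (zpowers_le.2 hdO)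
      have hcop : (Nat.card (zpowers i)).Coprime q := by
        rw [Nat.card_zpowers]
        exact Nat.Coprime.of_dvd_left (orderOf_dvd_of_pow_eq_one hj)
          (((Nat.coprime_primes Fact.out Fact.out).2 hrp).pow_left j)
      have hdi : Commute d i := (mem_centralizer_singleton_iff.1 hiK).symm
      have h := CfsgLib.CoprimeAct.p_times_q_aux _ q (zpowers d) (zpowers i) (Op q C.H) rfl hdp hcop
        (CfsgLib.DGroup.isPGroup_Op q C.H)
        (zpowers_le.2 (mem_centralizer_iff.2 fun x hx => by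
          obtain ⟨k, rfl⟩ := mem_zpowers_iff.1 hx
          exact (hdi.zpow_right k).eq.symm))
        (zpowers_le.2 (le_normalizer hdO))
        (zpowers_le.2 (CfsgLib.DGroup.le_normalizer_Op q C.H hiH)) (fun x hx => by
          have hxd : x * d = d * x := (mem_centralizer_iff.1 hx.2 d (mem_zpowers d)).symm
          have hxi := hcent q hq hqr x hx.1 (mem_centralizer_singleton_iff.2 hxd)
          refine mem_centralizer_iff.2 fun w hw => ?_
          obtain ⟨k, rfl⟩ := mem_zpowers_iff.1 hw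
          exact (hxi.zpow_right k).eq.symm)
      rw [commutator_eq_bot_iff_le_centralizer] at h
      exact (mem_centralizer_iff.1 (h hz) i (mem_zpowers i)).symm
    · exact hcent q hq hqr z hz (mem_centralizer_singleton_iff.2
        (CfsgLib.DGroup.Op_commute hqp hz hdO).eq)
  have := CfsgLib.DGroup.mem_Op_of_commute (M := C.H) (p := r) hiU ⟨j, hj⟩ hall
  rwa [hbot, mem_bot] at this

/-- If `z` fixes no more of `Y` than `V1` and is conjugate to `v` in `N(Y)`, neither does `v`. -/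
theorem fix_eq_of_conj {Y : Subgroup G} (hz : ∀ y ∈ Y, Commute y C.z → Commute y C.t) {g v : G}
    (hg : g ∈ normalizer (Y : Set G)) (hgv : g * C.z * g⁻¹ = v)
    (hv : ∀ y : G, Commute y C.z → Commute y C.t → Commute y v) {y : G} (hy : y ∈ Y)
    (hyv : Commute y v) : Commute y C.z := by
  set A := Y ⊓ centralizer ({C.z} : Set G) with hA
  set B := Y ⊓ centralizer ({v} : Set G) with hB
  have hle : A ≤ B := fun x hx => ⟨hx.1, mem_centralizer_singleton_iff.2
    (hv x (mem_centralizer_singleton_iff.1 hx.2) (hz x hx.1 (mem_centralizer_singleton_iff.1 hx.2))).eq⟩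
  have hmap : B.map (MulAut.conj g⁻¹).toMonoidHom ≤ A := by
    rintro _ ⟨x, hx, rfl⟩
    refine ⟨conj_mem (inv_mem hg) hx.1, mem_centralizer_singleton_iff.2 ?_⟩
    have h := (Commute.conj_iff g⁻¹).2 (mem_centralizer_singleton_iff.1 hx.2 : Commute x v)
    rw [← hgv, show g⁻¹ * (g * C.z * g⁻¹) * g⁻¹⁻¹ = C.z by group] at h
    exact h.eq
  have h1 := card_le_of_le hmap
  rw [card_map_of_injective (MulAut.conj g⁻¹).injective] at h1
  have h2 : y ∈ A := by
    rw [eq_of_le_of_card_ge hle h1]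
    exact ⟨hy, mem_centralizer_singleton_iff.2 hyv.eq⟩
  exact mem_centralizer_singleton_iff.1 h2.2

/-- The odd core of `C(d)` lies in `D1`, given this for its `O_r` at the remaining primes. -/
theorem coreIn_le_D1_aux (hmax : IsCoatom C.H) {p : ℕ} [Fact p.Prime] (hp : C.Good p) {d : G}
    (hbad : ∀ r : ℕ, r.Prime → r ≠ 2 → ¬ C.Good r → Op r C.H ≠ ⊥ → r ∣ Nat.card C.U1 →
      Op r (centralizer ({d} : Set G)) ≤ C.D1)
    (hdD : d ∈ C.D1) (hdO : d ∈ Op p C.H) : coreIn (centralizer ({d} : Set G)) ≤ C.D1 := by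
  obtain ⟨hdU, hdt⟩ := C.mem_D1.1 hdD
  set K := centralizer ({d} : Set G) with hK
  obtain ⟨⟨g₁, hg₁, e₁⟩, g₂, hg₂, e₂⟩ := C.exists_fuse_centralizer hmax hp hdD
    (exists_pow_of_isPGroup (CfsgLib.DGroup.isPGroup_Op p C.H) hdO)
  have hzK : C.z ∈ K := mem_centralizer_singleton_iff.2 (C.commute_z hdU).eq.symm
  have htK : C.t ∈ K := mem_centralizer_singleton_iff.2 hdt.eq.symm
  have hVK : C.V1 ≤ K := (closure_le _).2 (by rintro x (rfl | rfl); exacts [hzK, htK])
  have htU : C.t ∈ normalizer (C.U : Set G) := C.H_le_normalizer_U C.t_mem_H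
  have hDn : ∀ v : G, (∀ x ∈ C.D1, Commute x v) → v ∈ normalizer (C.D1 : Set G) := fun v hv =>
    centralizer_le_normalizer _ (mem_centralizer_iff.2 fun x hx => (hv x hx).eq)
  -- every `O_r` of the core is centralised by `V1`
  have hOp : ∀ r : ℕ, r.Prime → Op r K ≤ C.D1 := by
    intro r hr
    haveI : Fact r.Prime := ⟨hr⟩
    have hYn : K ≤ normalizer (Op r K : Set G) := CfsgLib.DGroup.le_normalizer_Op r K
    by_cases hr2 : r = 2
    · subst hr2
      intro y hy
      obtain ⟨j, hj⟩ := exists_pow_of_isPGroup (CfsgLib.DGroup.isPGroup_Op 2 K) hy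
      have ho := odd_orderOf (CfsgLib.DGroup.odd_Op 2 K) hy
      rw [orderOf_eq_one_iff.1 (Nat.eq_one_of_dvd_coprimes ((Nat.coprime_two_right.2 ho).pow_right j)
        dvd_rfl (orderOf_dvd_of_pow_eq_one hj))]
      exact one_mem _
    by_cases hrG : C.Good r
    · exact C.le_D1_of_fus hmax hrG (CfsgLib.DGroup.isPGroup_Op r K) (hVK.trans hYn)
        ⟨g₁, hYn hg₁, e₁⟩ ⟨g₂, hYn hg₂, e₂⟩
    by_cases hrG' : Op r C.H = ⊥ ∨ ¬ r ∣ Nat.card C.U1
    swap
    · rw [not_or, not_not] at hrG'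
      exact hbad r hr hr2 hrG hrG'.1 hrG'.2
    have hodd : Odd (Nat.card (Op r K)) := CfsgLib.DGroup.odd_Op r K
    have key : ∀ y ∈ Op r K, Commute y C.z → Commute y C.t := by
      intro y hy hya
      set Y := Op r K ⊓ C.U with hY
      have hyY : y ∈ Y := ⟨hy, C.mem_U_of_odd (C.mem_H.2 hya) (odd_orderOf hodd hy)⟩
      have htY : C.t ∈ normalizer (Y : Set G) := mem_normalizer_iff.2 fun x => by
        rw [hY, mem_inf, mem_inf, mem_normalizer_iff.1 (hYn htK) x, mem_normalizer_iff.1 htU x]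
      obtain ⟨c, hc, i, hi, hct, hit, e⟩ :=
        exists_split C.inv_t.1 (hodd.of_dvd_nat (card_dvd_of_le inf_le_left)) htY hyY
      rw [C.inverted_eq_one_of_not_good hp.2.2.1 hrG' hdO hi.1 hi.2 hit, mul_one] at e
      rw [e]; exact hct
    refine CfsgLib.Bender.GSide.le_of_four (hr.odd_of_ne_two hr2) (CfsgLib.DGroup.isPGroup_Op r K)
      C.inv_z.orderOf C.inv_t.orderOf C.commute_zt (hYn hzK) (hYn htK)
      (hDn _ fun x hx => C.commute_z (C.mem_D1.1 hx).1) (hDn _ fun x hx => (C.mem_D1.1 hx).2) ?_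
    intro w y hw hy hwy
    suffices h : Commute y C.z ∧ Commute y C.t from C.mem_D1_of_odd h.1 h.2 (odd_orderOf hodd hy)
    have hyz : Commute y C.z := by
      rcases hw with rfl | rfl | rfl
      · exact hwy.symm
      · exact C.fix_eq_of_conj key (hYn hg₁) e₁ (fun _ _ h => h) hy hwy.symm
      · exact C.fix_eq_of_conj key (hYn hg₂) e₂ (fun _ h h' => h.mul_right h') hy hwy.symm
    exact ⟨hyz, key y hy hyz⟩
  -- `[W, V1] = 1`
  intro x hx
  have main : ∀ v ∈ K, v * v = 1 → (∀ q : ℕ, q.Prime → ∀ z ∈ Op q K, Commute z v) → Commute x v := by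
    intro v hvK hvv hvq
    set e := v * x * v * x⁻¹ with he
    have heW : e ∈ coreIn K := by
      refine mul_mem ?_ (inv_mem hx)
      have := conj_mem (CfsgLib.DGroup.normalizer_coreIn K hvK) hx
      rwa [inv_eq_of_mul_eq_one_right hvv] at this
    have hfit : e ∈ MaxBender.fit (coreIn K) := by
      refine CfsgLib.DGroup.mem_fit_of_commute heW fun q hq z hz => ?_
      haveI : Fact q.Prime := ⟨hq⟩
      have hxn := CfsgLib.DGroup.coreIn_le_normalizer_Op q K hx
      have hw := hvq q hq _ (conj_mem' hxn hz)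
      have h1 : Commute z (x * v * x⁻¹) := by
        have := (Commute.conj_iff x).2 hw
        rwa [show x * (x⁻¹ * z * x) * x⁻¹ = z by group] at this
      have h2 := (hvq q hq z hz).mul_right h1
      rwa [show v * (x * v * x⁻¹) = e by rw [he]; group] at h2
    have hev : Commute e v :=
      mem_centralizer_singleton_iff.1 (CfsgLib.DGroup.fit_le_centralizer hvq hfit)
    have hinv : v * e * v = e⁻¹ := by
      rw [he]
      simp only [mul_inv_rev, inv_inv, inv_eq_of_mul_eq_one_right hvv, mul_assoc, ← mul_assoc v v,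
        hvv, one_mul]
    rw [conj_eq_of_commute hvv hev] at hinv
    have he1 : v * x * v * x⁻¹ = 1 :=
      eq_one_of_inv_eq hinv.symm (odd_orderOf (CfsgLib.DGroup.odd_coreIn K) heW)
    exact commute_of_conj_eq hvv (mul_inv_eq_one.1 he1)
  exact C.mem_D1_of_odd
    (main _ hzK C.inv_z.1 fun q hq z hz => C.commute_z (C.mem_D1.1 (hOp q hq hz)).1)
    (main _ htK C.inv_t.1 fun q hq z hz => (C.mem_D1.1 (hOp q hq hz)).2)
    (odd_orderOf (CfsgLib.DGroup.odd_coreIn K) hx)

/-- The odd core of `C(d)` lies in `D1`. -/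
theorem coreIn_le_D1 (hmax : IsCoatom C.H) {p : ℕ} [Fact p.Prime] (hp : C.Good p)
    (hgood : ∀ r : ℕ, r.Prime → r ≠ 2 → Op r C.H ≠ ⊥ → r ∣ Nat.card C.U1 → C.Good r) {d : G}
    (hdD : d ∈ C.D1) (hdO : d ∈ Op p C.H) : coreIn (centralizer ({d} : Set G)) ≤ C.D1 :=
  C.coreIn_le_D1_aux hmax hp (fun r hr hr2 hrG hO hU => absurd (hgood r hr hr2 hO hU) hrG) hdD hdO

/-- For `2 ^ n ≥ 16` the condition on the other primes is automatic. -/
theorem coreIn_le_D1_of_four_le (h4 : 4 ≤ C.n) (hmax : IsCoatom C.H) {p : ℕ} [Fact p.Prime]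
    (hp2 : p ≠ 2) (hO : Op p C.H ≠ ⊥) {d : G}
    (hdD : d ∈ C.D1) (hdO : d ∈ Op p C.H) : coreIn (centralizer ({d} : Set G)) ≤ C.D1 :=
  C.coreIn_le_D1 hmax (C.good_of_four_le h4 hmax hp2 hO)
    (fun r hr hr2 hrO _ => by
      haveI : Fact r.Prime := ⟨hr⟩
      exact C.good_of_four_le h4 hmax hr2 hrO) hdD hdO

end CfsgLib.GW.Eight.Ctx
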