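import Cfsg.Agent.GW.Eight.Layer

/-!
# Gorenstein–Walter, `|S| ≥ 8`: `|U : D1| = |U1 : C(d)| u₁`
-/

set_option autoImplicit false
set_option linter.style.haveILetI false
set_option linter.unusedSectionVars false

namespace CfsgLib.GW.Eight

open Subgroup
open CfsgLib.GW.CaseI (invGen mem_invGen invGen_le exists_split conj_invol_eq conj_eq_of_commute)
open CfsgLib.DGroup (conj_mem odd_orderOf)

universe u

variable {G : Type u} [Group G]

theorem card_mul_relIndex {K L : Subgroup G} (h : K ≤ L) :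
    Nat.card K * K.relIndex L = Nat.card L := by
  have := relIndex_mul_relIndex ⊥ K L bot_le h
  rwa [relIndex_bot_left, relIndex_bot_left] at this

namespace Torus

variable [Fintype G] [Fact (Nat.Prime 2)] {C : Ctx G} {d : G} (T : Torus C d)
include T

theorem g_mem_U1 : T.g ∈ C.U1 := mem_invGen T.g_mem T.g_inv

theorem zpowers_inverted {x : G} (hx : x ∈ zpowers T.g) : C.t * x * C.t = x⁻¹ := by
  obtain ⟨k, rfl⟩ := mem_zpowers_iff.1 hx
  exact inverted_zpow C.inv_t.1 T.g_inv k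

theorem zpowers_comm {x : G} (hx : x ∈ zpowers T.g) : Commute x d := by
  obtain ⟨k, rfl⟩ := mem_zpowers_iff.1 hx
  exact T.g_comm.zpow_left k

/-- The order of `C_{U1}(d)` when `D1 ∩ U1` centralises `d`. -/
theorem card_U1_inf (hdD : d ∈ C.D1) (hfix : ∀ e ∈ C.D1, e ∈ C.U1 → Commute e d) :
    Nat.card ↥(C.U1 ⊓ centralizer ({d} : Set G)) = Nat.card ↥(C.D1 ⊓ C.U1) * T.u₁ := by
  set A := C.D1 ⊓ C.U1 with hA
  set E := C.U1 ⊓ centralizer ({d} : Set G) with hE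
  let f : A × zpowers T.g → E := fun q => ⟨(q.1 : G) * q.2,
    mul_mem q.1.2.2 (zpowers_le.2 T.g_mem_U1 q.2.2), mem_centralizer_singleton_iff.2
      ((hfix _ q.1.2.1 q.1.2.2).mul_left (T.zpowers_comm q.2.2)).eq⟩
  have hf : Function.Bijective f := by
    refine ⟨fun q₁ q₂ h => ?_, ?_⟩
    · have h' : (q₁.1 : G) * q₁.2 = (q₂.1 : G) * q₂.2 := congrArg Subtype.val h
      obtain ⟨e1, e2⟩ := C.eq_of_mul_eq q₁.1.2.1 q₂.1.2.1 (zpowers_le.2 T.g_mem q₁.2.2)
        (zpowers_le.2 T.g_mem q₂.2.2) (T.zpowers_inverted q₁.2.2) (T.zpowers_inverted q₂.2.2) h'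
      exact Prod.ext (Subtype.ext e1) (Subtype.ext e2)
    · rintro ⟨x, hx1, hxd⟩
      change x ∈ C.U1 at hx1
      have hxU : x ∈ C.U := invGen_le _ _ hx1
      obtain ⟨e, he, hed, k, rfl⟩ := T.exists_mul x hxU (mem_centralizer_singleton_iff.1 hxd)
      have he1 : e ∈ C.U1 := by
        have := mul_mem hx1 (inv_mem (zpow_mem T.g_mem_U1 k))
        rwa [mul_inv_cancel_right] at this
      exact ⟨⟨⟨e, he, he1⟩, ⟨T.g ^ k, zpow_mem (Subgroup.mem_zpowers _) k⟩⟩, rfl⟩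
  rw [← Nat.card_eq_of_bijective f hf, Nat.card_prod, Nat.card_zpowers, T.g_order]

/-- `|U : D1| = |U1 : C(d)| u₁`. -/
theorem relIndex_eq (hdD : d ∈ C.D1) (hfix : ∀ e ∈ C.D1, e ∈ C.U1 → Commute e d) :
    C.D1.relIndex C.U = (C.U1 ⊓ centralizer ({d} : Set G)).relIndex C.U1 * T.u₁ := by
  have hn : C.D1 ≤ normalizer (C.U1 : Set G) := C.D1_le_U.trans C.U_le_normalizer_U1
  have hsup : C.D1 ⊔ C.U1 = C.U := le_antisymm (sup_le C.D1_le_U (invGen_le _ _)) fun x hx => by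
    obtain ⟨e, he, y, hy, hyt, rfl⟩ := C.exists_mul_t hx
    exact mul_mem (mem_sup_left he) (mem_sup_right (mem_invGen hy hyt))
  have h1 := CfsgLib.Solvable.card_sup_mul_card_inf hn
  rw [hsup] at h1
  have h2 := card_mul_relIndex C.D1_le_U
  have h3 := card_mul_relIndex (inf_le_left : C.U1 ⊓ centralizer ({d} : Set G) ≤ C.U1)
  rw [T.card_U1_inf hdD hfix] at h3
  rw [← h2, ← h3] at h1
  refine Nat.eq_of_mul_eq_mul_left
    (Nat.mul_pos (Nat.card_pos (α := C.D1)) (Nat.card_pos (α := ↥(C.D1 ⊓ C.U1)))) ?_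
  calc Nat.card C.D1 * Nat.card ↥(C.D1 ⊓ C.U1) * C.D1.relIndex C.U
      = Nat.card C.D1 * C.D1.relIndex C.U * Nat.card ↥(C.D1 ⊓ C.U1) := by ring
    _ = _ := by rw [h1]; ring

end Torus

end CfsgLib.GW.Eight
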