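import Cfsg.Agent.GW.Eight.Count

/-!
# Gorenstein–Walter, `|S| ≥ 8`: the layer is not centralised by a reflection

If `t` centralises the layer, `[U, t]` is cyclic and centralised by `s`, which is the nested
configuration; the exception of the alternating group would make both `[U, t]` and `[U, s t]` cyclic,
meeting the fixed points trivially.
-/

set_option autoImplicit false
set_option linter.style.haveILetI false
set_option linter.unusedSectionVars false

namespace CfsgLib.GW.Eight.Ctx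

open Subgroup
open CfsgLib.GW.CaseI (invGen mem_invGen invGen_le conj_eq_of_commute commute_of_le_centralizer
  invol_mul)
open CfsgLib.DGroup (Op conj_mem odd_orderOf eq_one_of_inv_eq)

universe u

variable {G : Type u} [Group G] [Fintype G] [Fact (Nat.Prime 2)] {C : Ctx G}

/-- `[U, t]` is `⟨g⟩` when it centralises `d`. -/
theorem U1_le_zpowers {d : G} (T : Torus C d) (h : ∀ x ∈ C.U1, Commute x d) : C.U1 ≤ zpowers T.g :=
  (closure_le _).2 fun x hx => T.gen x hx.1 (h x (mem_invGen hx.1 hx.2)) hx.2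

/-- If `s` centralises `[U, t] = ⟨g⟩` there is the collapse. -/
theorem false_of_torus {p : ℕ} [Fact p.Prime] (E : C.Env p) {d : G} (hdD : d ∈ C.D1) (hd0 : d ∈ C.U0)
    (hd1 : d ≠ 1) (T : Torus C d) (h : C.U1 ≤ zpowers T.g) (hg : Commute C.s T.g) : False := by
  have key : ∀ x ∈ C.U, C.t * x * C.t = x⁻¹ → ∃ k : ℤ, T.g ^ k = x := fun x hx hxt =>
    mem_zpowers_iff.1 (h (mem_invGen hx hxt))
  refine false_of_cen E.hD2 hdD hd0 hd1 (fun x hx hxt => ?_) fun x hx y hy hxt hyt => ?_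
  · obtain ⟨k, rfl⟩ := key x hx hxt
    exact hg.zpow_right k
  · obtain ⟨i, rfl⟩ := key x hx hxt
    obtain ⟨j, rfl⟩ := key y hy hyt
    exact (Commute.refl T.g).zpow_zpow i j

/-- No reflection of the first class centralises the layer. -/
theorem Chief.false_of_fixed {p : ℕ} [Fact p.Prime] (S : C.Chief p) (E : C.Env p)
    (hY : S.Y ≤ C.D1) : False := by
  have htt := C.inv_t.1
  have hsY : C.s ∈ normalizer (S.Y : Set G) := S.norm C.s_mem_H
  have hYt : ∀ w ∈ S.Y, Commute w C.t := fun w hw => (C.mem_D1.1 (hY hw)).2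
  have h2 : ∀ w ∈ S.Y, Commute (C.s * C.s) w := by
    intro w hw
    have h1 := C.conj_t_conj_s w
    rw [conj_eq_of_commute htt (hYt _ (conj_mem hsY hw)), conj_eq_of_commute htt (hYt w hw)] at h1
    refine mul_inv_eq_iff_eq_mul.1 ?_
    rw [show C.s * C.s * w * (C.s * C.s)⁻¹ = C.s * (C.s * w * C.s⁻¹) * C.s⁻¹ by group, h1]
    group
  have hU1 : ∀ x ∈ C.U1, ∀ w ∈ S.Y, Commute x w :=
    commute_of_le_centralizer htt C.odd_U (fun x hx => S.norm (C.U_le_H (invGen_le _ _ hx))) hYt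
  by_cases hcen : ∀ w ∈ S.Y, Commute C.s w
  · -- `s` centralises the layer
    obtain ⟨d, hd, hdD, hd1⟩ := S.meet
    have hsd : C.s * d * C.s⁻¹ = d := by rw [(hcen d hd).eq, mul_inv_cancel_right]
    obtain ⟨T⟩ := S.torus E hd hdD hd1 (C.Eig_of_conj_eq (Or.inl hsd))
    have hT1 := U1_le_zpowers T fun x hx => hU1 x hx d hd
    rcases T.rot C.s (mem_zpowers _) (by rw [hsd]; exact mem_zpowers d) (h2 d hd) with hg | hg
    · exact false_of_torus E hdD (S.le_U0 hd) hd1 T hT1 hg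
    obtain ⟨hsz, -, hsg⟩ := hg
    have hYst : ∀ w ∈ S.Y, Commute w (C.s * C.t) := fun w hw => (hcen w hw).symm.mul_right (hYt w hw)
    have hU2 : ∀ x ∈ C.U2, ∀ w ∈ S.Y, Commute x w := commute_of_le_centralizer C.inv_st.1 C.odd_U
      (fun x hx => S.norm (C.U_le_H (invGen_le _ _ hx))) hYst
    have hdD2 : d ∈ C.flip.D1 := C.mem_D2.2 ⟨C.D1_le_U hdD, hYst d hd⟩
    obtain ⟨T2⟩ := E.flip.torus hdD2 (S.le_O hd) hd1 (C.Eig_of_conj_eq (Or.inl hsd))
    have hT2 : C.U2 ≤ zpowers T2.g := U1_le_zpowers T2 fun x hx => hU2 x hx d hd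
    rcases T2.rot C.s (mem_zpowers _) (by rw [hsd]; exact mem_zpowers d) (h2 d hd) with hg2 | hg2
    · exact false_of_torus E.flip hdD2 (C.flip_U0.symm ▸ S.le_U0 hd) hd1 T2 hT2 hg2
    have hsg2 : C.s * T2.g * C.s⁻¹ = T2.g⁻¹ := hg2.2.2
    -- `t` fixes `[U, s t]`, and `s t` fixes `[U, t]`
    have hst1 : Commute T.g (C.s * C.t) := CfsgLib.GW.CaseI.commute_of_conj_eq C.inv_st.1 (by
      rw [← C.conj_s_conj_t, T.g_inv, ← conj_inv, hsg, inv_inv])
    have hg2i : C.s * C.t * T2.g * (C.s * C.t) = T2.g⁻¹ := T2.g_inv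
    have ht2 : Commute T2.g C.t := CfsgLib.GW.CaseI.commute_of_conj_eq htt (by
      have h1 := C.conj_s_conj_t T2.g
      rw [hg2i, ← hsg2] at h1
      exact mul_left_cancel (mul_right_cancel h1))
    have hcom : Commute T.g T2.g := by
      have hn := C.U_le_normalizer_U1 T2.g_mem
      obtain ⟨i, hi⟩ := mem_zpowers_iff.1 (hT1 (conj_mem hn T.g_mem_U1))
      have h1 : C.s * C.t * (T2.g * T.g * T2.g⁻¹) * (C.s * C.t) = T2.g * T.g * T2.g⁻¹ := by
        rw [← hi, conj_eq_of_commute C.inv_st.1 (hst1.zpow_left i)]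
      exact (CfsgLib.GW.CaseI.commute_of_fixed C.inv_st.1 (odd_orderOf C.odd_U T2.g_mem) hg2i hst1
        (CfsgLib.GW.CaseI.commute_of_conj_eq C.inv_st.1 h1)).symm
    have hle : C.U0 ≤ zpowers T.g ⊔ zpowers T2.g := sup_le_sup hT1 hT2
    have hnorm : zpowers T.g ≤ normalizer (zpowers T2.g : Set G) := by
      refine zpowers_le.2 (centralizer_le_normalizer _ ?_)
      rw [zpowers_eq_closure, centralizer_closure]
      exact mem_centralizer_singleton_iff.2 hcom.eq
    obtain ⟨a, ha, b, hb, hab⟩ :=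
      (CfsgLib.Solvable.mem_sup_of_le_normalizer hnorm).1 (hle (S.le_U0 hd))
    have hat : C.t * a * C.t = a⁻¹ := T.zpowers_inverted ha
    have hbt : Commute b C.t := by
      obtain ⟨j, rfl⟩ := mem_zpowers_iff.1 hb; exact ht2.zpow_left j
    have haU : a ∈ C.U := zpowers_le.2 T.g_mem ha
    have ha1 : a = 1 := by
      have h1 : C.t * (a * b) * C.t = a * b := by
        rw [hab, conj_eq_of_commute htt (hYt d hd)]
      rw [invol_mul htt, hat, conj_eq_of_commute htt hbt] at h1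
      exact eq_one_of_inv_eq (mul_right_cancel h1) (odd_orderOf C.odd_U haU)
    rw [ha1, one_mul] at hab
    refine hd1 (eq_one_of_inv_eq ?_ (odd_orderOf C.odd_U (C.D1_le_U hdD)))
    have h1 : C.s * C.t * d * (C.s * C.t) = d⁻¹ := hab ▸ T2.zpowers_inverted hb
    rw [← h1, conj_eq_of_commute C.inv_st.1 (hYst d hd)]
  · -- an element inverted by `s`
    push Not at hcen
    obtain ⟨x, hx, hxs⟩ := hcen
    set d := x⁻¹ * (C.s * x * C.s⁻¹) with hd_def
    have hd : d ∈ S.Y := mul_mem (inv_mem hx) (conj_mem hsY hx)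
    have hd1 : d ≠ 1 := fun e => hxs (mul_inv_eq_iff_eq_mul.1 (inv_mul_eq_one.1 e).symm)
    have hsd : C.s * d * C.s⁻¹ = d⁻¹ := by
      rw [hd_def, ← conj_mul, show C.s * (C.s * x * C.s⁻¹) * C.s⁻¹ = C.s * C.s * x * (C.s * C.s)⁻¹ by group,
        (h2 x hx).eq, mul_inv_cancel_right]
      group
    obtain ⟨T⟩ := S.torus E hd (hY hd) hd1 (C.Eig_of_conj_eq (Or.inr hsd))
    rcases T.rot C.s (mem_zpowers _) (by rw [hsd]; exact inv_mem (mem_zpowers d)) (h2 d hd) with hg | hg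
    · exact false_of_torus E (hY hd) (S.le_U0 hd) hd1 T (U1_le_zpowers T fun y hy => hU1 y hy d hd) hg
    · rw [hg.2.1.eq, mul_inv_cancel_right] at hsd
      exact hd1 (eq_one_of_inv_eq hsd.symm (odd_orderOf C.odd_U (S.le_U hd)))

end CfsgLib.GW.Eight.Ctx
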