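import Cfsg.Agent.GW.Eight.FourCount
import Cfsg.Agent.GW.CaseI.PSLTorus
import Cfsg.Agent.DoubleCoverInvol.Small
import Mathlib.GroupTheory.SpecificGroups.Alternating.Centralizer

/-!
# The involution centralisers of `PSL₂(q)`, `q` odd, and of the alternating group of degree seven
-/

set_option autoImplicit false
set_option linter.style.haveILetI false
set_option linter.unusedSectionVars false

namespace CfsgLib.GW.Eight

open Subgroup
open CfsgLib.NormCyclic (Inv)
open CfsgLib.Linear.SmallSub (P2)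
open CfsgLib.DGroup (eq_one_of_sq eq_one_of_inv_eq)

/-- Conjugate elements have centralisers of the same order. -/
theorem card_centralizer_conj {G : Type*} [Group G] (g a : G) :
    Nat.card (centralizer ({g * a * g⁻¹} : Set G)) = Nat.card (centralizer ({a} : Set G)) := by
  rw [← card_map_of_injective (K := centralizer ({a} : Set G)) (f := (MulAut.conj g).toMonoidHom)
    (MulAut.conj g).injective]
  congr 2
  ext x
  rw [mem_centralizer_singleton_iff]
  constructor
  · intro h
    refine ⟨g⁻¹ * x * g, mem_centralizer_singleton_iff.2 ?_, by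
      show g * (g⁻¹ * x * g) * g⁻¹ = x; group⟩
    calc g⁻¹ * x * g * a = g⁻¹ * (x * (g * a * g⁻¹)) * g := by group
      _ = g⁻¹ * (g * a * g⁻¹ * x) * g := by rw [h]
      _ = a * (g⁻¹ * x * g) := by group
  · rintro ⟨y, hy, rfl⟩
    exact ((Commute.conj_iff g).2 (mem_centralizer_singleton_iff.1 hy : Commute y a)).eq

variable {F : Type} [Field F] [Fintype F]

/-- The centraliser of an involution of `PSL₂(q)`, `q` odd, has order `q - ε`. -/
theorem psl_card_centralizer (hodd : Odd (Fintype.card F)) {v : P2 F} (hv : Inv v) :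
    ∃ ε : ℤ, (ε = 1 ∨ ε = -1) ∧
      (Nat.card (centralizer ({v} : Set (P2 F))) : ℤ) = (Fintype.card F : ℤ) - ε := by
  obtain ⟨x, U, m, hx, hx1, -, -, -, hm, -, hcard, -, -⟩ :=
    CfsgLib.Linear.FourGroups.centralizer_shape (F := F) hodd
  obtain ⟨g, rfl⟩ := isConj_iff.1 (CfsgLib.Linear.FourGroups.involutions_conj hodd hx hx1 hv.1 hv.2)
  rw [card_centralizer_conj, hcard]
  have hpos : 0 < Fintype.card F := Fintype.card_pos
  split_ifs at hm with h
  · exact ⟨1, Or.inl rfl, by omega⟩
  · exact ⟨-1, Or.inr rfl, by omega⟩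

/-- Two commuting involutions of `PSL₂(q)` have no common centraliser of odd order. -/
theorem psl_pair (hodd : Odd (Fintype.card F)) {v w y : P2 F} (hv : Inv v) (hw : Inv w)
    (hne : v ≠ w) (hwv : Commute w v) (hyv : Commute y v) (hyw : Commute y w)
    (hy : Odd (orderOf y)) : y = 1 := by
  obtain ⟨x, U, m, hx, hx1, -, -, -, -, -, -, hinv, hout⟩ :=
    CfsgLib.Linear.FourGroups.centralizer_shape (F := F) hodd
  obtain ⟨g, hg⟩ := isConj_iff.1 (CfsgLib.Linear.FourGroups.involutions_conj hodd hv.1 hv.2 hx hx1)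
  have hy' : Odd (orderOf (g * y * g⁻¹)) := by rwa [CfsgLib.Invol.orderOf_conj_eq]
  have hyx : g * y * g⁻¹ ∈ centralizer ({x} : Set (P2 F)) :=
    mem_centralizer_singleton_iff.2 (hg ▸ ((Commute.conj_iff g).2 hyv).eq)
  have hwx : g * w * g⁻¹ ∈ centralizer ({x} : Set (P2 F)) :=
    mem_centralizer_singleton_iff.2 (hg ▸ ((Commute.conj_iff g).2 hwv).eq)
  have hyU : g * y * g⁻¹ ∈ U := by
    by_contra h
    exact (hout _ hyx h).2.1 (eq_one_of_sq (hout _ hyx h).1 hy')
  have hwU : g * w * g⁻¹ ∉ U := by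
    intro h
    rcases hinv _ h (hw.conj g).1 with e | e
    · exact (hw.conj g).2 e
    · exact hne ((MulAut.conj g).injective (hg.trans e.symm))
  have h1 := (hout _ hwx hwU).2.2 _ hyU
  rw [((Commute.conj_iff g).2 hyw).symm.eq, mul_inv_cancel_right] at h1
  exact conj_eq_one_iff.1 (eq_one_of_inv_eq h1.symm hy')

theorem alt7_involutions_conj {v w : alternatingGroup (Fin 7)} (hv : Inv v) (hw : Inv w) :
    IsConj v w := by
  obtain ⟨g, hg⟩ := CfsgLib.DoubleCoverInvol.exists_conj_of_involution (le_refl 7) hv.1 hv.2 hw.1 hw.2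
  exact isConj_iff.2 ⟨g, hg.symm⟩

theorem alt7_card_centralizer {v : alternatingGroup (Fin 7)} (hv : Inv v) :
    Nat.card (centralizer ({v} : Set (alternatingGroup (Fin 7)))) = 24 := by
  classical
  set s₀ : Equiv.Perm (Fin 7) := Equiv.swap 0 1 * Equiv.swap 2 3 with hs₀
  have hsign : s₀ ∈ alternatingGroup (Fin 7) := by
    rw [Equiv.Perm.mem_alternatingGroup, hs₀, map_mul, Equiv.Perm.sign_swap (by decide),
      Equiv.Perm.sign_swap (by decide)]
    decide
  set v₀ : alternatingGroup (Fin 7) := ⟨s₀, hsign⟩ with hv₀def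
  have htype : s₀.cycleType = {2, 2} := by
    rw [hs₀, Equiv.Perm.Disjoint.cycleType_mul,
      (Equiv.Perm.IsSwap.isCycle ⟨_, _, by decide, rfl⟩).cycleType,
      (Equiv.Perm.IsSwap.isCycle ⟨_, _, by decide, rfl⟩).cycleType,
      Equiv.Perm.support_swap (by decide), Equiv.Perm.support_swap (by decide),
      Finset.card_pair (by decide), Finset.card_pair (by decide)]
    · rfl
    intro w
    revert w
    decide
  have hord : ∀ g : alternatingGroup (Fin 7), (g : Equiv.Perm (Fin 7)).cycleType = {2, 2} → Inv g := by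
    intro g hg
    refine Inv.of_orderOf ?_
    rw [← Subgroup.orderOf_coe, ← Equiv.Perm.lcm_cycleType, hg]
    rfl
  have hv₀ : Inv v₀ := hord v₀ htype
  have hiff : ∀ g : alternatingGroup (Fin 7),
      (∃ k ∈ (⊤ : Subgroup (alternatingGroup (Fin 7))), k * v * k⁻¹ = g) ↔
        (g : Equiv.Perm (Fin 7)).cycleType = {2, 2} := by
    intro g
    constructor
    · rintro ⟨k, -, rfl⟩
      obtain ⟨l, hl⟩ := isConj_iff.1 (alt7_involutions_conj hv₀ hv)
      rw [← hl, Subgroup.coe_mul, Subgroup.coe_mul, Subgroup.coe_mul, Subgroup.coe_mul,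
        Subgroup.coe_inv, Subgroup.coe_inv, Equiv.Perm.cycleType_conj, Equiv.Perm.cycleType_conj]
      exact htype
    · intro h
      obtain ⟨k, hk⟩ := isConj_iff.1 (alt7_involutions_conj hv (hord g h))
      exact ⟨k, mem_top k, hk⟩
  have e := card_conjugates_mul (⊤ : Subgroup (alternatingGroup (Fin 7))) v
  rw [top_inf_eq, card_top, nat_card_alternatingGroup, Nat.card_fin] at e
  rw [Nat.card_congr (Equiv.subtypeEquivRight hiff), Nat.card_eq_fintype_card (α := {g // _}),
    Fintype.card_subtype, AlternatingGroup.card_of_cycleType] at e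
  norm_num [Nat.factorial, Multiset.toFinset] at e
  rw [Nat.card_eq_fintype_card]
  omega

end CfsgLib.GW.Eight
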