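import Cfsg.Agent.GW.Eight.Shape
import Cfsg.Agent.GW.Eight.BothFused
import Cfsg.Agent.GW.Eight.ModelGroups
import Cfsg.Agent.Bender.Commuting.Defs

/-!
# No proper subgroup properly over `C(z)` is fused in a four group when both fixed point groups are
nontrivial

Paper proof: `notes/gw_eight_helper24.md`, N1.  The shape equations and the ratio theorem leave
`k = |O(C(s t)) : M ∩ O(C(s t))| = 3` in the symmetric group of degree four, which is nested, or
`k = 1`; then the three cores over the second four group generate a group of odd order whose order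
forces `q = 3` and which is normalised by a cycle of either four group.
-/

set_option autoImplicit false
set_option linter.style.haveILetI false
set_option linter.unusedSectionVars false

namespace CfsgLib.GW.Eight

open Subgroup CfsgLib.DihPrincipal CfsgLib.GW
open CfsgLib.NormCyclic (Inv)
open CfsgLib.Linear.SmallSub (P2)
open CfsgLib.DGroup (coreIn odd_orderOf eq_one_of_sq eq_one_of_inv_eq conj_mem)

universe u

variable {G : Type u} [Group G] [Fintype G] [Fact (Nat.Prime 2)]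

/-- An element carrying a finite subgroup into itself normalises it. -/
theorem mem_normalizer_of_map_le {K : Subgroup G} {g : G} (h : ∀ x ∈ K, g * x * g⁻¹ ∈ K) :
    g ∈ normalizer (K : Set G) := by
  rw [mem_normalizer_iff_map_conj_eq]
  refine eq_of_le_of_card_ge ?_ (le_of_eq ?_)
  · rintro _ ⟨x, hx, rfl⟩
    exact h x hx
  · exact (card_map_of_injective (f := (MulAut.conj g).toMonoidHom) (MulAut.conj g).injective).symm

theorem psl_arith {K r u₁ h : ℕ} {q ε Qc : ℤ} (hr : 0 < r) (hu : 0 < u₁) (hh : 0 < h)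
    (hε : ε = 1 ∨ ε = -1) (hq : q - ε = 2 * h * u₁) (hQ : 2 * Qc = q * (q ^ 2 - 1))
    (he : (2 * h * u₁ * (K * (h * (u₁ * r) + K)) : ℤ) = r * r * Qc) :
    (K : ℤ) = r * (h * u₁ + ε) := by
  have hq' : q = 2 * h * u₁ + ε := by linarith
  have hee : ε * ε = 1 := by rcases hε with rfl | rfl <;> norm_num
  have h1 : (4 * h * u₁ : ℤ) * ((K : ℤ) * (h * (u₁ * r) + K) -
      r * r * (2 * h * u₁ + ε) * (h * u₁ + ε)) = 0 := by
    subst hq'
    linear_combination 2 * he + (r : ℤ) * r * hQ +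
      (r : ℤ) * r * (2 * (h : ℤ) * u₁ + ε) * hee
  have h2 := (mul_eq_zero.1 h1).resolve_left (by positivity)
  have h3 : ((K : ℤ) - r * (h * u₁ + ε)) * ((K : ℤ) + r * (2 * h * u₁ + ε)) = 0 := by
    linear_combination h2
  refine sub_eq_zero.1 ((mul_eq_zero.1 h3).resolve_right (ne_of_gt ?_))
  have : (0 : ℤ) < 2 * h * u₁ + ε := by
    have : (1 : ℤ) ≤ h * u₁ := by exact_mod_cast Nat.mul_pos hh hu
    rcases hε with rfl | rfl <;> nlinarith
  positivity

/-- The subgroups of a model group of odd order centralising a four group are trivial in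
`PSL₂(q)`. -/
theorem psl_range_one {F : Type} [Field F] [Fintype F] (hodd : Odd (Fintype.card F)) {x y : P2 F}
    (hx : Inv x) (hy : Inv y) (hyx : Commute y x) (hne : x ≠ y) {E : Subgroup (P2 F)}
    (hE : ∀ v ∈ E, Commute v x ∧ Commute v y ∧ Odd (orderOf v)) : Nat.card E = 1 := by
  rw [card_eq_one, eq_bot_iff_forall]
  exact fun v hv => psl_pair hodd hx hy hne hyx (hE v hv).1 (hE v hv).2.1 (hE v hv).2.2

namespace OneFused

variable {C : Ctx G} {M L : Subgroup G} (hM : OneFused C M)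
include hM

/-- The alternating group of degree seven does not occur. -/
theorem false_of_alt7 {f : L →* alternatingGroup (Fin 7)} (hf : ModelHom M L f) {g : G}
    (hg : g * C.z * g⁻¹ = C.s * C.t) : False := by
  obtain ⟨a, K, r, u₁, e, x, hx, hr, hu, -, -, hcent, ⟨y, hy, hyx, hne, E, hE, hEmem⟩, hae, -, hQ,
    -, -, q₀, hq₀, hcard⟩ := hM.params hf hg
  have h2520 : Nat.card (alternatingGroup (Fin 7)) = 2520 := by
    rw [nat_card_alternatingGroup, Nat.card_fin]; rfl
  have hn := C.data.hn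
  have hn4 : C.n = 4 := by
    rw [h2520, ← pow_succ'] at hcard
    obtain ⟨k, rfl⟩ := hq₀
    rcases Nat.lt_or_ge C.n 4 with h | h
    · rw [show C.n = 3 by omega] at hcard
      norm_num at hcard
      omega
    rcases Nat.lt_or_ge C.n 5 with h' | h'
    · omega
    obtain ⟨j, hj⟩ : ∃ j, C.n - 2 + 1 = 4 + j := ⟨C.n - 5, by omega⟩
    rw [hj, pow_add] at hcard
    norm_num at hcard
    have : 16 ∣ 2520 := ⟨2 ^ j * (2 * k + 1), by rw [hcard]; ring⟩
    omega
  have h4 : 2 ^ (C.n - 2) = 4 := by rw [hn4]; rfl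
  rw [h4, alt7_card_centralizer hx] at hcent
  have hu3 : u₁ = 3 := by omega
  rw [h4, hu3, h2520] at hQ
  rw [hu3] at hae
  have he3 : e ∣ 3 := by
    have h1 : Nat.card E ∣ 24 := by
      rw [← alt7_card_centralizer hx]
      exact card_dvd_of_le fun v hv => mem_centralizer_singleton_iff.2 (hEmem v hv).1.eq
    have h2 : Odd (Nat.card E) := by
      rw [← Nat.not_even_iff_odd]
      intro hev
      obtain ⟨v, hv⟩ := exists_prime_orderOf_dvd_card' 2 hev.two_dvd
      have := (hEmem v v.2).2.2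
      rw [Subgroup.orderOf_coe, hv] at this
      exact absurd this (by decide)
    rw [← hE]
    exact (Nat.Coprime.dvd_of_dvd_mul_left (k := Nat.card E) (m := 8)
      ((Nat.coprime_two_right.2 h2).pow_right 3) (by simpa using h1))
  have hrec : ∀ {X D : ℕ}, X * X = D * (r * r) → ¬ IsSquare D → False := by
    intro X D h hD
    have hd : r * r ∣ X * X := ⟨D, by rw [h, mul_comm]⟩
    obtain ⟨c, rfl⟩ : r ∣ X := by
      rw [← sq, ← sq] at hd
      exact (Nat.pow_dvd_pow_iff two_ne_zero).1 hd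
    refine hD ⟨c, Nat.eq_of_mul_eq_mul_right (show 0 < r * r by positivity) ?_⟩
    rw [← h]; ring
  rcases (Nat.dvd_prime Nat.prime_three).1 he3 with h | h <;> rw [h] at hae
  · have ha : a = 3 * r := by omega
    subst ha
    refine hrec (X := K + 6 * r) (D := 141) (by nlinarith) ?_
    rintro ⟨c, hc⟩
    have : c ≤ 11 := by nlinarith
    interval_cases c <;> omega
  · have ha : a = r := by omega
    subst ha
    refine hrec (X := K + 2 * a) (D := 109) (by nlinarith) ?_
    rintro ⟨c, hc⟩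
    have : c ≤ 10 := by nlinarith
    interval_cases c <;> omega

end OneFused

namespace Ctx

variable (C : Ctx G)

/-- In the nested configuration of the ratio three one of the fixed point groups is trivial. -/
theorem D2_eq_bot_of_three (hn : C.n = 3) (h : Nat.card C.D1 = 3 * Nat.card C.D2) : C.D2 = ⊥ := by
  haveI := C.simple
  rw [← C.fixST_eq]
  refine fixST_eq_bot C.data (nested_of_eight C.data hn ?_ ?_) C.conj <;>
    rw [C.fixST_eq, C.fixT_eq, h]
  · exact dvd_mul_left _ _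
  · have := Nat.card_pos (α := C.D2)
    omega

theorem card_D1_lt : Nat.card C.D1 < 4 * Nat.card C.D2 := by
  haveI := C.simple
  have := card_fixT_lt C.data C.conj
  rwa [C.fixT_eq, C.fixST_eq] at this

/-- The generators of the cores over the second four group. -/
def coreSet : Set G :=
  {x | Odd (orderOf x) ∧ (Commute x C.z ∨ Commute x (C.s * C.t) ∨ Commute x (C.z * (C.s * C.t)))}

/-- The group generated by the three cores over the second four group. -/
def coreGroup : Subgroup G := closure C.coreSet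

theorem mem_coreGroup {x : G} (ho : Odd (orderOf x)) (h : Commute x C.z ∨
    Commute x (C.s * C.t) ∨ Commute x (C.z * (C.s * C.t))) : x ∈ C.coreGroup :=
  subset_closure ⟨ho, h⟩

theorem U_le_coreGroup : C.U ≤ C.coreGroup := fun _ hx =>
  C.mem_coreGroup (C.mem_U.1 hx).2 (Or.inl (C.mem_H.1 (C.U_le_H hx)))

/-- An element permuting the three involutions of the second four group normalises the group of
their cores. -/
theorem mem_normalizer_coreGroup {r : G}
    (h : ∀ v ∈ ({C.z, C.s * C.t, C.z * (C.s * C.t)} : Set G),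
      r * v * r⁻¹ ∈ ({C.z, C.s * C.t, C.z * (C.s * C.t)} : Set G)) :
    r ∈ normalizer (C.coreGroup : Set G) := by
  refine mem_normalizer_of_map_le fun x hx => ?_
  induction hx using closure_induction with
  | mem x hx =>
    obtain ⟨ho, hc⟩ := hx
    have key : ∀ v ∈ ({C.z, C.s * C.t, C.z * (C.s * C.t)} : Set G), Commute x v →
        r * x * r⁻¹ ∈ C.coreGroup := by
      intro v hv hxv
      have h1 := (Commute.conj_iff r).2 hxv
      refine C.mem_coreGroup (by rwa [CfsgLib.Invol.orderOf_conj_eq]) ?_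
      have h2 := h v hv
      simp only [Set.mem_insert_iff, Set.mem_singleton_iff] at h2
      rcases h2 with e | e | e <;> rw [e] at h1
      exacts [Or.inl h1, Or.inr (Or.inl h1), Or.inr (Or.inr h1)]
    rcases hc with hc | hc | hc
    exacts [key _ (by simp) hc, key _ (by simp) hc, key _ (by simp) hc]
  | one => simp
  | inv x _ ih => simpa [mul_assoc] using inv_mem ih
  | mul x y _ _ ihx ihy => simpa [mul_assoc] using mul_mem ihx ihy

theorem V2_le_normalizer_coreGroup : C.V2 ≤ normalizer (C.coreGroup : Set G) := (closure_le _).2 (by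
  have hzw := C.commute_z_st
  rintro v (rfl | rfl) <;> refine C.mem_normalizer_coreGroup fun v hv => ?_ <;>
    simp only [Set.mem_insert_iff, Set.mem_singleton_iff] at hv ⊢ <;>
    rcases hv with rfl | rfl | rfl
  · exact Or.inl (by rw [mul_inv_cancel_right])
  · exact Or.inr (Or.inl (by rw [hzw.eq, mul_inv_cancel_right]))
  · exact Or.inr (Or.inr (by rw [((Commute.refl C.z).mul_right hzw).eq, mul_inv_cancel_right]))
  · exact Or.inl (by rw [hzw.symm.eq, mul_inv_cancel_right])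
  · exact Or.inr (Or.inl (by rw [mul_inv_cancel_right]))
  · exact Or.inr (Or.inr (by
      rw [(hzw.symm.mul_right (Commute.refl (C.s * C.t))).eq, mul_inv_cancel_right])))

theorem card_inf_centralizer_of_conj {K : Subgroup G} {g v : G} (hg : g * C.z * g⁻¹ = v)
    (hK : C.oc g ≤ K) (hodd : Odd (Nat.card K)) :
    Nat.card ↥(K ⊓ centralizer ({v} : Set G)) = Nat.card C.U := by
  rw [← C.card_oc g]
  congr 2
  ext x
  rw [mem_inf, mem_centralizer_singleton_iff, C.mem_oc, hg]
  exact ⟨fun ⟨hx, hc⟩ => ⟨hc, odd_orderOf hodd hx⟩,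
    fun ⟨hc, ho⟩ => ⟨hK (C.mem_oc.2 ⟨hg.symm ▸ hc, ho⟩), hc.eq⟩⟩

end Ctx

namespace OneFused

variable {C : Ctx G} {M L : Subgroup G} (hM : OneFused C M)
include hM

/-- The group of the cores lies in `M` once `O(C(s t))` does. -/
theorem coreGroup_le {g : G} (hg : g * C.z * g⁻¹ = C.s * C.t) (hle : C.oc g ≤ M) :
    C.coreGroup ≤ M := by
  refine (closure_le _).2 ?_
  rintro x ⟨ho, hc | hc | hc⟩
  · exact hM.le (C.mem_H.2 hc)
  · exact hle (C.mem_oc.2 ⟨hg.symm ▸ hc, ho⟩)
  · obtain ⟨p, hp, -, hpw⟩ := C.exists_zst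
    have h1 : p⁻¹ * x * p ∈ M := hle (C.mem_oc.2 ⟨by
      have := (Commute.conj_iff p⁻¹).2 hc
      rw [← hpw, inv_inv, show p⁻¹ * (p * (C.s * C.t) * p⁻¹) * p = C.s * C.t by group] at this
      exact hg.symm ▸ this, by
      have := CfsgLib.Invol.orderOf_conj_eq p⁻¹ x
      rw [inv_inv] at this
      rwa [this]⟩)
    simpa [mul_assoc] using mul_mem (mul_mem (hM.P_le hp) h1) (inv_mem (hM.P_le hp))

variable {Q : Type*} [Group Q] [Finite Q] {f : L →* Q} (hf : ModelHom M L f)
include hf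

/-- The group of the cores has odd order. -/
theorem odd_coreGroup {g : G} (hg : g * C.z * g⁻¹ = C.s * C.t) (hle : C.oc g ≤ M) :
    Odd (Nat.card C.coreGroup) := by
  set K := C.coreGroup with hK
  have hKM := hM.coreGroup_le hg hle
  have hgen : K ≤ C.U ⊔ L := (closure_le _).2 fun x hx =>
    hM.mem_sup_of_odd hf (hKM (subset_closure hx)) hx.1
  have hw : C.s * C.t ∉ K := fun h => hM.st_not_mem_sup hf (hgen h)
  obtain ⟨r, hr1, hr2, hr3⟩ := C.flip.exists_rho
  change r * C.z * r⁻¹ = C.s * C.t at hr1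
  change r * (C.s * C.t) * r⁻¹ = C.z * (C.s * C.t) at hr2
  change r * (C.z * (C.s * C.t)) * r⁻¹ = C.z at hr3
  have hrK : r ∈ normalizer (K : Set G) := C.mem_normalizer_coreGroup fun v hv => by
    simp only [Set.mem_insert_iff, Set.mem_singleton_iff] at hv ⊢
    rcases hv with rfl | rfl | rfl
    exacts [Or.inr (Or.inl hr1), Or.inr (Or.inr hr2), Or.inl hr3]
  have hz : C.z ∉ K := fun h => hw (hr1 ▸ conj_mem hrK h)
  have hzw : C.z * (C.s * C.t) ∉ K := fun h => hz (hr3 ▸ conj_mem hrK h)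
  have hV : ∀ v ∈ C.V2, v ∈ K → v = 1 := fun v hv hvK => by
    have hv4 : v = 1 ∨ v = C.z ∨ v = C.s * C.t ∨ v = C.z * (C.s * C.t) := C.flip.mem_V1.1 hv
    rcases hv4 with e | e | e | e
    exacts [e, absurd (e ▸ hvK) hz, absurd (e ▸ hvK) hw, absurd (e ▸ hvK) hzw]
  rw [← Nat.not_even_iff_odd]
  intro hev
  have hVn := C.V2_le_normalizer_coreGroup
  have hV4 : Nat.card C.V2 = 4 := by
    rw [show C.V2 = C.flip.V1 from rfl, ← C.flip.four_zero]
    exact (C.flip.four.four_klein 0).card_four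
  have hX := CfsgLib.Solvable.card_sup_of_disjoint hVn
    ((eq_bot_iff_forall _).2 fun v hv => hV v hv.1 hv.2)
  rw [hV4] at hX
  set X := C.V2 ⊔ K with hXdef
  obtain ⟨T₀, hT₀⟩ := ((IsPGroup.of_card (p := 2) (n := 2) (by rw [hV4]; rfl) :
    IsPGroup 2 C.V2).comap_subtype (K := X)).exists_le_sylow
  set T := (T₀ : Subgroup X).map X.subtype with hTdef
  have hTX : T ≤ X := map_subtype_le _
  have hVT : C.V2 ≤ T := fun v hv => ⟨⟨v, mem_sup_left hv⟩, hT₀ hv, rfl⟩
  have hTn : T ≤ normalizer (K : Set G) := hTX.trans (sup_le hVn le_normalizer)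
  have hT2 : IsPGroup 2 T := T₀.2.map _
  have hne : 2 ∣ Nat.card ↥(T ⊓ K) := by
    obtain ⟨k, hk⟩ := IsPGroup.iff_card.1 (hT2.to_le (inf_le_left : T ⊓ K ≤ T))
    rcases k with _ | k
    · exfalso
      have e := CfsgLib.Solvable.card_sup_mul_card_inf hTn
      rw [hk, pow_zero, mul_one] at e
      have hd := card_dvd_of_le (sup_le hTX le_sup_right : T ⊔ K ≤ X)
      rw [e, hX, hTdef, card_map_of_injective (subtype_injective _)] at hd
      have hT4 : Nat.card (T₀ : Subgroup X) ∣ 4 := Nat.dvd_of_mul_dvd_mul_right Nat.card_pos hd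
      have h8 : 8 ∣ Nat.card (T₀ : Subgroup X) * (T₀ : Subgroup X).index := by
        rw [(T₀ : Subgroup X).card_mul_index, hX]
        obtain ⟨c, hc⟩ := hev.two_dvd
        exact ⟨c, by rw [hc]; ring⟩
      have h8' : 8 ∣ Nat.card (T₀ : Subgroup X) := by
        refine Nat.Coprime.dvd_of_dvd_mul_right ?_ h8
        exact (Nat.prime_two.coprime_iff_not_dvd.2 T₀.not_dvd_index).pow_left 3
      have := Nat.le_of_dvd (by norm_num) (h8'.trans hT4)
      omega
    · exact ⟨2 ^ k, by rw [hk, pow_succ']⟩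
  have hfix := CfsgLib.Bender.Commuting.card_modEq_centralizer
    (IsPGroup.of_card (p := 2) (n := 2) (by rw [hV4]; rfl) : IsPGroup 2 C.V2)
    (fun x => x ∈ T ⊓ K) (fun v hv x hx =>
      ⟨mul_mem (mul_mem (hVT hv) hx.1) (T.inv_mem (hVT hv)), conj_mem (hVn hv) hx.2⟩)
  obtain ⟨y, hy, hy1⟩ : ∃ y : {x // x ∈ T ⊓ K ∧ x ∈ centralizer (C.V2 : Set G)},
      y ≠ ⟨1, one_mem _, one_mem _⟩ ∧ True := by
    haveI : Finite {x // x ∈ T ⊓ K ∧ x ∈ centralizer (C.V2 : Set G)} := Subtype.finite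
    haveI : Nontrivial {x // x ∈ T ⊓ K ∧ x ∈ centralizer (C.V2 : Set G)} := by
      rw [← Finite.one_lt_card_iff_nontrivial]
      have h0 : 0 < Nat.card {x // x ∈ T ⊓ K ∧ x ∈ centralizer (C.V2 : Set G)} :=
        haveI : Nonempty {x // x ∈ T ⊓ K ∧ x ∈ centralizer (C.V2 : Set G)} :=
          ⟨⟨1, one_mem _, one_mem _⟩⟩
        Nat.card_pos
      have h1 : Nat.card {x // x ∈ T ⊓ K} ≡ 0 [MOD 2] := Nat.modEq_zero_iff_dvd.2 hne
      have h2 := (Nat.modEq_zero_iff_dvd.1 (hfix.symm.trans h1))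
      omega
    exact ⟨_, (exists_ne _).choose_spec, trivial⟩
  obtain ⟨y, ⟨hyT, hyK⟩, hyC⟩ := y
  have hy1 : y ≠ 1 := fun e => hy (Subtype.ext e)
  obtain ⟨j, hj⟩ := IsPGroup.iff_orderOf.1 hT2 ⟨y, hyT⟩
  rw [Subgroup.orderOf_mk] at hj
  rcases j with _ | j
  · exact hy1 (orderOf_eq_one_iff.1 (by simpa using hj))
  set i := y ^ 2 ^ j with hi
  have hiI : Inv i := by
    refine Inv.of_orderOf ?_
    rw [hi, orderOf_pow_of_dvd (by positivity) (hj ▸ pow_dvd_pow 2 (Nat.le_succ j)), hj, pow_succ,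
      Nat.mul_div_cancel_left _ (by positivity)]
  have hcz : Commute i C.z :=
    (show Commute y C.z from (mem_centralizer_iff.1 hyC C.z (subset_closure (Or.inl rfl))).symm).pow_left _
  have hcw : Commute i (C.s * C.t) :=
    (show Commute y (C.s * C.t) from
      (mem_centralizer_iff.1 hyC _ (subset_closure (Or.inr rfl))).symm).pow_left _
  refine hiI.2 (hV i ?_ (pow_mem hyK _))
  rcases C.mem_V2_of_sq (C.mem_H.2 hcz) hcw hiI.1 with e | e | e | e <;> rw [e]
  exacts [one_mem _, subset_closure (Or.inl rfl), subset_closure (Or.inr rfl),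
    mul_mem (subset_closure (Or.inl rfl)) (subset_closure (Or.inr rfl))]

/-- The order of the group of the cores. -/
theorem card_coreGroup {g : G} (hg : g * C.z * g⁻¹ = C.s * C.t) (hle : C.oc g ≤ M) {K : ℕ}
    (hK : Nat.card C.D2 * K = Nat.card C.U) :
    Nat.card C.coreGroup = Nat.card C.U * (K * K) := by
  have hodd := hM.odd_coreGroup hf hg hle
  obtain ⟨p, hp, hpz, hpw⟩ := C.exists_zst
  have hg' : p * g * C.z * (p * g)⁻¹ = C.z * (C.s * C.t) := by
    rw [← hpw, ← hg]; group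
  have hVn := C.V2_le_normalizer_coreGroup
  have e1 := C.card_inf_centralizer_of_conj (v := C.z) (g := 1) (by group)
    (fun x hx => C.mem_coreGroup (C.mem_oc.1 hx).2 (Or.inl (by simpa using (C.mem_oc.1 hx).1))) hodd
  have e2 := C.card_inf_centralizer_of_conj hg
    (fun x hx => C.mem_coreGroup (C.mem_oc.1 hx).2 (Or.inr (Or.inl (hg ▸ (C.mem_oc.1 hx).1)))) hodd
  have e3 := C.card_inf_centralizer_of_conj hg'
    (fun x hx => C.mem_coreGroup (C.mem_oc.1 hx).2 (Or.inr (Or.inr (hg' ▸ (C.mem_oc.1 hx).1)))) hodd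
  have e4 : C.coreGroup ⊓ centralizer ({C.z, C.s * C.t} : Set G) = C.D2 := by
    ext x
    rw [mem_inf, mem_centralizer_iff, C.mem_D2, C.mem_U, C.mem_H]
    simp only [Set.mem_insert_iff, Set.mem_singleton_iff, forall_eq_or_imp, forall_eq]
    exact ⟨fun ⟨hx, h1, h2⟩ => ⟨⟨h1.symm, odd_orderOf hodd hx⟩, h2.symm⟩,
      fun ⟨⟨h1, ho⟩, h2⟩ => ⟨C.mem_coreGroup ho (Or.inl h1), h1.eq.symm, h2.eq.symm⟩⟩
  have h := card_four hodd C.inv_z C.inv_st C.commute_z_st C.st_ne_z.symm
    (hVn (subset_closure (Or.inl rfl))) (hVn (subset_closure (Or.inr rfl)))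
  rw [e1, e2, e3, e4] at h
  refine Nat.eq_of_mul_eq_mul_right (pow_pos (Nat.card_pos (α := C.D2)) 2) ?_
  rw [h, ← hK]; ring

/-- For `q = 3` the group of the cores is normalised by `C(z)` and by a cycle of each four group. -/
theorem false_of_q_three {g : G} (hg : g * C.z * g⁻¹ = C.s * C.t) (hle : C.oc g ≤ M) (hD1 : C.D1 ≠ ⊥)
    (hMtop : M ≠ ⊤) (hfour : ∀ x : Q, Inv x → Nat.card (centralizer ({x} : Set Q)) = 4)
    {r : ℕ} (hU : Nat.card C.coreGroup = Nat.card C.U * (r * r))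
    (hR : Nat.card ↥(coreIn M) =
      Nat.card ↥(coreIn M ⊓ centralizer ({C.z} : Set G)) * (r * r)) : False := by
  set K := C.coreGroup with hK
  set R := coreIn M with hRdef
  have hKodd := hM.odd_coreGroup hf hg hle
  have hRodd := hM.odd_core hf
  have hKM := hM.coreGroup_le hg hle
  obtain ⟨hz, ht, -, -, -⟩ := hM.mem_L hf
  -- `R ≤ K`
  have hRK : R ≤ K := by
    have hcent : ∀ v : G, (∀ x, Odd (orderOf x) → Commute x v → x ∈ K) →
        (R ⊓ K) ⊓ centralizer ({v} : Set G) = R ⊓ centralizer ({v} : Set G) := fun v hv =>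
      le_antisymm (inf_le_inf inf_le_left le_rfl) fun x hx =>
        ⟨⟨hx.1, hv x (odd_orderOf hRodd hx.1) (mem_centralizer_singleton_iff.1 hx.2)⟩, hx.2⟩
    have hpair : (R ⊓ K) ⊓ centralizer ({C.z, C.s * C.t} : Set G) =
        R ⊓ centralizer ({C.z, C.s * C.t} : Set G) :=
      le_antisymm (inf_le_inf inf_le_left le_rfl) fun x hx =>
        ⟨⟨hx.1, C.mem_coreGroup (odd_orderOf hRodd hx.1)
          (Or.inl (mem_centralizer_iff.1 hx.2 C.z (Set.mem_insert _ _)).symm)⟩, hx.2⟩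
    have hVn := C.V2_le_normalizer_coreGroup
    have hzn : C.z ∈ normalizer ((R ⊓ K : Subgroup G) : Set G) := CfsgLib.GW.CaseI.mem_normalizer_inf
      (hM.core_normal hf (hM.le C.z_mem_H)) (hVn (subset_closure (Or.inl rfl)))
    have hwn : C.s * C.t ∈ normalizer ((R ⊓ K : Subgroup G) : Set G) :=
      CfsgLib.GW.CaseI.mem_normalizer_inf (hM.core_normal hf (hM.le C.st_mem_H))
        (hVn (subset_closure (Or.inr rfl)))
    have h1 := card_four (hRodd.of_dvd_nat (card_dvd_of_le inf_le_left) :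
      Odd (Nat.card ↥(R ⊓ K))) C.inv_z C.inv_st C.commute_z_st C.st_ne_z.symm hzn hwn
    have h2 := card_four hRodd C.inv_z C.inv_st C.commute_z_st C.st_ne_z.symm
      (hM.core_normal hf (hM.le C.z_mem_H)) (hM.core_normal hf (hM.le C.st_mem_H))
    rw [hpair, hcent C.z fun x ho h => C.mem_coreGroup ho (Or.inl h),
      hcent (C.s * C.t) fun x ho h => C.mem_coreGroup ho (Or.inr (Or.inl h)),
      hcent (C.z * (C.s * C.t)) fun x ho h => C.mem_coreGroup ho (Or.inr (Or.inr h)), ← h2] at h1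
    exact inf_eq_left.1 (eq_of_le_of_card_ge inf_le_left
      (Nat.eq_of_mul_eq_mul_right (pow_pos Nat.card_pos 2) h1).ge)
  -- `K = U R`
  have hUn : C.U ≤ normalizer (R : Set G) := (C.U_le_H.trans hM.le).trans (hM.core_normal hf)
  have hKeq : C.U ⊔ R = K := by
    refine eq_of_le_of_card_ge (sup_le C.U_le_coreGroup hRK) (le_of_eq ?_)
    have e := CfsgLib.Solvable.card_sup_mul_card_inf hUn
    have hinf : C.U ⊓ R = R ⊓ centralizer ({C.z} : Set G) := le_antisymm
      (fun x hx => ⟨hx.2, C.U_le_H hx.1⟩)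
      fun x hx => ⟨C.mem_U_of_odd hx.2 (odd_orderOf hRodd hx.1), hx.1⟩
    rw [hinf, hR] at e
    refine Nat.eq_of_mul_eq_mul_right (Nat.card_pos (α := ↥(R ⊓ centralizer ({C.z} : Set G)))) ?_
    rw [hU, e]; ring
  -- `C(z)` normalises `K`
  have hHn : C.H ≤ normalizer (K : Set G) := fun x hx => hKeq ▸
    CfsgLib.GW.CaseI.mem_normalizer_sup (C.H_le_normalizer_U hx) (hM.core_normal hf (hM.le hx))
  -- the element moving `z` to `t` normalises `K`
  obtain ⟨m, hm, hmt⟩ := hM.fus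
  have hmU : ∀ x ∈ C.U, m * x * m⁻¹ ∈ K := by
    intro x hx
    have hxW : m * x * m⁻¹ ∈ C.oc m := ⟨x, hx, rfl⟩
    have hzW : C.z ∈ normalizer (C.oc m : Set G) := mem_normalizer_of_map_le fun y hy => by
      obtain ⟨h1, h2⟩ := C.mem_oc.1 hy
      refine C.mem_oc.2 ⟨?_, by rwa [CfsgLib.Invol.orderOf_conj_eq]⟩
      rw [hmt] at h1 ⊢
      have := (Commute.conj_iff C.z).2 h1
      rwa [C.commute_z_t.eq, mul_inv_cancel_right] at this
    obtain ⟨c, hc, i, hi, hcz, hiz, e⟩ :=
      CfsgLib.GW.CaseI.exists_split C.inv_z.1 (C.odd_oc m) hzW hxW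
    rw [e]
    refine mul_mem (C.mem_coreGroup (C.mem_oc.1 hc).2 (Or.inl hcz)) (hRK ?_)
    have hiM : i ∈ M := by
      obtain ⟨y, hy, rfl⟩ := hi
      exact mul_mem (mul_mem hm (hM.le (C.U_le_H hy))) (inv_mem hm)
    obtain ⟨hit, hio⟩ := C.mem_oc.1 hi
    rw [hmt] at hit
    have hiL : i ∈ L := mem_of_inverted (hf.normal hiM) hz C.inv_z.1 hio hiz
    refine (hf.ker ⟨i, hiL⟩).1 ?_
    have hord : orderOf (f ⟨i, hiL⟩) ∣ 4 := by
      rw [← hfour _ (hM.inv_map hf ht C.inv_t)]
      refine Subgroup.orderOf_dvd_natCard _ (mem_centralizer_singleton_iff.2 ?_)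
      rw [← map_mul, ← map_mul]
      exact congrArg f (Subtype.ext hit.eq)
    have hodd : Odd (orderOf (f ⟨i, hiL⟩)) :=
      hio.of_dvd_nat ((orderOf_map_dvd f ⟨i, hiL⟩).trans (Subgroup.orderOf_coe _).symm.dvd)
    exact orderOf_eq_one_iff.1 (Nat.Coprime.eq_one_of_dvd
      ((Nat.coprime_two_right.2 hodd).pow_right 2) hord)
  have hmn : m ∈ normalizer (K : Set G) := by
    rw [mem_normalizer_iff_map_conj_eq]
    refine eq_of_le_of_card_ge ?_ (le_of_eq ?_)
    · rw [← hKeq, Subgroup.map_sup]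
      refine sup_le ?_ ?_
      · rintro _ ⟨x, hx, rfl⟩
        exact hKeq.symm ▸ hmU x hx
      · rintro _ ⟨x, hx, rfl⟩
        exact mem_sup_right (conj_mem (hM.core_normal hf hm) hx)
    · exact (card_map_of_injective (f := (MulAut.conj m).toMonoidHom) (MulAut.conj m).injective).symm
  -- the normaliser fuses both four groups
  obtain ⟨r', hr1, hr2, hr3⟩ := C.flip.exists_rho
  change r' * C.z * r'⁻¹ = C.s * C.t at hr1
  change r' * (C.s * C.t) * r'⁻¹ = C.z * (C.s * C.t) at hr2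
  change r' * (C.z * (C.s * C.t)) * r'⁻¹ = C.z at hr3
  have hrK : r' ∈ normalizer (K : Set G) := C.mem_normalizer_coreGroup fun v hv => by
    simp only [Set.mem_insert_iff, Set.mem_singleton_iff] at hv ⊢
    rcases hv with rfl | rfl | rfl
    exacts [Or.inr (Or.inl hr1), Or.inr (Or.inr hr2), Or.inl hr3]
  set N := normalizer (K : Set G) with hN
  have hKbot : K ≠ ⊥ := fun h => hD1 (eq_bot_iff.2 (h ▸ fun x hx => C.U_le_coreGroup hx.1))
  have hNtop : N ≠ ⊤ := by
    intro h
    haveI := C.simple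
    rcases (normalizer_eq_top_iff.1 h).eq_bot_or_eq_top with h' | h'
    · exact hKbot h'
    · exact hMtop (eq_top_iff.2 (h' ▸ hKM))
  exact C.false_of_both hNtop hHn
    (C.fused_of_move (C.P_le_H.trans hHn) hmn hmt)
    (C.flip.fused_of_move (C.P_le_H.trans hHn) hrK hr1)

end OneFused

/-- The shape `PSL₂(q)` does not occur. -/
theorem OneFused.false_of_psl {C : Ctx G} {M L : Subgroup G} (hM : OneFused C M) (hMtop : M ≠ ⊤)
    (hD1 : C.D1 ≠ ⊥) (hD2 : C.D2 ≠ ⊥) {F : Type} [Field F] [Fintype F]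
    (hodd : Odd (Fintype.card F)) {f : L →* P2 F} (hf : ModelHom M L f) {g : G}
    (hg : g * C.z * g⁻¹ = C.s * C.t) : False := by
  obtain ⟨a, K, r, u₁, e, x, hx, hr, hu, ha, hK, hcent, ⟨y, hy, hyx, hne, E, hE, hEmem⟩, hae, hMc,
    hQ, hR, -, -, -, -⟩ := hM.params hf hg
  set h := 2 ^ (C.n - 2) with hh
  rw [← hE, psl_range_one hodd hx hy hyx hne hEmem, mul_one] at hae
  subst hae
  obtain ⟨ε, hε, hεc⟩ := psl_card_centralizer hodd hx
  rw [hcent] at hεc
  have hQ2 : 2 * (Nat.card (P2 F) : ℤ) =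
      (Fintype.card F : ℤ) * ((Fintype.card F : ℤ) ^ 2 - 1) := by
    have h1 := congrArg (Nat.cast : ℕ → ℤ) (CfsgLib.GW.CaseI.two_mul_card_psl (F := F) hodd)
    rw [Nat.cast_mul, Nat.cast_mul, Nat.cast_sub (Nat.one_le_pow _ _ Fintype.card_pos)] at h1
    exact_mod_cast h1
  have hhpos : 0 < h := Nat.two_pow_pos _
  have hupos : 0 < u₁ := hu.pos
  push_cast at hεc
  have hKv := psl_arith (K := K) hr hupos hhpos hε hεc.symm hQ2 (by exact_mod_cast hQ)
  -- the index of `O(C(s t))`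
  obtain ⟨k, hk⟩ : Nat.card ↥(M ⊓ C.oc g) ∣ Nat.card C.U :=
    C.card_oc g ▸ card_dvd_of_le inf_le_right
  rw [← hK] at hk
  have hkodd : Odd k := C.odd_U.of_dvd_nat ⟨Nat.card C.D2 * K, by rw [hk, mul_comm]⟩
  have h2 : (Nat.card C.D1 : ℤ) * (u₁ * r) = Nat.card C.D2 * K * k := by
    exact_mod_cast ha.trans hk
  have hlt : (Nat.card C.D1 : ℤ) < 4 * Nat.card C.D2 := by exact_mod_cast C.card_D1_lt
  have hd2 : (0 : ℤ) < Nat.card C.D2 := by exact_mod_cast Nat.card_pos
  have hr' : (0 : ℤ) < r := by exact_mod_cast hr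
  have h3 : ((Nat.card C.D1 : ℤ) * u₁) = Nat.card C.D2 * (k * (h * u₁ + ε)) := by
    refine mul_right_cancel₀ hr'.ne' ?_
    rw [hKv] at h2
    linear_combination h2
  have h4 : (k : ℤ) * (h * u₁ + ε) < 4 * u₁ := by
    refine lt_of_mul_lt_mul_left (a := (Nat.card C.D2 : ℤ)) ?_ hd2.le
    rw [← h3]
    calc (Nat.card C.D1 : ℤ) * u₁ < 4 * Nat.card C.D2 * u₁ :=
          mul_lt_mul_of_pos_right hlt (by exact_mod_cast hupos)
      _ = _ := by ring
  have hn := C.data.hn
  rcases (show k = 1 ∨ 3 ≤ k by obtain ⟨j, hj⟩ := hkodd; omega) with rfl | hk3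
  swap
  · -- the ratio three
    have hh2 : h = 2 := by
      by_contra hne'
      have h4h : 4 ≤ h := by
        rcases Nat.lt_or_ge C.n 4 with h' | h'
        · exact absurd (by rw [hh, show C.n = 3 by omega]; rfl) hne'
        · calc 4 = 2 ^ 2 := rfl
            _ ≤ h := Nat.pow_le_pow_right two_pos (by omega)
      have : (4 : ℤ) ≤ h := by exact_mod_cast h4h
      have : (3 : ℤ) ≤ k := by exact_mod_cast hk3
      have : (1 : ℤ) ≤ u₁ := by exact_mod_cast hupos
      have hX : 4 * (u₁ : ℤ) - 1 ≤ h * u₁ + ε := by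
        have := mul_le_mul_of_nonneg_right ‹(4 : ℤ) ≤ h› (by linarith : (0 : ℤ) ≤ u₁)
        rcases hε with rfl | rfl <;> linarith
      have := mul_le_mul ‹(3 : ℤ) ≤ k› hX (by linarith) (by linarith)
      linarith
    rw [hh2] at h4 h3
    push_cast at h4 h3
    have hu1 : u₁ = 1 ∧ ε = -1 ∧ k = 3 := by
      have : (3 : ℤ) ≤ k := by exact_mod_cast hk3
      have : (1 : ℤ) ≤ u₁ := by exact_mod_cast hupos
      rcases hε with rfl | rfl
      · exfalso
        have := mul_le_mul_of_nonneg_right ‹(3 : ℤ) ≤ k› (by linarith : (0 : ℤ) ≤ 2 * (u₁ : ℤ) + 1)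
        linarith
      · have h5 : u₁ = 1 := by
          have := mul_le_mul_of_nonneg_right ‹(3 : ℤ) ≤ k› (by linarith : (0 : ℤ) ≤ 2 * (u₁ : ℤ) + -1)
          omega
        subst h5
        norm_num at h4
        refine ⟨rfl, rfl, ?_⟩
        have h6 : k < 4 := by exact_mod_cast h4
        omega
    obtain ⟨rfl, rfl, rfl⟩ := hu1
    norm_num at h3
    refine hD2 (C.D2_eq_bot_of_three ?_ ?_)
    · rcases Nat.lt_or_ge C.n 4 with h' | h'
      · omega
      · have : 2 ^ 2 ≤ h := Nat.pow_le_pow_right two_pos (by omega)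
        omega
    · have : (Nat.card C.D1 : ℤ) = 3 * Nat.card C.D2 := by linarith
      exact_mod_cast this
  -- `O(C(s t))` lies in `M`
  rw [mul_one] at hk
  have hle : C.oc g ≤ M := by
    have h5 : M ⊓ C.oc g = C.oc g := eq_of_le_of_card_ge inf_le_right (by
      rw [C.card_oc, hk, hK])
    exact inf_eq_right.1 h5
  have hKU := hM.card_coreGroup hf hg hle hk.symm
  have hKpos : 0 < K := Nat.pos_of_ne_zero fun h0 => by
    rw [h0, mul_zero] at hk
    exact Nat.card_pos.ne' hk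
  have hKodd : Odd K := C.odd_U.of_dvd_nat ⟨Nat.card C.D2, by rw [hk, mul_comm]⟩
  have hd : K ∣ u₁ * r := by
    have h5 := card_dvd_of_le (hM.coreGroup_le hg hle)
    rw [hKU, hMc] at h5
    have h6 : K ∣ 4 * h * (h * (u₁ * r) + K) := by
      refine Nat.dvd_of_mul_dvd_mul_left (Nat.mul_pos (Nat.card_pos (α := C.U)) hKpos) ?_
      refine dvd_trans (dvd_of_eq ?_) (h5.trans (dvd_of_eq ?_)) <;> ring
    rw [mul_add, Nat.dvd_add_left (dvd_mul_left K _), ← mul_assoc] at h6
    refine Nat.Coprime.dvd_of_dvd_mul_left ?_ h6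
    rw [show 4 * h * h = 2 ^ (2 + (C.n - 2) + (C.n - 2)) by rw [pow_add, pow_add]; rfl]
    exact (Nat.coprime_two_right.2 hKodd).pow_right _
  obtain ⟨v, hv⟩ : ∃ v : ℕ, (v : ℤ) = h * u₁ + ε := ⟨(h * u₁ + ε : ℤ).toNat, Int.toNat_of_nonneg (by
    have : (1 : ℤ) ≤ h * u₁ := by exact_mod_cast Nat.mul_pos hhpos hupos
    rcases hε with rfl | rfl <;> linarith)⟩
  rw [← hv] at hKv
  have hKv' : K = r * v := by exact_mod_cast hKv
  rw [hKv', mul_comm u₁] at hd
  have hvu : v ≤ u₁ := Nat.le_of_dvd hupos (Nat.dvd_of_mul_dvd_mul_left hr hd)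
  have hq3 : h = 2 ∧ u₁ = 1 ∧ v = 1 := by
    have h2h : 2 ≤ h := C.data.two_le_half
    have hvu' : (v : ℤ) ≤ u₁ := by exact_mod_cast hvu
    have : 2 * u₁ ≤ h * u₁ := Nat.mul_le_mul_right _ h2h
    have hcases : h * u₁ + 1 = v ∨ h * u₁ = v + 1 := by
      rcases hε with rfl | rfl
      · exact Or.inl (by exact_mod_cast hv.symm)
      · exact Or.inr (by
          have : ((h * u₁ : ℕ) : ℤ) = ((v + 1 : ℕ) : ℤ) := by push_cast; linarith
          exact_mod_cast this)
    have hu1 : u₁ = 1 := by omega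
    subst hu1
    omega
  obtain ⟨hh2, hu1, rfl⟩ := hq3
  rw [mul_one] at hKv'
  subst hKv'
  refine hM.false_of_q_three hf hg hle hD1 hMtop (fun w hw => ?_) hKU hR
  obtain ⟨c, hc⟩ := isConj_iff.1 (hf.conj x w hx hw)
  rw [← hc, card_centralizer_conj, hcent, hu1, hh2]

/-- The data of the shape as a map from a subgroup of `G`. -/
theorem exists_modelHom {M : Subgroup G} (L : Subgroup ↥M) (hL : L.Normal)
    (hcore : Cfsg.oddCore ↥M ≤ L) {Q : Type*} [Group Q] (f : ↥L →* Q) (hs : Function.Surjective f)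
    (hk : f.ker = (Cfsg.oddCore ↥M).subgroupOf L) (hconj : ∀ a b : Q, Inv a → Inv b → IsConj a b)
    (heven : Even (Nat.card Q)) :
    ∃ f' : ↥(L.map M.subtype) →* Q, ModelHom M (L.map M.subtype) f' := by
  set e := L.equivMapOfInjective M.subtype M.subtype_injective with he
  refine ⟨f.comp e.symm.toMonoidHom, ⟨map_subtype_le _, fun m hm => ?_, map_mono hcore, ?_,
    fun x => ?_, hconj, heven⟩⟩
  · refine mem_normalizer_of_map_le ?_
    rintro _ ⟨x, hx, rfl⟩
    exact ⟨_, hL.conj_mem x hx ⟨m, hm⟩, rfl⟩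
  · intro q
    obtain ⟨x, rfl⟩ := hs q
    exact ⟨e x, by simp⟩
  · obtain ⟨y, rfl⟩ := e.surjective x
    show f (e.symm (e y)) = 1 ↔ _
    rw [e.symm_apply_apply, ← MonoidHom.mem_ker, hk, mem_subgroupOf]
    rw [show ((e y : ↥(L.map M.subtype)) : G) = ((y : ↥M) : G) from
      coe_equivMapOfInjective_apply _ _ _ _]
    exact ⟨fun h => ⟨_, h, rfl⟩, fun ⟨w, hw, e'⟩ => (M.subtype_injective e' : w = (y : ↥M)) ▸ hw⟩

/-- With both fixed point groups nontrivial no proper subgroup over `C(z)` moves `z` inside the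
first four group. -/
theorem Ctx.not_fused_of_le (C : Ctx G) (hD1 : C.D1 ≠ ⊥) (hD2 : C.D2 ≠ ⊥) {M : Subgroup G}
    (hM : M ≠ ⊤) (hle : C.H ≤ M) : ¬ Fused M C.z C.t := by
  intro hfus
  by_cases h2 : Fused M C.z (C.s * C.t)
  · exact C.false_of_both hM hle hfus h2
  have hO := C.oneFused hle hfus h2
  obtain ⟨g, hg⟩ := isConj_iff.1 C.conj.2
  obtain ⟨L, hLn, hcore, -, hshape⟩ := C.IH M hM C.t C.inv_t C.commute_z_t C.t_ne_z hfus
  rcases hshape with ⟨F, _, _, hodd, f, hs, hk⟩ | ⟨f, hs, hk⟩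
  · have heven : Even (Nat.card (P2 F)) := by
      have h := CfsgLib.GW.CaseI.two_mul_card_psl (F := F) hodd
      obtain ⟨j, hj⟩ := hodd
      rw [hj] at h
      have e : (2 * j + 1) ^ 2 - 1 = 4 * (j * j + j) := by
        rw [show (2 * j + 1) ^ 2 = 4 * (j * j + j) + 1 by ring]; omega
      rw [e] at h
      exact even_iff_two_dvd.2 ⟨(2 * j + 1) * (j * j + j), by
        have : 2 * Nat.card (P2 F) = 2 * (2 * ((2 * j + 1) * (j * j + j))) := by rw [h]; ring
        exact Nat.eq_of_mul_eq_mul_left two_pos this⟩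
    obtain ⟨f', hf'⟩ := exists_modelHom L hLn hcore f hs hk (fun a b ha hb =>
      CfsgLib.Linear.FourGroups.involutions_conj hodd ha.1 ha.2 hb.1 hb.2) heven
    exact hO.false_of_psl hM hD1 hD2 hodd hf' hg
  · obtain ⟨f', hf'⟩ := exists_modelHom L hLn hcore f hs hk (fun a b ha hb =>
      alt7_involutions_conj ha hb) (by
        rw [nat_card_alternatingGroup, Nat.card_fin]; decide)
    exact hO.false_of_alt7 hf' hg

/-- **No proper subgroup properly over `C(z)` is fused in the first four group.** -/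
theorem Ctx.not_fused_of_lt (C : Ctx G) (hD1 : C.D1 ≠ ⊥) (hD2 : C.D2 ≠ ⊥) {M : Subgroup G}
    (hM : M ≠ ⊤) (hlt : C.H < M) : ¬ Fused M C.z C.t :=
  C.not_fused_of_le hD1 hD2 hM hlt.le

end CfsgLib.GW.Eight
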