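import Cfsg.Agent.GW.Eight.Setting
import Cfsg.Agent.Invol.DihedralFusion

/-!
# Gorenstein–Walter, Sylow 2-subgroup of order at least eight: fusion in the first four group

An element `rho` permutes the involutions `z`, `t`, `z * t` of `V1` cyclically.  The second four
group is reached through `Ctx.flip`.
-/

set_option autoImplicit false
set_option linter.style.haveILetI false
set_option linter.unusedSectionVars false

namespace CfsgLib.GW.Eight.Ctx

open Subgroup CfsgLib.DihPrincipal CfsgLib.GW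
open CfsgLib.NormCyclic (Inv)

universe u

variable {G : Type u} [Group G] [Fintype G] [Fact (Nat.Prime 2)] (C : Ctx G)
include C

theorem four_le_pow : 2 ≤ 2 ^ (C.n - 2) := by
  calc 2 = 2 ^ 1 := rfl
    _ ≤ 2 ^ (C.n - 2) := Nat.pow_le_pow_right two_pos (by have := C.data.hn; omega)

theorem card_P : Nat.card (C.P : Subgroup G) = 4 * 2 ^ (C.n - 2) := by
  obtain ⟨e⟩ := C.data.iso
  rw [Nat.card_congr e.toEquiv, DihedralGroup.nat_card, CfsgLib.DihPrincipal.two_mul_pow C.data.hn]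
  ring

theorem exists_cases {g : G} (hg : g ∈ (C.P : Subgroup G)) :
    ∃ i : ℤ, g = C.s ^ i ∨ g = C.s ^ i * C.t := by
  rcases C.data.cases g hg with h | h
  · obtain ⟨i, hi⟩ := mem_zpowers_iff.1 h
    exact ⟨i, Or.inl hi.symm⟩
  · obtain ⟨i, hi⟩ := mem_zpowers_iff.1 h
    exact ⟨i, Or.inr (by rw [hi, mul_assoc, C.inv_t.1, mul_one])⟩

theorem t_not_mem_zpowers : C.t ∉ zpowers C.s := by
  intro h
  have hle : (C.P : Subgroup G) ≤ zpowers C.s := fun g hg => by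
    obtain ⟨i, rfl | rfl⟩ := C.exists_cases hg
    · exact zpow_mem (mem_zpowers _) i
    · exact mul_mem (zpow_mem (mem_zpowers _) i) h
  have h1 := card_le_of_le hle
  rw [Nat.card_zpowers, C.data.ordσ, C.card_P, CfsgLib.DihPrincipal.two_mul_pow C.data.hn] at h1
  have := C.four_le_pow
  omega

/-- The Sylow 2-subgroup as a `DihFour` datum. -/
noncomputable def four : CfsgLib.DihFour.Data (C.P : Subgroup G) where
  h := 2 ^ (C.n - 2)
  k := C.n - 2
  r := C.s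
  s := C.t
  hh := rfl
  hr := by rw [C.data.ordσ, CfsgLib.DihPrincipal.two_mul_pow C.data.hn]
  hs := C.data.ordτ
  hsr := C.data.rel
  rS := C.data.σ_mem
  sS := C.data.τ_mem
  cases g hg := C.exists_cases hg
  card_eq := C.card_P
  s_not := C.t_not_mem_zpowers

theorem four_z : C.four.z = C.z := by
  show C.s ^ ((2 ^ (C.n - 2) : ℕ) : ℤ) = C.s ^ 2 ^ (C.n - 2)
  rw [zpow_natCast]

theorem four_zero : C.four.four 0 = C.V1 := by
  show Subgroup.closure _ = Subgroup.closure _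
  rw [C.four_z]
  simp [four]

theorem z_mem_V1 : C.z ∈ C.V1 := subset_closure (Or.inl rfl)

theorem t_mem_V1 : C.t ∈ C.V1 := subset_closure (Or.inr rfl)

theorem commute_zt : Commute C.z C.t := (C.mem_H.1 C.t_mem_H).symm

theorem z_ne_t : C.z ≠ C.t := fun h =>
  C.t_not_mem_zpowers (h ▸ pow_mem (mem_zpowers _) _)

theorem inv_zt : Inv (C.z * C.t) := C.inv_z.mul C.inv_t C.commute_zt C.z_ne_t

theorem mem_V1 {x : G} : x ∈ C.V1 ↔ x = 1 ∨ x = C.z ∨ x = C.t ∨ x = C.z * C.t := by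
  constructor
  · intro hx
    rw [← C.four_zero] at hx
    rcases C.four.mem_four hx inferInstance with h | h | h | h
    · exact Or.inl h
    · exact Or.inr (Or.inl (h.trans C.four_z))
    · exact Or.inr (Or.inr (Or.inl (by simpa [four] using h)))
    · refine Or.inr (Or.inr (Or.inr ?_))
      rw [h]
      show C.s ^ ((0 : ℤ) + ((2 ^ (C.n - 2) : ℕ) : ℤ)) * C.t = C.s ^ 2 ^ (C.n - 2) * C.t
      rw [zero_add, zpow_natCast]
  · rintro (rfl | rfl | rfl | rfl)
    exacts [one_mem _, C.z_mem_V1, C.t_mem_V1, mul_mem C.z_mem_V1 C.t_mem_V1]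

/-- The square root of `z` in `⟨s⟩` swaps the two reflections of `V1`. -/
theorem exists_swap : ∃ q ∈ (C.P : Subgroup G), q * C.z * q⁻¹ = C.z ∧
    q * C.t * q⁻¹ = C.z * C.t ∧ q * (C.z * C.t) * q⁻¹ = C.t := by
  obtain ⟨m, hm⟩ : (2 : ℕ) ∣ 2 ^ (C.n - 2) := dvd_pow_self 2 (by have := C.data.hn; omega)
  refine ⟨C.s ^ m, pow_mem C.data.σ_mem _, ?_, ?_, ?_⟩
  · rw [(C.mem_H.1 (pow_mem C.s_mem_H m)).eq, mul_inv_cancel_right]
  all_goals
    have hz : C.s ^ m * C.z * (C.s ^ m)⁻¹ = C.z := by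
      rw [(C.mem_H.1 (pow_mem C.s_mem_H m)).eq, mul_inv_cancel_right]
    have ht : C.t * C.s ^ m * C.t⁻¹ = (C.s ^ m)⁻¹ := by rw [← conj_pow, C.data.rel, inv_pow]
    have e : C.s ^ m * C.t * (C.s ^ m)⁻¹ = C.z * C.t := by
      rw [← ht, show C.s ^ m * C.t * (C.t * C.s ^ m * C.t⁻¹) = C.s ^ m * (C.t * C.t) * C.s ^ m * C.t⁻¹ by group,
        C.inv_t.1, mul_one, ← pow_add, C.inv_t.inv_eq, ← two_mul, ← hm]
      rfl
  · exact e
  · rw [← conj_mul, hz, e, ← mul_assoc, C.inv_z.1, one_mul]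

/-- An element permuting the involutions of `V1` cyclically. -/
theorem exists_rho : ∃ r : G, r * C.z * r⁻¹ = C.t ∧ r * C.t * r⁻¹ = C.z * C.t ∧
    r * (C.z * C.t) * r⁻¹ = C.z := by
  suffices h : ∃ r : G, r * C.z * r⁻¹ = C.t ∧ r * C.t * r⁻¹ = C.z * C.t by
    obtain ⟨r, h1, h2⟩ := h
    refine ⟨r, h1, h2, ?_⟩
    rw [← conj_mul, h1, h2, ← mul_assoc, ← C.commute_zt.eq, mul_assoc, C.inv_t.1, mul_one]
  obtain ⟨g, hg⟩ := isConj_iff.1 C.conj.1
  -- move `V1` into `C(z)` and then into the Sylow subgroup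
  have hH : ∀ x ∈ C.V1, g⁻¹ * x * g ∈ C.H := by
    intro x hx
    have hxt : Commute x C.t := by
      rcases C.mem_V1.1 hx with rfl | rfl | rfl | rfl
      exacts [Commute.one_left _, C.commute_zt, Commute.refl _, C.commute_zt.mul_left (Commute.refl _)]
    refine C.mem_H.2 ?_
    have h1 := (Commute.conj_iff g⁻¹).2 hxt
    rw [inv_inv] at h1
    rwa [show g⁻¹ * C.t * g = C.z by rw [← hg]; simp only [z]; group] at h1
  set W := C.V1.map (MulAut.conj g⁻¹).toMonoidHom with hW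
  have hWH : W ≤ C.H := by
    rintro _ ⟨x, hx, rfl⟩
    simpa using hH x hx
  have hV1 : IsPGroup 2 C.V1 := by
    refine IsPGroup.of_card (n := 2) ?_
    rw [← C.four_zero, (C.four.four_klein 0).card_four]; norm_num
  let PH : Sylow 2 C.H := C.P.subtype C.P_le_H
  obtain ⟨R, hR⟩ := ((hV1.map (MulAut.conj g⁻¹).toMonoidHom).comap_subtype (K := C.H)).exists_le_sylow
  obtain ⟨c, hc⟩ := MulAction.exists_smul_eq C.H R PH
  have hcP : ∀ x ∈ C.V1, (c : G) * (g⁻¹ * x * g) * (c : G)⁻¹ ∈ (C.P : Subgroup G) := by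
    intro x hx
    have h1 : c * ⟨g⁻¹ * x * g, hH x hx⟩ * c⁻¹ ∈ (PH : Subgroup C.H) := by
      rw [← hc]
      refine ⟨⟨g⁻¹ * x * g, hH x hx⟩, hR ?_, rfl⟩
      exact ⟨x, hx, by simp⟩
    exact h1
  set y := (c : G) * g⁻¹ with hy
  have hyt : y * C.t * y⁻¹ = C.z := by
    have hcz := (C.mem_H.1 c.2).eq
    rw [hy, show (c : G) * g⁻¹ * C.t * ((c : G) * g⁻¹)⁻¹ = (c : G) * (g⁻¹ * C.t * g) * (c : G)⁻¹ by group,
      show g⁻¹ * C.t * g = C.z by rw [← hg]; simp only [z]; group, hcz, mul_inv_cancel_right]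
  set W' := C.V1.map (MulAut.conj y).toMonoidHom with hW'
  have hW'P : W' ≤ (C.P : Subgroup G) := by
    rintro _ ⟨x, hx, rfl⟩
    have := hcP x hx
    simpa [hy, mul_assoc] using this
  -- the other reflection in the image
  set w := y * C.z * y⁻¹ with hw
  have hwP : w ∈ (C.P : Subgroup G) := hW'P ⟨C.z, C.z_mem_V1, rfl⟩
  have hwi : Inv w := ⟨by rw [hw, conj_mul, C.inv_z.1, mul_one, mul_inv_cancel],
    fun e => C.inv_z.2 (conj_eq_one_iff.1 e)⟩
  have hwz : w ≠ C.z := fun e => C.z_ne_t ((MulAut.conj y).injective (e.trans hyt.symm))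
  obtain ⟨j, hj⟩ : ∃ j : ℤ, w = C.s ^ j * C.t := by
    obtain ⟨i, h | h⟩ := C.exists_cases hwP
    · exfalso
      rcases C.four.rpow_inv_of_sq (i := i) (by show C.s ^ i * C.s ^ i = 1; rw [← h]; exact hwi.1) with e | e
      · exact hwi.2 (h.trans e)
      · exact hwz ((h.trans e).trans C.four_z)
    · exact ⟨i, h⟩
  -- rotate the image onto a standard four group
  obtain ⟨l, hl⟩ : ∃ l : ℤ, j + 2 * l = 0 ∨ j + 2 * l = 1 := by
    rcases Int.even_or_odd j with ⟨e, rfl⟩ | ⟨e, rfl⟩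
    · exact ⟨-e, Or.inl (by ring)⟩
    · exact ⟨-e, Or.inr (by ring)⟩
  set x := C.s ^ l * y with hx
  have hxt : x * C.t * x⁻¹ = C.z := by
    have hsl := (C.mem_H.1 (zpow_mem C.s_mem_H l)).eq
    rw [hx, show C.s ^ l * y * C.t * (C.s ^ l * y)⁻¹ = C.s ^ l * (y * C.t * y⁻¹) * (C.s ^ l)⁻¹ by group,
      hyt, hsl, mul_inv_cancel_right]
  have hxz : x * C.z * x⁻¹ = C.s ^ (j + 2 * l) * C.t := by
    rw [hx, show C.s ^ l * y * C.z * (C.s ^ l * y)⁻¹ = C.s ^ l * w * (C.s ^ l)⁻¹ by rw [hw]; group, hj]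
    exact C.four.rot_conj_refl j l
  rcases hl with hl | hl
  swap
  · exfalso
    refine C.four.four_not_conj (Nat.not_even_iff_odd.1 fun he => C.P.not_dvd_index he.two_dvd)
      (dvd_pow_self 2 (by have := C.data.hn; omega)) ⟨x, ?_⟩
    rw [hl, zpow_one] at hxz
    rw [C.four_zero]
    refine eq_of_le_of_card_ge ?_ ?_
    · rw [V1, MonoidHom.map_closure, closure_le]
      rintro _ ⟨v, rfl | rfl, rfl⟩
      · show x * C.z * x⁻¹ ∈ C.four.four 1
        rw [hxz]; exact subset_closure (Or.inr (by simp [four]))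
      · show x * C.t * x⁻¹ ∈ C.four.four 1
        rw [hxt, ← C.four_z]; exact subset_closure (Or.inl rfl)
    · rw [card_map_of_injective (f := (MulAut.conj x).toMonoidHom) (MulAut.conj x).injective,
        ← C.four_zero, (C.four.four_klein 1).card_four, (C.four.four_klein 0).card_four]
  rw [hl, zpow_zero, one_mul] at hxz
  -- `x` exchanges `z` and `t`
  obtain ⟨q, -, hqz, hqt, hqzt⟩ := C.exists_swap
  have hxzt : x * (C.z * C.t) * x⁻¹ = C.z * C.t := by rw [← conj_mul, hxz, hxt, C.commute_zt.symm.eq]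
  refine ⟨(q * x)⁻¹, ?_, ?_⟩
  · rw [inv_inv]
    calc (q * x)⁻¹ * C.z * (q * x) = x⁻¹ * (q⁻¹ * (q * C.z * q⁻¹) * q) * x := by rw [hqz]; group
      _ = x⁻¹ * (x * C.t * x⁻¹) * x := by rw [hxt]; group
      _ = C.t := by group
  · rw [inv_inv]
    calc (q * x)⁻¹ * C.t * (q * x) = x⁻¹ * (q⁻¹ * (q * (C.z * C.t) * q⁻¹) * q) * x := by rw [hqzt]; group
      _ = x⁻¹ * (x * (C.z * C.t) * x⁻¹) * x := by rw [hxzt]; group
      _ = C.z * C.t := by group

/-- `C(V1) = V1 × D1` on elements of odd order. -/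
theorem mem_D1_of_odd {x : G} (hz : Commute x C.z) (ht : Commute x C.t) (ho : Odd (orderOf x)) :
    x ∈ C.D1 :=
  C.mem_D1.2 ⟨C.mem_U_of_odd (C.mem_H.2 hz) ho, ht⟩

theorem odd_D1 : Odd (Nat.card C.D1) := C.odd_U.of_dvd_nat (card_dvd_of_le inf_le_left)

/-- An element permuting `z`, `t`, `z * t` normalises `D1`. -/
theorem conj_mem_D1 {r : G} (h1 : r * C.z * r⁻¹ = C.t) (h3 : r * (C.z * C.t) * r⁻¹ = C.z)
    {x : G} (hx : x ∈ C.D1) : r * x * r⁻¹ ∈ C.D1 := by
  obtain ⟨hxU, hxt⟩ := C.mem_D1.1 hx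
  have hxz : Commute x C.z := C.mem_H.1 (C.U_le_H hxU)
  refine C.mem_D1_of_odd ?_ ?_ (by
    rw [CfsgLib.Invol.orderOf_conj_eq]; exact CfsgLib.DGroup.odd_orderOf C.odd_U hxU)
  · have := (Commute.conj_iff r).2 (hxz.mul_right hxt); rwa [h3] at this
  · have := (Commute.conj_iff r).2 hxz; rwa [h1] at this

end CfsgLib.GW.Eight.Ctx
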