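import Cfsg.Agent.GW.Eight.HeisenbergPlane
import Cfsg.Agent.GW.Eight.FixedLine

/-!
# Gorenstein–Walter, `|S| ≥ 8`: the layer with central part

A rotation `r` with `r * r` centralising the layer centralises it or inverts `d`; in the second case
the outer torus gives an element whose order divides `k`, too small. For `r = s` the same happens in
the second class, and a line fixed by `s` is impossible.
-/

set_option autoImplicit false
set_option linter.style.haveILetI false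
set_option linter.unusedSectionVars false

namespace CfsgLib.GW.Eight.Ctx

open Subgroup
open CfsgLib.GW.CaseI (invGen mem_invGen conj_eq_of_commute invol_mul invol_inv commute_of_conj_eq
  conj_invol_eq)
open CfsgLib.DGroup (conj_mem conj_mem' odd_orderOf eq_one_of_inv_eq eq_one_of_sq)

universe u

variable {G : Type u} [Group G] [Fintype G] [Fact (Nat.Prime 2)] {C : Ctx G}

/-- An element of order at least `2 u - 1`, prime to `u`, does not divide `p k u`. -/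
theorem not_dvd_pku {p k u M : ℕ} (hk : Odd k) (hkp : k ≤ p) (hp : 1 < p) (hu : Odd u) (hpu : p ∣ u)
    (hMu : 2 * u ≤ M + 1) (hMc : M.Coprime u) : ¬ M ∣ p * k * u := by
  intro h
  rw [mul_comm p k, mul_assoc] at h
  have h1 := ((Nat.Coprime.of_dvd_right hpu hMc).mul_right hMc).dvd_of_dvd_mul_right h
  have := Nat.le_of_dvd hk.pos h1
  have := Nat.le_of_dvd hu.pos hpu
  omega

theorem commute_z_pow {r : G} (hr : r ∈ zpowers C.s) {c : G} (hc : Commute C.s c) : Commute r c := by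
  obtain ⟨i, rfl⟩ := mem_zpowers_iff.1 hr
  exact hc.zpow_left i

/-- Conjugation by `t` inverts the rotations. -/
theorem conj_t_rot {r : G} (hr : r ∈ zpowers C.s) : C.t * r * C.t = r⁻¹ := by
  obtain ⟨i, rfl⟩ := mem_zpowers_iff.1 hr
  refine inverted_zpow C.inv_t.1 ?_ i
  rw [C.t_mul_s, mul_assoc, C.inv_t.1, mul_one]

namespace Chief

variable {p : ℕ} [Fact p.Prime] (S : C.Chief p)
include S

/-- A torus of an element of the layer is centralised by a rotation normalising its line. -/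
theorem commute_torus {d : G} (hd : d ∈ S.Y) (T : Torus C d) {z : G} (hz : z ∈ S.C0) (hz1 : z ≠ 1)
    {r : G} (hr : r ∈ zpowers C.s) (hrd : r * d * r⁻¹ ∈ zpowers d) (hr2 : Commute (r * r) d) :
    Commute r T.g := by
  rcases T.rot r hr hrd hr2 with h | ⟨-, -, h⟩
  · exact h
  exfalso
  obtain ⟨i, hi⟩ := mem_zpowers_iff.1 (T.gen z (S.le_U (S.C0_le hz))
    (S.commute_C0 hz (S.le_U0 hd)).symm (S.inverted_C0 hz))
  have h1 : r * z * r⁻¹ = z⁻¹ := by rw [← hi, ← conj_zpow, h, inv_zpow]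
  rw [(commute_z_pow hr (S.commute_s_C0 hz)).eq, mul_inv_cancel_right] at h1
  exact hz1 (eq_one_of_inv_eq h1.symm (odd_orderOf C.odd_U (S.le_U (S.C0_le hz))))

theorem p_dvd_u {d : G} (hd : d ∈ S.Y) (T : Torus C d) {z : G} (hz : z ∈ S.C0) (hz1 : z ≠ 1) :
    p ∣ T.u₁ := by
  have h := T.gen z (S.le_U (S.C0_le hz)) (S.commute_C0 hz (S.le_U0 hd)).symm (S.inverted_C0 hz)
  rw [← S.orderOf_eq (S.C0_le hz) hz1, ← T.g_order, ← Nat.card_zpowers T.g]
  exact Subgroup.orderOf_dvd_natCard _ h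

variable {S}

/-- A rotation whose square centralises the layer centralises it or inverts `d`. -/
theorem rot_cases {d y : G} (Pl : S.Plane d y) {r : G} (hr : r ∈ zpowers C.s)
    (h2 : ∀ v ∈ S.Y, Commute (r * r) v) :
    (∀ v ∈ S.Y, Commute r v) ∨ r * d * r⁻¹ = d⁻¹ := by
  have hrY : ∀ {v : G}, v ∈ S.Y → r * v * r⁻¹ ∈ S.Y := fun hv =>
    conj_mem (S.norm (zpowers_le.2 C.s_mem_H hr)) hv
  have hrC : ∀ c ∈ S.C0, Commute r c := fun c hc => commute_z_pow hr (S.commute_s_C0 hc)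
  have hrt := conj_t_rot hr
  have htc : ∀ v ∈ S.Y, C.t * (r * v * r⁻¹) * C.t = r * (C.t * v * C.t) * r⁻¹ := by
    intro v hv
    have hv' : C.t * v * C.t ∈ S.Y := by
      have h := conj_mem (S.norm C.t_mem_H) hv
      rwa [C.inv_t.inv_eq] at h
    rw [invol_mul C.inv_t.1, invol_mul C.inv_t.1, invol_inv C.inv_t.1, hrt, inv_inv]
    calc r⁻¹ * (C.t * v * C.t) * r
        = r⁻¹ * ((C.t * v * C.t) * (r * r)) * r⁻¹ := by group
      _ = r⁻¹ * ((r * r) * (C.t * v * C.t)) * r⁻¹ := by rw [(h2 _ hv').eq]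
      _ = _ := by group
  have hdt : C.t * d * C.t = d := conj_eq_of_commute C.inv_t.1 (C.mem_D1.1 Pl.hdD).2
  have hd' : r * d * r⁻¹ ∈ zpowers d := Pl.fix _ (hrY Pl.hd) (C.mem_D1.2 ⟨S.le_U (hrY Pl.hd),
    commute_of_conj_eq C.inv_t.1 (by rw [htc d Pl.hd, hdt])⟩)
  by_cases hx : d * (r * d * r⁻¹) = 1
  · exact Or.inr (eq_inv_of_mul_eq_one_right hx)
  refine Or.inl ?_
  -- `r` fixes a generator of `⟨d⟩`
  have hrd : Commute r d := by
    set x := d * (r * d * r⁻¹) with hxdef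
    have hxr : r * x * r⁻¹ = x := by
      have e : r * x * r⁻¹ = r * d * r⁻¹ * (r * r * d * (r * r)⁻¹) := by rw [hxdef]; group
      rw [e, (h2 d Pl.hd).eq, mul_inv_cancel_right, hxdef]
      obtain ⟨a, ha⟩ := mem_zpowers_iff.1 hd'
      rw [← ha]; exact ((Commute.refl d).zpow_left a).eq
    have hxd : x ∈ zpowers d := mul_mem (mem_zpowers d) hd'
    have h : zpowers x = zpowers d := by
      refine eq_of_le_of_card_ge (zpowers_le.2 hxd) ?_
      rw [Nat.card_zpowers, Nat.card_zpowers, S.orderOf_eq Pl.hd Pl.hd1,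
        S.orderOf_eq (zpowers_le.2 Pl.hd hxd) hx]
    obtain ⟨b, hb⟩ := mem_zpowers_iff.1 (h.symm ▸ mem_zpowers d : d ∈ zpowers x)
    have hxr' : Commute r x := mul_inv_eq_iff_eq_mul.1 hxr
    rw [← hb]
    exact hxr'.zpow_right b
  -- and then `y`
  obtain ⟨n, c, hc, e⟩ := Pl.inv _ (hrY Pl.hy)
    (by rw [htc y Pl.hy, Pl.hyt, conj_inv])
  set c0 := y * d * y⁻¹ * d⁻¹ with hc0
  have hcc : ∀ v ∈ S.Y, Commute v c := fun v hv => S.commute_Y hc hv
  have h1 : c0 ^ n = c0 := by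
    calc c0 ^ n = y ^ n * d * (y ^ n)⁻¹ * d⁻¹ := (S.comm_zpow Pl.hd Pl.hy n).symm
      _ = y ^ n * (c * d * c⁻¹) * (y ^ n)⁻¹ * d⁻¹ := by
          rw [← (hcc d Pl.hd).eq, mul_inv_cancel_right]
      _ = (y ^ n * c) * d * (y ^ n * c)⁻¹ * d⁻¹ := by group
      _ = r * y * r⁻¹ * d * (r * y * r⁻¹)⁻¹ * d⁻¹ := by rw [e]
      _ = r * y * r⁻¹ * (r * d * r⁻¹) * (r * y * r⁻¹)⁻¹ * (r * d * r⁻¹)⁻¹ := by
          rw [hrd.eq, mul_inv_cancel_right]
      _ = r * c0 * r⁻¹ := by rw [hc0]; group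
      _ = c0 := by rw [(hrC c0 Pl.c_mem).eq, mul_inv_cancel_right]
  have h3 : y ^ n = y := by
    have h4 : (orderOf c0 : ℤ) ∣ n - 1 :=
      orderOf_dvd_iff_zpow_eq_one.2 (by rw [zpow_sub_one, h1, mul_inv_cancel])
    rw [S.orderOf_eq (S.C0_le Pl.c_mem) Pl.c_ne,
      ← S.orderOf_eq Pl.hy (fun h => Pl.hyC (h ▸ one_mem _))] at h4
    have h5 := orderOf_dvd_iff_zpow_eq_one.1 h4
    rwa [zpow_sub_one, mul_inv_eq_one] at h5
  rw [h3] at e
  have hc1 : c = 1 := by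
    have h6 : r * (r * y * r⁻¹) * r⁻¹ = y := by
      calc r * (r * y * r⁻¹) * r⁻¹ = r * r * y * (r * r)⁻¹ := by group
        _ = y := by rw [(h2 y Pl.hy).eq, mul_inv_cancel_right]
    rw [e, ← conj_mul, e, (hrC c hc).eq, mul_inv_cancel_right, mul_assoc] at h6
    exact eq_one_of_sq (mul_eq_left.1 h6) (odd_orderOf C.odd_U (S.le_U (S.C0_le hc)))
  rw [hc1, mul_one] at e
  have hry : Commute r y := mul_inv_eq_iff_eq_mul.1 e
  intro v hv
  obtain ⟨a, b, c', hc', rfl⟩ := Pl.span hv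
  exact ((hrd.zpow_right a).mul_right (hry.zpow_right b)).mul_right (hrC c' hc')

variable (S)

/-- No square of a rotation inverts `d`. -/
theorem rot_absurd (E : C.Env p) {d y : G} (Pl : S.Plane d y) (T : Torus C d) (hpu : p ∣ T.u₁)
    {r r' : G} (hr' : r' ∈ zpowers C.s) (hrr : r = r' * r') (h : r * d * r⁻¹ = d⁻¹)
    (h2 : Commute (r * r) d) : False := by
  obtain ⟨⟨k, hk, hkp, -, hi⟩, hfix, -⟩ := S.exists_index E Pl
  have hp := (Fact.out : p.Prime).one_lt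
  have hu := lt_of_lt_of_le hp (Nat.le_of_dvd T.odd_u.pos hpu)
  have hr : r ∈ zpowers C.s := hrr ▸ mul_mem hr' hr'
  obtain ⟨M, -, hMu, hMc, x, hxU, hxo, hxi⟩ := T.outer r hr h h2 hu
  refine not_dvd_pku hk hkp hp T.odd_u hpu hMu hMc ?_
  rw [← hi, ← T.relIndex_eq Pl.hdD hfix]
  have hrt : r * C.t = r' * C.t * r'⁻¹ := by
    rw [← conj_t_rot hr', hrr]
    calc r' * r' * C.t = r' * (C.t * C.t) * r' * C.t := by rw [C.inv_t.1, mul_one]
      _ = r' * C.t * (C.t * r' * C.t) := by group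
  have hx0 : r'⁻¹ * x * r' ∈ C.U :=
    conj_mem' (C.H_le_normalizer_U (zpowers_le.2 C.s_mem_H hr')) hxU
  have hx0t : C.t * (r'⁻¹ * x * r') * C.t = (r'⁻¹ * x * r')⁻¹ := by
    rw [hrt] at hxi
    calc C.t * (r'⁻¹ * x * r') * C.t
        = r'⁻¹ * ((r' * C.t * r'⁻¹) * x * (r' * C.t * r'⁻¹)) * r' := by group
      _ = r'⁻¹ * x⁻¹ * r' := by rw [hxi]
      _ = _ := by group
  have ho : orderOf (r'⁻¹ * x * r') = M := by
    rw [← hxo]
    have := orderOf_injective (MulAut.conj r'⁻¹).toMonoidHom (MulAut.conj r'⁻¹).injective x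
    simpa using this
  exact ho ▸ orderOf_dvd_relIndex C.inv_t.1 C.odd_U C.t_norm_U hx0 hx0t

/-- The square of `s` centralises the layer. -/
theorem commute_sq_Y (E : C.Env p) {d y : G} (Pl : S.Plane d y) (T : Torus C d) (hpu : p ∣ T.u₁) :
    ∀ v ∈ S.Y, Commute (C.s * C.s) v := by
  suffices h : ∀ j : ℕ, (∀ v ∈ S.Y, Commute (C.s ^ 2 ^ (j + 1)) v) →
      ∀ v ∈ S.Y, Commute (C.s * C.s) v by
    refine h (C.n - 1) fun v _ => ?_
    rw [pow_succ, pow_mul, ← C.data.ordσ, pow_orderOf_eq_one, one_pow]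
    exact Commute.one_left v
  intro j
  induction j with
  | zero => intro h v hv; simpa [pow_two] using h v hv
  | succ j ih =>
    intro h
    have hr : C.s ^ 2 ^ (j + 1) ∈ zpowers C.s := pow_mem (mem_zpowers _) _
    have hsq : C.s ^ 2 ^ (j + 1) * C.s ^ 2 ^ (j + 1) = C.s ^ 2 ^ (j + 1 + 1) := by
      rw [← pow_two, ← pow_mul, pow_succ 2 (j + 1)]
    rcases rot_cases Pl hr (fun v hv => hsq.symm ▸ h v hv) with h' | h'
    · exact ih h'
    · exfalso
      exact S.rot_absurd E Pl T hpu (pow_mem (mem_zpowers C.s) (2 ^ j))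
        (by rw [← pow_two, ← pow_mul, pow_succ 2 j]) h' (hsq.symm ▸ h d Pl.hd)

/-- **The layer has no inverted element outside a non-trivial central part.** -/
theorem false_of_heisenberg (E : C.Env p) {z0 : G} (hz : z0 ∈ S.C0) (hz1 : z0 ≠ 1)
    (h1 : ∃ y ∈ S.Y, C.t * y * C.t = y⁻¹ ∧ y ∉ S.C0) : False := by
  have hp : p.Prime := Fact.out
  obtain ⟨d, hd, hdD, hd1, he⟩ := S.exists_meet
  obtain ⟨T⟩ := S.torus E hd hdD hd1 he
  obtain ⟨y, Pl⟩ := S.exists_plane E hz hz1 h1 hd hdD hd1 he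
  obtain ⟨⟨k, hk, hkp, hpk, hi⟩, hfix, hcenY⟩ := S.exists_index E Pl
  have hpu := S.p_dvd_u hd T hz hz1
  have hu : 1 < T.u₁ := lt_of_lt_of_le hp.one_lt (Nat.le_of_dvd T.odd_u.pos hpu)
  have h2 := S.commute_sq_Y E Pl T hpu
  have hdt : C.t * d * C.t = d := conj_eq_of_commute C.inv_t.1 (C.mem_D1.1 hdD).2
  rcases rot_cases Pl (mem_zpowers C.s) h2 with hs | hs
  · -- `s` fixes the line
    have hsd : C.s * d * C.s⁻¹ ∈ zpowers d := by
      rw [(hs d hd).eq, mul_inv_cancel_right]; exact mem_zpowers d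
    have hsg := S.commute_torus hd T hz hz1 (mem_zpowers _) hsd (h2 d hd)
    refine false_of_st_fixes E hdD (S.le_O hd) hd1 T (hs d hd) hsg hpu (fun u hu => ?_) hfix ?_
    · have hc : Commute (u * d * u⁻¹) C.s :=
        (hs _ (conj_mem (S.norm (C.U_le_H hu)) hd)).symm
      refine ⟨fun h => hc.mul_right h, fun h => ?_⟩
      have := hc.inv_right.mul_right h
      rwa [inv_mul_cancel_left] at this
    · have hl : (C.D1 ⊓ normalizer (zpowers d : Set G)).relIndex C.D1 = 1 := by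
        refine relIndex_eq_one.2 (le_inf le_rfl fun e he => ?_)
        refine mem_normalizer_iff_map_conj_eq.2 (eq_of_le_of_card_ge ?_
          (card_map_of_injective (MulAut.conj e).injective).ge)
        rintro _ ⟨v, hv, rfl⟩
        obtain ⟨i, rfl⟩ := mem_zpowers_iff.1 hv
        show e * d ^ i * e⁻¹ ∈ zpowers d
        rw [← conj_zpow]
        exact zpow_mem (Pl.fix _ (conj_mem (S.norm (C.U_le_H (C.D1_le_U he))) hd)
          (mul_mem (mul_mem he hdD) (inv_mem he))) i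
      exact ⟨k, hk, hkp, hpk, Or.inr (Or.inl ⟨hi, hl⟩)⟩
  -- `s` inverts `d`
  have hsg : Commute C.s T.g :=
    S.commute_torus hd T hz hz1 (mem_zpowers _) (hs ▸ inv_mem (mem_zpowers d)) (h2 d hd)
  have hdi : C.s * C.t * d * (C.s * C.t) = d⁻¹ := by rw [← C.conj_s_conj_t, hdt, hs]
  -- the fixed element of the second class
  set c0 := y * d * y⁻¹ * d⁻¹ with hc0
  have hsY : ∀ {v : G}, v ∈ S.Y → C.s * v * C.s⁻¹ ∈ S.Y := fun hv => conj_mem (S.norm C.s_mem_H) hv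
  obtain ⟨n, c, hc, hsy⟩ := Pl.inv _ (hsY Pl.hy) (by
    rw [C.conj_t_conj_s, Pl.hyt, conj_inv]
    calc C.s⁻¹ * y⁻¹ * C.s = C.s⁻¹ * (y⁻¹ * (C.s * C.s)) * C.s⁻¹ := by group
      _ = C.s⁻¹ * (C.s * C.s * y⁻¹) * C.s⁻¹ := by rw [(h2 y Pl.hy).inv_right.eq]
      _ = _ := by group)
  have hy1 : y ≠ 1 := fun h => Pl.hyC (h ▸ one_mem _)
  have hyn : y ^ n = y⁻¹ := by
    have hdi' : d⁻¹ ∈ S.Y := inv_mem hd
    have e0 : y * d⁻¹ * y⁻¹ * d⁻¹⁻¹ = c0⁻¹ := by
      calc y * d⁻¹ * y⁻¹ * d⁻¹⁻¹ = d⁻¹ * (y * d * y⁻¹ * d⁻¹)⁻¹ * d := by group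
        _ = c0⁻¹ := by
            rw [(S.commute_Y (inv_mem Pl.c_mem) hdi').eq, inv_mul_cancel_right]
    have h4 : (c0⁻¹) ^ n = c0 := by
      calc (c0⁻¹) ^ n = y ^ n * d⁻¹ * (y ^ n)⁻¹ * d⁻¹⁻¹ := by
            rw [S.comm_zpow hdi' Pl.hy n, e0]
        _ = y ^ n * (c * d⁻¹ * c⁻¹) * (y ^ n)⁻¹ * d⁻¹⁻¹ := by
            rw [← (S.commute_Y hc hdi').eq, mul_inv_cancel_right]
        _ = (y ^ n * c) * d⁻¹ * (y ^ n * c)⁻¹ * d⁻¹⁻¹ := by group
        _ = C.s * y * C.s⁻¹ * (C.s * d * C.s⁻¹) * (C.s * y * C.s⁻¹)⁻¹ *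
            (C.s * d * C.s⁻¹)⁻¹ := by rw [hsy, hs]
        _ = C.s * c0 * C.s⁻¹ := by rw [hc0]; group
        _ = c0 := by rw [(S.commute_s_C0 Pl.c_mem).eq, mul_inv_cancel_right]
    have h5 : (orderOf c0 : ℤ) ∣ n + 1 := orderOf_dvd_iff_zpow_eq_one.2 (by
      rw [inv_zpow] at h4
      rw [zpow_add_one]
      exact mul_eq_one_iff_eq_inv.2 (inv_eq_iff_eq_inv.1 h4))
    rw [S.orderOf_eq (S.C0_le Pl.c_mem) Pl.c_ne, ← S.orderOf_eq Pl.hy hy1] at h5
    have h6 := orderOf_dvd_iff_zpow_eq_one.1 h5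
    rw [zpow_add_one] at h6
    exact eq_inv_of_mul_eq_one_left h6
  rw [hyn] at hsy
  obtain ⟨c', hc', hcsq⟩ : ∃ c' ∈ S.C0, c' * c' = c⁻¹ := by
    obtain ⟨j, hj⟩ := odd_orderOf C.odd_U (S.le_U (S.C0_le hc))
    refine ⟨c ^ j, pow_mem hc j, eq_inv_of_mul_eq_one_left ?_⟩
    rw [← pow_add, ← pow_succ, show j + j + 1 = orderOf c by omega, pow_orderOf_eq_one]
  have hyc : Commute y c' := S.commute_Y hc' Pl.hy
  have hsty : C.s * C.t * y * (C.s * C.t) = y * c⁻¹ := by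
    rw [← C.conj_s_conj_t, Pl.hyt, ← conj_inv, hsy, mul_inv_rev, inv_inv]
    exact ((S.commute_Y hc Pl.hy).inv_right).eq.symm
  set e := y * c' with he_def
  have heY : e ∈ S.Y := mul_mem Pl.hy (S.C0_le hc')
  have heC : e ∉ S.C0 := fun h => Pl.hyC (by
    have := mul_mem h (inv_mem hc')
    rwa [he_def, mul_inv_cancel_right] at this)
  have het : C.t * e * C.t = e⁻¹ := by
    rw [he_def, invol_mul C.inv_t.1, Pl.hyt, S.inverted_C0 hc', mul_inv_rev]
    exact hyc.inv_left.inv_right.eq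
  have hest : C.s * C.t * e * (C.s * C.t) = e := by
    rw [he_def, invol_mul C.inv_st.1, hsty, S.inverted_C0' hc', mul_assoc]
    congr 1
    rw [← hcsq, mul_assoc, mul_inv_cancel, mul_one]
  have hse : C.s * e * C.s⁻¹ = e⁻¹ := by
    have h := C.conj_s_conj_t e
    rw [het, hest, ← conj_inv] at h
    exact inv_eq_iff_eq_inv.1 h
  have heD : e ∈ C.D2 := C.mem_D2.2 ⟨S.le_U heY, commute_of_conj_eq C.inv_st.1 hest⟩
  have he1 : e ≠ 1 := fun h => heC (h ▸ one_mem _)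
  have hEig : C.flip.Eig e := C.flip.Eig_of_conj_eq (Or.inr hse)
  let S2 : C.flip.Chief p := S.flip ⟨e, heY, heD, he1⟩
  have hz' : z0 ∈ S2.C0 := hz
  obtain ⟨T2⟩ := S2.torus E.flip heY heD he1 hEig
  obtain ⟨y2, Pl2⟩ := S2.exists_plane E.flip hz' hz1 ⟨d, hd, hdi, Pl.d_notMem⟩ heY heD he1 hEig
  obtain ⟨⟨k2, hk2, hkp2, -, hi2⟩, hfix2, hcenY2⟩ := S2.exists_index E.flip Pl2
  have hsg2 : Commute C.s T2.g :=
    S2.commute_torus heY T2 hz' hz1 (mem_zpowers _) (hse ▸ inv_mem (mem_zpowers e))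
      (h2 e heY)
  -- the tori coincide
  have hgst := C.inverted_st_of_commute T.g_inv hsg
  have hg2t := ((C.inverted_flip_iff T2.g).2
    ⟨T2.g_inv, C.flip.inverted_st_of_commute T2.g_inv hsg2⟩).1
  have hu12 : T.u₁ = T2.u₁ := by
    rw [← T.g_order, ← T2.g_order, ← Nat.card_zpowers, ← Nat.card_zpowers,
      le_antisymm (zpowers_le.2 (T2.gen T.g T.g_mem (hcenY T.g T.g_mem T.g_inv T.g_comm e heY) hgst))
        (zpowers_le.2 (T.gen T2.g T2.g_mem (hcenY2 T2.g T2.g_mem T2.g_inv T2.g_comm d hd) hg2t))]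
  obtain ⟨M, -, hMu, hMc, x, hxU, hxo, hxi⟩ := T.outer C.s (mem_zpowers _) hs (h2 d hd) hu
  refine not_dvd_pku hk2 hkp2 hp.one_lt T.odd_u hpu hMu hMc ?_
  rw [← hi2, hu12, ← T2.relIndex_eq Pl2.hdD hfix2, ← hxo]
  exact orderOf_dvd_relIndex C.flip.inv_t.1 C.flip.odd_U C.flip.t_norm_U hxU hxi

end Chief

end CfsgLib.GW.Eight.Ctx
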