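import Cfsg.Agent.GW.Eight.Count
import Cfsg.Agent.GW.CaseI.PlaneSection

/-!
# Gorenstein–Walter, `|S| ≥ 8`: a layer with an inverted element outside the central part

The layer has one line of fixed and one of inverted elements over `C0`, which is the group of their
commutators; `[U, t]` acts on this plane through a group of odd order `k ≤ p`.
-/

set_option autoImplicit false
set_option linter.style.haveILetI false
set_option linter.unusedSectionVars false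

namespace CfsgLib.GW.Eight.Ctx.Chief

open Subgroup
open CfsgLib.GW.CaseI (invGen mem_invGen exists_split conj_invol_eq conj_eq_of_commute invol_mul
  invol_inv inverted_conj plane_section)
open CfsgLib.DGroup (conj_mem conj_mem' odd_orderOf eq_one_of_sq eq_one_of_inv_eq)

universe u

variable {G : Type u} [Group G] [Fintype G] [Fact (Nat.Prime 2)] {C : Ctx G} {p : ℕ} [Fact p.Prime]
  (S : C.Chief p)
include S

theorem commute_Y {c v : G} (hc : c ∈ S.C0) (hv : v ∈ S.Y) : Commute v c :=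
  S.commute_C0 hc (S.le_U0 hv)

theorem Y_le_normalizer_C0 : S.Y ≤ normalizer (S.C0 : Set G) :=
  fun _ hv => S.norm_C0 (C.U_le_H (S.le_U hv))

/-- An inverted element of `Y` commuting with an eigenvector is on a given central line. -/
theorem mem_zpowers_of_commute (E : C.Env p) {z d i : G} (hz : z ∈ S.C0) (hz1 : z ≠ 1) (hd : d ∈ S.Y)
    (hdD : d ∈ C.D1) (hd1 : d ≠ 1) (he : C.Eig d) (hi : i ∈ S.Y) (hit : C.t * i * C.t = i⁻¹)
    (hid : Commute i d) : i ∈ zpowers z := by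
  obtain ⟨T⟩ := S.torus E hd hdD hd1 he
  exact T.mem_zpowers_inverted (S.le_U hi) hid hit (S.pow_eq i hi) (S.le_U (S.C0_le hz))
    (S.commute_C0 hz (S.le_U0 hd)).symm (S.inverted_C0 hz) (S.pow_eq z (S.C0_le hz)) hz1

theorem C0_eq_zpowers_of_line (E : C.Env p) {z : G} (hz : z ∈ S.C0) (hz1 : z ≠ 1) : S.C0 = zpowers z := by
  obtain ⟨d, hd, hdD, hd1, he⟩ := S.exists_meet
  refine le_antisymm (fun i hi => ?_) (zpowers_le.2 hz)
  exact S.mem_zpowers_of_commute E hz hz1 hd hdD hd1 he (S.C0_le hi) (S.inverted_C0 hi)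
    (S.commute_C0 hi (S.le_U0 hd)).symm

theorem card_C0_of_line (E : C.Env p) {z : G} (hz : z ∈ S.C0) (hz1 : z ≠ 1) : Nat.card S.C0 = p := by
  rw [S.C0_eq_zpowers_of_line E hz hz1, Nat.card_zpowers, S.orderOf_eq (S.C0_le hz) hz1]

/-- The group `w C0`. -/
theorem exists_line {w : G} (hw : w ∈ S.Y) :
    ∃ N : Subgroup G, N ≤ S.Y ∧ ∀ v, v ∈ N ↔ ∃ n : ℤ, ∃ c ∈ S.C0, v = w ^ n * c := by
  have hcw : ∀ c ∈ S.C0, ∀ n : ℤ, Commute (w ^ n) c := fun c hc n =>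
    (S.commute_Y hc hw).zpow_left n
  refine ⟨{ carrier := {v | ∃ n : ℤ, ∃ c ∈ S.C0, v = w ^ n * c}
            one_mem' := ⟨0, 1, one_mem _, by simp⟩
            mul_mem' := ?_
            inv_mem' := ?_ }, ?_, fun v => Iff.rfl⟩
  · rintro _ _ ⟨n, c, hc, rfl⟩ ⟨m, e, he, rfl⟩
    refine ⟨n + m, c * e, mul_mem hc he, ?_⟩
    rw [zpow_add, mul_assoc (w ^ n) c, ← mul_assoc c, ← (hcw c hc m).eq]
    group
  · rintro _ ⟨n, c, hc, rfl⟩
    refine ⟨-n, c⁻¹, inv_mem hc, ?_⟩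
    rw [mul_inv_rev, ← zpow_neg]
    exact ((hcw c hc (-n)).inv_right).eq.symm
  · rintro _ ⟨n, c, hc, rfl⟩
    exact mul_mem (zpow_mem hw n) (S.C0_le hc)

/-- Inverted elements of `Y` commute. -/
theorem commute_of_inverted_Y {a b : G} (ha : a ∈ S.Y) (hb : b ∈ S.Y) (hat : C.t * a * C.t = a⁻¹)
    (hbt : C.t * b * C.t = b⁻¹) : Commute a b := by
  set c := a * b * a⁻¹ * b⁻¹ with hc
  have hcC : c ∈ S.C0 := S.comm a ha b hb
  have h1 : C.t * c * C.t = c := by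
    have hab : a * b = c * (b * a) := by rw [hc]; group
    have hcc : Commute (b * a) c := (S.commute_Y hcC hb).mul_left (S.commute_Y hcC ha)
    calc C.t * c * C.t = a⁻¹ * b⁻¹ * a * b := by
          rw [hc, invol_mul C.inv_t.1, invol_mul C.inv_t.1, invol_mul C.inv_t.1,
            invol_inv C.inv_t.1, invol_inv C.inv_t.1, hat, hbt, inv_inv, inv_inv]
      _ = (b * a)⁻¹ * (a * b) := by group
      _ = (b * a)⁻¹ * ((b * a) * c) := by rw [hab, hcc.eq]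
      _ = c := by group
  have h2 := S.inverted_C0 hcC
  rw [h1] at h2
  exact mul_inv_eq_iff_eq_mul.1 (mul_inv_eq_one.1
    (eq_one_of_inv_eq h2.symm (odd_orderOf C.odd_U (S.le_U (S.C0_le hcC)))))

/-- An inverted element outside `C0` which is an eigenvector of `s` modulo `C0` when `n = 3`. -/
theorem exists_eig_inverted (h1 : ∃ y ∈ S.Y, C.t * y * C.t = y⁻¹ ∧ y ∉ S.C0) :
    ∃ y ∈ S.Y, C.t * y * C.t = y⁻¹ ∧ y ∉ S.C0 ∧
      (C.n = 3 → ∃ w, (w = y ∨ w = y⁻¹) ∧ w⁻¹ * (C.s * y * C.s⁻¹) ∈ S.C0) := by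
  obtain ⟨y, hy, hyt, hyC⟩ := h1
  by_cases hn : C.n = 3
  swap
  · exact ⟨y, hy, hyt, hyC, fun h => absurd h hn⟩
  set y' := C.s * y * C.s⁻¹ with hy'
  have h2 := C.commute_sq_of_eight hn (S.le_U hy)
  have hy'Y : y' ∈ S.Y := conj_mem (S.norm C.s_mem_H) hy
  have hy't : C.t * y' * C.t = y'⁻¹ := by
    rw [hy', C.conj_t_conj_s, hyt, conj_inv]
    calc C.s⁻¹ * y⁻¹ * C.s = C.s⁻¹ * (y⁻¹ * (C.s * C.s)) * C.s⁻¹ := by group
      _ = C.s⁻¹ * (C.s * C.s * y⁻¹) * C.s⁻¹ := by rw [h2.inv_right.eq]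
      _ = _ := by group
  clear_value y'
  by_cases hc : y⁻¹ * y' ∈ S.C0
  · exact ⟨y, hy, hyt, hyC, fun _ => ⟨y, Or.inl rfl, hy' ▸ hc⟩⟩
  have hcy := S.commute_of_inverted_Y hy hy'Y hyt hy't
  refine ⟨y⁻¹ * y', mul_mem (inv_mem hy) hy'Y, ?_, hc, fun _ => ⟨(y⁻¹ * y')⁻¹, Or.inr rfl, ?_⟩⟩
  · rw [invol_mul C.inv_t.1, invol_inv C.inv_t.1, hyt, hy't, inv_inv, mul_inv_rev, inv_inv]
    exact hcy.inv_right.eq
  · have e1 : C.s * y' * C.s⁻¹ = y := by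
      calc C.s * y' * C.s⁻¹ = C.s * C.s * y * (C.s * C.s)⁻¹ := by rw [hy']; group
        _ = y := by rw [h2.eq, mul_inv_cancel_right]
    have e : C.s * (y⁻¹ * y') * C.s⁻¹ = (y⁻¹ * y')⁻¹ := by
      calc C.s * (y⁻¹ * y') * C.s⁻¹ = (C.s * y * C.s⁻¹)⁻¹ * (C.s * y' * C.s⁻¹) := by group
        _ = y'⁻¹ * y := by rw [e1, ← hy']
        _ = _ := by rw [mul_inv_rev, inv_inv]
    rw [e, inv_inv, mul_inv_cancel]
    exact one_mem _

/-- The commutator with `d` on `Y`, as a homomorphism into `C0`. -/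
def commHom {d : G} (hd : d ∈ S.Y) : S.Y →* S.C0 :=
  MonoidHom.mk' (fun x => ⟨(x : G) * d * (x : G)⁻¹ * d⁻¹, S.comm x x.2 d hd⟩) fun x w => by
    refine Subtype.ext ?_
    show (x : G) * w * d * ((x : G) * w)⁻¹ * d⁻¹ =
      (x : G) * d * (x : G)⁻¹ * d⁻¹ * ((w : G) * d * (w : G)⁻¹ * d⁻¹)
    rw [show (x : G) * w * d * ((x : G) * w)⁻¹ * d⁻¹ =
      (x : G) * ((w : G) * d * (w : G)⁻¹ * d⁻¹) * (x : G)⁻¹ * ((x : G) * d * (x : G)⁻¹ * d⁻¹) by group,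
      (S.commute_Y (S.comm w w.2 d hd) x.2).eq, mul_inv_cancel_right]
    exact (S.commute_Y (S.comm x x.2 d hd) (S.C0_le (S.comm w w.2 d hd))).eq

theorem comm_zpow {d y : G} (hd : d ∈ S.Y) (hy : y ∈ S.Y) (n : ℤ) :
    y ^ n * d * (y ^ n)⁻¹ * d⁻¹ = (y * d * y⁻¹ * d⁻¹) ^ n := by
  have h := congrArg Subtype.val (map_zpow (S.commHom hd) ⟨y, hy⟩ n)
  exact h

/-- The plane: a fixed line `⟨d⟩` and an inverted line `⟨y⟩` over `C0`, whose commutator spans `C0`. -/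
structure Plane (d y : G) : Prop where
  hd : d ∈ S.Y
  hdD : d ∈ C.D1
  hd1 : d ≠ 1
  hy : y ∈ S.Y
  hyt : C.t * y * C.t = y⁻¹
  hyC : y ∉ S.C0
  c_ne : y * d * y⁻¹ * d⁻¹ ≠ 1
  c_gen : ∀ v ∈ S.C0, v ∈ zpowers (y * d * y⁻¹ * d⁻¹)
  fix : ∀ e ∈ S.Y, e ∈ C.D1 → e ∈ zpowers d
  inv : ∀ i ∈ S.Y, C.t * i * C.t = i⁻¹ → ∃ n : ℤ, ∃ c ∈ S.C0, i = y ^ n * c

theorem exists_plane (E : C.Env p) {z : G} (hz : z ∈ S.C0) (hz1 : z ≠ 1)
    (h1 : ∃ y ∈ S.Y, C.t * y * C.t = y⁻¹ ∧ y ∉ S.C0) {d : G} (hd : d ∈ S.Y) (hdD : d ∈ C.D1)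
    (hd1 : d ≠ 1) (he : C.Eig d) : ∃ y, S.Plane d y := by
  obtain ⟨y, hy, hyt, hyC, hye⟩ := S.exists_eig_inverted h1
  have hfix1 : ∀ e ∈ S.Y, e ∈ C.D1 → Commute y e → e = 1 := by
    intro e he' heD hye'
    by_contra he1
    set N0 := S.Y ⊓ C.D1 ⊓ centralizer ({y} : Set G) with hN0
    obtain ⟨f, ⟨⟨hfY, hfD⟩, hfy⟩, hf1, hfe⟩ := C.exists_eig (N := N0)
      ((inf_le_left.trans inf_le_left).trans S.le_U)
      (fun hn => by
        refine mem_normalizer_iff_map_conj_eq.2 (eq_of_le_of_card_ge ?_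
          (card_map_of_injective (MulAut.conj C.s).injective).ge)
        rintro _ ⟨v, ⟨⟨hvY, hvD⟩, hvy⟩, rfl⟩
        refine ⟨⟨conj_mem (S.norm C.s_mem_H) hvY,
          C.conj_s_mem_D1 hvD (C.commute_sq_of_eight hn (C.D1_le_U hvD))⟩, ?_⟩
        obtain ⟨w, hw, hwC⟩ := hye hn
        have h3 : Commute (C.s * v * C.s⁻¹) (C.s * y * C.s⁻¹) :=
          (Commute.conj_iff C.s).2 (mem_centralizer_singleton_iff.1 hvy)
        have h4 : Commute (C.s * v * C.s⁻¹) w := by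
          have h5 := h3.mul_right
            (S.commute_Y (inv_mem hwC) (conj_mem (S.norm C.s_mem_H) hvY))
          rwa [mul_inv_rev, inv_inv, mul_inv_cancel_left] at h5
        refine mem_centralizer_singleton_iff.2 (?_ : Commute _ y).eq
        rcases hw with rfl | rfl
        · exact h4
        · exact Commute.inv_right_iff.1 h4)
      (fun h => he1 (mem_bot.1 (h ▸ ⟨⟨he', heD⟩, mem_centralizer_singleton_iff.2 hye'.eq.symm⟩)))
    have hm := S.mem_zpowers_of_commute E hz hz1 hfY hfD hf1 hfe hy hyt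
      (mem_centralizer_singleton_iff.1 hfy : Commute f y).symm
    exact hyC (zpowers_le.2 hz hm)
  set c := y * d * y⁻¹ * d⁻¹ with hc
  have hcC : c ∈ S.C0 := S.comm y hy d hd
  have hc1 : c ≠ 1 := fun h => hd1 (hfix1 d hd hdD (mul_inv_eq_iff_eq_mul.1 (mul_inv_eq_one.1 h)))
  have hgen : ∀ v ∈ S.C0, v ∈ zpowers c := fun v hv => S.C0_eq_zpowers_of_line E hcC hc1 ▸ hv
  have hfix : ∀ e ∈ S.Y, e ∈ C.D1 → e ∈ zpowers d := by
    intro e he' heD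
    obtain ⟨n, hn⟩ := mem_zpowers_iff.1 (hgen _ (S.comm y hy e he'))
    refine mem_zpowers_iff.2 ⟨n, (mul_inv_eq_one.1 (hfix1 (e * (d ^ n)⁻¹)
      (mul_mem he' (inv_mem (zpow_mem hd n))) (mul_mem heD (inv_mem (zpow_mem hdD n))) ?_)).symm⟩
    refine mul_inv_eq_iff_eq_mul.1 ?_
    have h2 : y * d ^ n * y⁻¹ = c ^ n * d ^ n := by
      have hcd : Commute c d := (S.commute_Y hcC hd).symm
      rw [← conj_zpow, show y * d * y⁻¹ = c * d by rw [hc]; group, hcd.mul_zpow]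
    calc y * (e * (d ^ n)⁻¹) * y⁻¹
        = y * e * y⁻¹ * e⁻¹ * e * (y * d ^ n * y⁻¹)⁻¹ := by group
      _ = c ^ n * e * (c ^ n * d ^ n)⁻¹ := by rw [h2, hn]
      _ = c ^ n * (e * (d ^ n)⁻¹) * (c ^ n)⁻¹ := by group
      _ = _ := by
        rw [← (S.commute_Y (zpow_mem hcC n) (mul_mem he' (inv_mem (zpow_mem hd n)))).eq,
          mul_inv_cancel_right]
  refine ⟨y, hd, hdD, hd1, hy, hyt, hyC, hc1, hgen, hfix, fun i hi hit => ?_⟩
  obtain ⟨n, hn⟩ := mem_zpowers_iff.1 (hgen _ (S.comm i hi d hd))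
  have hw : (y ^ n)⁻¹ * i ∈ S.Y := mul_mem (inv_mem (zpow_mem hy n)) hi
  have hwt : C.t * ((y ^ n)⁻¹ * i) * C.t = ((y ^ n)⁻¹ * i)⁻¹ := by
    have hyn := inverted_zpow C.inv_t.1 hyt n
    rw [invol_mul C.inv_t.1, invol_inv C.inv_t.1, hyn, hit, inv_inv, mul_inv_rev, inv_inv]
    exact (S.commute_of_inverted_Y (zpow_mem hy n) hi hyn hit).inv_right.eq
  have hwd : Commute ((y ^ n)⁻¹ * i) d := by
    refine mul_inv_eq_iff_eq_mul.1 ?_
    have h3 : y ^ n * d * (y ^ n)⁻¹ = i * d * i⁻¹ := by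
      have h4 := S.comm_zpow hd hy n
      rw [← hc, hn] at h4
      exact mul_right_cancel h4
    calc (y ^ n)⁻¹ * i * d * ((y ^ n)⁻¹ * i)⁻¹ = (y ^ n)⁻¹ * (i * d * i⁻¹) * y ^ n := by group
      _ = d := by rw [← h3]; group
  refine ⟨n, (y ^ n)⁻¹ * i, zpowers_le.2 hcC ?_, (mul_inv_cancel_left _ _).symm⟩
  exact S.mem_zpowers_of_commute E hcC hc1 hd hdD hd1 he hw hwt hwd

namespace Plane

variable {S} {d y : G} (Pl : S.Plane d y)
include Pl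

theorem c_mem : y * d * y⁻¹ * d⁻¹ ∈ S.C0 := S.comm y Pl.hy d Pl.hd

theorem d_notMem : d ∉ S.C0 := fun h => Pl.hd1 (S.eq_one_of_mem_C0 h Pl.hdD)

theorem span {w : G} (hw : w ∈ S.Y) : ∃ a n : ℤ, ∃ c ∈ S.C0, w = d ^ a * y ^ n * c := by
  obtain ⟨e, he, heD, i, hi, hit, rfl⟩ := S.split hw
  obtain ⟨a, rfl⟩ := mem_zpowers_iff.1 (Pl.fix e he heD)
  obtain ⟨n, c, hc, rfl⟩ := Pl.inv i hi hit
  exact ⟨a, n, c, hc, (mul_assoc _ _ _).symm⟩

end Plane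

/-- An element inverted by `t` which maps a line over `M` to itself centralises it modulo `M`. -/
theorem centralises_mod {M : Subgroup G} {x w : G} (hx : Odd (orderOf x))
    (hxt : C.t * x * C.t = x⁻¹) (hxM : x ∈ normalizer (M : Set G))
    (hwM : w ∈ normalizer (M : Set G)) (htM : C.t ∈ normalizer (M : Set G))
    (hw : C.t * w * C.t = w ∨ C.t * w * C.t = w⁻¹) (h : ∃ n : ℤ, (w ^ n)⁻¹ * (x * w * x⁻¹) ∈ M) :
    w⁻¹ * (x * w * x⁻¹) ∈ M := by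
  have htt := C.inv_t.1
  obtain ⟨n, hn⟩ := h
  set m := (w ^ n)⁻¹ * (x * w * x⁻¹) with hm
  have hxw : x * w * x⁻¹ = w ^ n * m := by rw [hm]; group
  have htm : C.t * m * C.t ∈ M := by
    have := conj_mem htM hn
    rwa [C.inv_t.inv_eq] at this
  -- `x⁻¹` has the same effect
  have hinv : (w ^ n)⁻¹ * (x⁻¹ * w * x) ∈ M := by
    have h1 := congrArg (fun v => C.t * v * C.t) hxw
    simp only [invol_mul htt, invol_inv htt, hxt, inv_inv] at h1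
    rw [← conj_invol_eq htt (w ^ n), ← conj_zpow, conj_invol_eq htt] at h1
    rcases hw with e | e <;> rw [e] at h1
    · rw [h1, inv_mul_cancel_left]; exact htm
    · have h2 : x⁻¹ * w * x = (C.t * m * C.t)⁻¹ * w ^ n := by
        calc x⁻¹ * w * x = (x⁻¹ * w⁻¹ * x)⁻¹ := by group
          _ = _ := by rw [h1, inv_zpow, mul_inv_rev, inv_inv]
      rw [h2, ← mul_assoc]
      exact conj_mem' (zpow_mem hwM n) (inv_mem htm)
  have hsq : w⁻¹ * (x * x * w * (x * x)⁻¹) ∈ M := by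
    have h1 := mul_mem (inv_mem hinv) hn
    have h2 := conj_mem hxM h1
    rwa [show x * (((w ^ n)⁻¹ * (x⁻¹ * w * x))⁻¹ * m) * x⁻¹ =
      w⁻¹ * (x * x * w * (x * x)⁻¹) by rw [hm]; group] at h2
  obtain ⟨j, hj⟩ := hx
  have hpow : ∀ i : ℕ, w⁻¹ * ((x * x) ^ i * w * ((x * x) ^ i)⁻¹) ∈ M := by
    intro i
    induction i with
    | zero => simp
    | succ i ih =>
      have hv : (x * x) ^ i ∈ normalizer (M : Set G) := pow_mem (mul_mem hxM hxM) i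
      have h1 := mul_mem ih (conj_mem hv hsq)
      rwa [show w⁻¹ * ((x * x) ^ i * w * ((x * x) ^ i)⁻¹) *
        ((x * x) ^ i * (w⁻¹ * (x * x * w * (x * x)⁻¹)) * ((x * x) ^ i)⁻¹) =
        w⁻¹ * ((x * x) ^ i * (x * x) * w * ((x * x) ^ i * (x * x))⁻¹) by group, ← pow_succ] at h1
  have e : (x * x) ^ (j + 1) = x := by
    rw [← pow_two, ← pow_mul, show 2 * (j + 1) = orderOf x + 1 by omega, pow_succ,
      pow_orderOf_eq_one, one_mul]
  simpa [e] using hpow (j + 1)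

/-- The elements of `N(M)` fixed by `x` modulo `M`. -/
def fixMod (M : Subgroup G) (x : G) : Subgroup G where
  carrier := {u | u ∈ normalizer (M : Set G) ∧ u⁻¹ * (x * u * x⁻¹) ∈ M}
  one_mem' := ⟨one_mem _, by simp⟩
  mul_mem' {u u'} hu hu' := ⟨mul_mem hu.1 hu'.1, by
    rw [show (u * u')⁻¹ * (x * (u * u') * x⁻¹) =
      u'⁻¹ * (u⁻¹ * (x * u * x⁻¹)) * u' * (u'⁻¹ * (x * u' * x⁻¹)) by group]
    exact mul_mem (conj_mem' hu'.1 hu.2) hu'.2⟩
  inv_mem' {u} hu := ⟨inv_mem hu.1, by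
    rw [show u⁻¹⁻¹ * (x * u⁻¹ * x⁻¹) = u * (u⁻¹ * (x * u * x⁻¹))⁻¹ * u⁻¹ by group]
    exact conj_mem hu.1 (inv_mem hu.2)⟩

omit S in
theorem le_fixMod {M : Subgroup G} {x : G} (hx : x ∈ normalizer (M : Set G)) : M ≤ fixMod M x :=
  fun _ hu => ⟨le_normalizer hu, mul_mem (inv_mem hu) (conj_mem hx hu)⟩

theorem mem_of_zpow_mem {F : Subgroup G} {w : G} (hw : w ∈ S.Y) {k : ℤ} (hk : w ^ k ∈ F)
    (h1 : w ^ k ≠ 1) : w ∈ F := by
  have h : zpowers (w ^ k) = zpowers w := by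
    refine eq_of_le_of_card_ge (zpowers_le.2 (zpow_mem (Subgroup.mem_zpowers w) _)) ?_
    rw [Nat.card_zpowers, Nat.card_zpowers,
      S.orderOf_eq hw fun h => h1 (by rw [h, one_zpow]), S.orderOf_eq (zpow_mem hw _) h1]
  exact (h ▸ zpowers_le.2 hk : zpowers w ≤ F) (Subgroup.mem_zpowers w)

/-- If `U1` fixes a coordinate line of the plane, it acts trivially on `Y / C0`. -/
theorem exists_trivial_of_line {d y : G} (Pl : S.Plane d y) {w w' : G}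
    (hww : (w = d ∧ w' = y) ∨ (w = y ∧ w' = d))
    (hl : ∀ x ∈ C.U1, ∃ n : ℤ, (w ^ n)⁻¹ * (x * w * x⁻¹) ∈ S.C0) :
    ∀ x ∈ C.U1, ∀ v ∈ S.Y, x * v * x⁻¹ * v⁻¹ ∈ S.C0 := by
  have hdt : C.t * d * C.t = d := conj_eq_of_commute C.inv_t.1 (C.mem_D1.1 Pl.hdD).2
  obtain ⟨hwY, hw'Y, hwC, hwt, hw't, hwD⟩ : w ∈ S.Y ∧ w' ∈ S.Y ∧ w ∉ S.C0 ∧
      (C.t * w * C.t = w ∨ C.t * w * C.t = w⁻¹) ∧ (C.t * w' * C.t = w' ∨ C.t * w' * C.t = w'⁻¹) ∧
      ∀ e ∈ C.D1, ∃ n : ℤ, ∃ c ∈ S.C0, e * w * e⁻¹ = w ^ n * c := by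
    rcases hww with ⟨e1, e2⟩ | ⟨e1, e2⟩ <;> rw [e1, e2]
    · refine ⟨Pl.hd, Pl.hy, Pl.d_notMem, Or.inl hdt, Or.inr Pl.hyt, fun e he => ?_⟩
      obtain ⟨n, hn⟩ := mem_zpowers_iff.1 (Pl.fix _
        (conj_mem (S.norm (C.U_le_H (C.D1_le_U he))) Pl.hd) (mul_mem (mul_mem he Pl.hdD) (inv_mem he)))
      exact ⟨n, 1, one_mem _, by rw [mul_one]; exact hn.symm⟩
    · refine ⟨Pl.hy, Pl.hd, Pl.hyC, Or.inr Pl.hyt, Or.inl hdt, fun e he => ?_⟩
      exact Pl.inv _ (conj_mem (S.norm (C.U_le_H (C.D1_le_U he))) Pl.hy)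
        (inverted_conj C.inv_t.1 (C.mem_D1.1 he).2 Pl.hyt)
  obtain ⟨L, hLY, hL⟩ := S.exists_line hwY
  have hwL : w ∈ L := (hL w).2 ⟨1, 1, one_mem _, by rw [zpow_one, mul_one]⟩
  have hC0L : S.C0 ≤ L := fun c hc => (hL c).2 ⟨0, c, hc, by rw [zpow_zero, one_mul]⟩
  have hYL : S.Y ≤ normalizer (L : Set G) := fun v hv => by
    refine mem_normalizer_iff_map_conj_eq.2 (eq_of_le_of_card_ge ?_
      (card_map_of_injective (MulAut.conj v).injective).ge)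
    rintro _ ⟨l, hl', rfl⟩
    show v * l * v⁻¹ ∈ L
    have h := mul_mem (hC0L (S.comm v hv l (hLY hl'))) hl'
    rwa [inv_mul_cancel_right] at h
  have hspan : ∀ u ∈ S.Y, ∃ a : ℤ, (w' ^ a)⁻¹ * u ∈ L := by
    intro u hu
    obtain ⟨a, b, c, hc, e⟩ := Pl.span hu
    rw [e]
    rcases hww with ⟨e1, e2⟩ | ⟨e1, e2⟩ <;> rw [← e1, ← e2]
    · refine ⟨b, ?_⟩
      rw [show (w' ^ b)⁻¹ * (w ^ a * w' ^ b * c) = (w' ^ b)⁻¹ * w ^ a * w' ^ b * c by group]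
      exact mul_mem (conj_mem' (zpow_mem (hYL hw'Y) b) (zpow_mem hwL a)) (hC0L hc)
    · refine ⟨a, ?_⟩
      rw [show (w' ^ a)⁻¹ * (w' ^ a * w ^ b * c) = w ^ b * c by group]
      exact mul_mem (zpow_mem hwL b) (hC0L hc)
  have hconjL : ∀ g ∈ C.H, g * w * g⁻¹ ∈ L → g ∈ normalizer (L : Set G) := by
    intro g hg hgw
    refine mem_normalizer_iff_map_conj_eq.2 (eq_of_le_of_card_ge ?_
      (card_map_of_injective (MulAut.conj g).injective).ge)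
    rintro _ ⟨l, hl', rfl⟩
    obtain ⟨n, c, hc, rfl⟩ := (hL l).1 hl'
    show g * (w ^ n * c) * g⁻¹ ∈ L
    rw [← conj_mul, ← conj_zpow]
    exact mul_mem (zpow_mem hgw n) (hC0L (conj_mem (S.norm_C0 hg) hc))
  have htL : C.t ∈ normalizer (L : Set G) := hconjL _ C.t_mem_H (by
    rw [C.inv_t.inv_eq]; rcases hwt with e | e <;> rw [e]; exacts [hwL, inv_mem hwL])
  have hU1L : C.U1 ≤ normalizer (L : Set G) := fun x hx =>
    hconjL x (C.U_le_H (CfsgLib.GW.CaseI.invGen_le _ _ hx)) (by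
      obtain ⟨n, hn⟩ := hl x hx
      exact (hL _).2 ⟨n, _, hn, by group⟩)
  have hD1L : C.D1 ≤ normalizer (L : Set G) := fun e he =>
    hconjL e (C.U_le_H (C.D1_le_U he)) ((hL _).2 (hwD e he))
  have hUL : C.U ≤ normalizer (L : Set G) := fun x hx => by
    obtain ⟨e, he, i, hi, hit, rfl⟩ := C.exists_mul_t hx
    exact mul_mem (hD1L he) (hU1L (mem_invGen hi hit))
  -- each inverted element fixes the line and the plane over it
  have hline : ∀ x ∈ C.U, C.t * x * C.t = x⁻¹ → w⁻¹ * (x * w * x⁻¹) ∈ S.C0 := fun x hx hxt =>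
    S.centralises_mod (odd_orderOf C.odd_U hx) hxt (S.norm_C0 (C.U_le_H hx)) (S.Y_le_normalizer_C0 hwY)
      (S.norm_C0 C.t_mem_H) hwt (hl x (mem_invGen hx hxt))
  have hquot : ∀ x ∈ C.U, C.t * x * C.t = x⁻¹ → w'⁻¹ * (x * w' * x⁻¹) ∈ L := fun x hx hxt =>
    S.centralises_mod (odd_orderOf C.odd_U hx) hxt (hUL hx) (hYL hw'Y) htL hw't
      (hspan _ (conj_mem (S.norm (C.U_le_H hx)) hw'Y))
  have hLF : ∀ x ∈ C.U, C.t * x * C.t = x⁻¹ → L ≤ fixMod S.C0 x := by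
    intro x hx hxt l hl'
    obtain ⟨k, c, hc, rfl⟩ := (hL l).1 hl'
    exact mul_mem (zpow_mem (show w ∈ fixMod S.C0 x from
      ⟨S.Y_le_normalizer_C0 hwY, hline x hx hxt⟩) k) (le_fixMod (S.norm_C0 (C.U_le_H hx)) hc)
  -- otherwise the line is the only invariant one
  have hgen : ∀ x ∈ C.U, C.t * x * C.t = x⁻¹ → w'⁻¹ * (x * w' * x⁻¹) ∈ S.C0 := by
    intro x hx hxt
    by_contra hne
    have hsL : C.s ∈ normalizer (L : Set G) := by
      refine hconjL _ C.s_mem_H ?_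
      by_contra hsw
      set v := C.s * w * C.s⁻¹ with hv
      have hvY : v ∈ S.Y := conj_mem (S.norm C.s_mem_H) hwY
      obtain ⟨m, hm⟩ := hspan v hvY
      have hv' : w' ^ m * ((w' ^ m)⁻¹ * v) = v := mul_inv_cancel_left _ _
      have hvL : v⁻¹ * (x * v * x⁻¹) ∈ L := by
        have h1 : w' ∈ fixMod L x := ⟨hYL hw'Y, hquot x hx hxt⟩
        have h2 := mul_mem (zpow_mem h1 m) (le_fixMod (hUL hx) hm)
        rw [hv'] at h2
        exact h2.2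
      have hx' : C.s⁻¹ * x * C.s ∈ C.U := conj_mem' C.s_norm_U hx
      obtain ⟨n, hn⟩ : ∃ n : ℤ, (v ^ n)⁻¹ * (x * v * x⁻¹) ∈ S.C0 := by
        obtain ⟨n, c', hc', h'⟩ := (hL _).1 (conj_mem (hUL hx') hwL)
        refine ⟨n, ?_⟩
        have e1 : x * v * x⁻¹ = v ^ n * (C.s * c' * C.s⁻¹) := by
          calc x * v * x⁻¹ = C.s * (C.s⁻¹ * x * C.s * w * (C.s⁻¹ * x * C.s)⁻¹) * C.s⁻¹ := by
                rw [hv]; group
            _ = _ := by rw [h', hv, ← conj_mul, ← conj_zpow]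
        rw [e1, inv_mul_cancel_left]
        exact conj_mem (S.norm_C0 C.s_mem_H) hc'
      -- the exponent is one
      have hvfix : v⁻¹ * (x * v * x⁻¹) ∈ S.C0 := by
        have h2 : v ^ (n - 1) ∈ L := by
          have h3 := mul_mem hvL (inv_mem (hC0L hn))
          rwa [show v⁻¹ * (x * v * x⁻¹) * ((v ^ n)⁻¹ * (x * v * x⁻¹))⁻¹ = v ^ (n - 1) by group] at h3
        by_cases h4 : v ^ (n - 1) = 1
        · rwa [show v ^ n = v by
            rw [show v ^ n = v ^ (n - 1) * v by group, h4, one_mul]] at hn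
        · exact absurd (S.mem_of_zpow_mem hvY h2 h4) hsw
      -- `w'` is then fixed modulo `C0`
      have hm' : w' ^ m ∈ fixMod S.C0 x := by
        have h5 := mul_mem (show v ∈ fixMod S.C0 x from ⟨S.Y_le_normalizer_C0 hvY, hvfix⟩)
          (inv_mem (hLF x hx hxt hm))
        rwa [mul_inv_rev, inv_inv, mul_inv_cancel_left] at h5
      refine hne (S.mem_of_zpow_mem hw'Y hm' fun h6 => hsw ?_).2
      rwa [h6, inv_one, one_mul] at hm
    have hHL : C.H ≤ normalizer (L : Set G) := by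
      intro g hg
      obtain ⟨u, hu, q, hq, rfl⟩ := C.exists_mul_P hg
      refine mul_mem (hUL hu) ?_
      obtain ⟨i, rfl | rfl⟩ := C.exists_cases hq
      · exact zpow_mem hsL i
      · exact mul_mem (zpow_mem hsL i) htL
    rcases S.min L hLY hHL with h | h
    · exact hne (hLF x hx hxt (h.symm ▸ hw'Y)).2
    · exact hwC (h hwL)
  intro x hx
  induction hx using closure_induction with
  | mem x hx =>
    intro v hv
    obtain ⟨a, ha⟩ := hspan v hv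
    have h1 := mul_mem (zpow_mem (show w' ∈ fixMod S.C0 x from
      ⟨S.Y_le_normalizer_C0 hw'Y, hgen x hx.1 hx.2⟩) a) (hLF x hx.1 hx.2 ha)
    rw [mul_inv_cancel_left] at h1
    have h2 := conj_mem (S.Y_le_normalizer_C0 hv) h1.2
    rwa [show v * (v⁻¹ * (x * v * x⁻¹)) * v⁻¹ = x * v * x⁻¹ * v⁻¹ by group] at h2
  | one => intro v _; simp
  | inv x hx ih =>
    intro v hv
    have hxU : x ∈ C.U := CfsgLib.GW.CaseI.invGen_le _ _ hx
    rw [show x⁻¹ * v * x⁻¹⁻¹ * v⁻¹ = x⁻¹ * (x * v * x⁻¹ * v⁻¹)⁻¹ * x⁻¹⁻¹ by group]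
    exact conj_mem (S.norm_C0 (inv_mem (C.U_le_H hxU))) (inv_mem (ih v hv))
  | mul x x' hx _ ihx ihy =>
    intro v hv
    have hxU : x ∈ C.U := CfsgLib.GW.CaseI.invGen_le _ _ hx
    rw [show x * x' * v * (x * x')⁻¹ * v⁻¹ =
      x * (x' * v * x'⁻¹ * v⁻¹) * x⁻¹ * (x * v * x⁻¹ * v⁻¹) by group]
    exact mul_mem (conj_mem (S.norm_C0 (C.U_le_H hxU)) (ihy v hv)) (ihx v hv)

/-- `|U1 : C(d)| = p k` with `k` odd, at most and prime to `p`; fixed elements of `U1` and inverted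
elements commuting with `d` centralise `d`, resp. `Y`. -/
theorem exists_index (E : C.Env p) {d y : G} (Pl : S.Plane d y) :
    (∃ k, Odd k ∧ k ≤ p ∧ ¬ p ∣ k ∧
      (C.U1 ⊓ centralizer ({d} : Set G)).relIndex C.U1 = p * k) ∧
      (∀ e ∈ C.D1, e ∈ C.U1 → Commute e d) ∧
      ∀ x ∈ C.U, C.t * x * C.t = x⁻¹ → Commute x d → ∀ v ∈ S.Y, Commute x v := by
  have hp2 : p ≠ 2 := E.good.2.1
  have hdt : C.t * d * C.t = d := conj_eq_of_commute C.inv_t.1 (C.mem_D1.1 Pl.hdD).2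
  have hU1 : C.U1 ≤ C.U := CfsgLib.GW.CaseI.invGen_le _ _
  have hU1H : ∀ x ∈ C.U1, x ∈ C.H := fun x hx => C.U_le_H (hU1 hx)
  obtain ⟨K, hK, hko, hkp, hpk, hsr, hKb⟩ : ∃ K : Subgroup G,
      (∀ x, x ∈ K ↔ x ∈ C.U1 ∧ ∀ w ∈ S.Y, x * w * x⁻¹ * w⁻¹ ∈ S.C0) ∧
      Odd (K.relIndex C.U1) ∧ K.relIndex C.U1 ≤ p ∧ ¬ p ∣ K.relIndex C.U1 ∧
      (∀ x ∈ C.U1, x * d * x⁻¹ * d⁻¹ ∈ S.C0 → x ∈ K) ∧ ∀ x ∈ C.U1, Commute x C.t → x ∈ K := by
    by_cases hlines : (∃ x ∈ C.U1, ∀ n : ℤ, (d ^ n)⁻¹ * (x * d * x⁻¹) ∉ S.C0) ∧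
        ∃ x ∈ C.U1, ∀ n : ℤ, (y ^ n)⁻¹ * (x * y * x⁻¹) ∉ S.C0
    · obtain ⟨K, hK, hko, -, hkp, hpk, hsr, hKb⟩ := plane_section (p := p) hp2 C.inv_t.1 (U := C.U1)
        (Y := S.Y) (N := S.C0) (C.odd_U.of_dvd_nat (card_dvd_of_le hU1)) (by
          refine le_antisymm ((closure_le _).2 fun x hx => hx.1) ?_
          exact (closure_le _).2 fun x hx => subset_closure ⟨mem_invGen hx.1 hx.2, hx.2⟩)
        S.C0_le S.Y_le_normalizer_C0
        (fun v hv => S.norm (hU1H v hv)) (fun v hv => S.norm_C0 (hU1H v hv))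
        (S.norm_C0 C.t_mem_H) Pl.hd Pl.hy hdt Pl.hyt Pl.d_notMem Pl.hyC
        (by rw [S.pow_eq d Pl.hd]; exact one_mem _) (by rw [S.pow_eq y Pl.hy]; exact one_mem _)
        Pl.c_mem (fun w hw => by
          obtain ⟨a, n, c, hc, rfl⟩ := Pl.span hw
          exact ⟨a, n, by rwa [inv_mul_cancel_left]⟩)
        hlines.1 hlines.2
      exact ⟨K, hK, hko, hkp, hpk, hsr, hKb⟩
    have htriv : ∀ x ∈ C.U1, ∀ v ∈ S.Y, x * v * x⁻¹ * v⁻¹ ∈ S.C0 := by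
      rw [not_and_or] at hlines
      rcases hlines with h | h <;> push Not at h
      exacts [S.exists_trivial_of_line Pl (Or.inl ⟨rfl, rfl⟩) h,
        S.exists_trivial_of_line Pl (Or.inr ⟨rfl, rfl⟩) h]
    refine ⟨C.U1, fun x => ⟨fun h => ⟨h, htriv x h⟩, And.left⟩, ?_, ?_, ?_, fun x hx _ => hx,
      fun x hx _ => hx⟩ <;> rw [relIndex_self]
    exacts [odd_one, (Fact.out : p.Prime).one_le, (Fact.out : p.Prime).not_dvd_one]
  set F := C.U1 ⊓ centralizer ({d} : Set G) with hF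
  have hFK : F ≤ K := fun v hv => hsr v hv.1 (by
    rw [mem_centralizer_singleton_iff.1 hv.2, mul_inv_cancel_right, mul_inv_cancel]; exact one_mem _)
  have hKU : K ≤ C.U1 := fun v hv => ((hK v).1 hv).1
  have hKd : ∀ v ∈ K, v * d * v⁻¹ * d⁻¹ ∈ S.C0 := fun v hv => ((hK v).1 hv).2 d Pl.hd
  have hK0 : ∀ v ∈ K, v ∈ C.U0 := fun v hv => mem_sup_left (hKU hv)
  let ψ : K →* S.C0 := MonoidHom.mk' (fun x => ⟨(x : G) * d * (x : G)⁻¹ * d⁻¹, hKd x x.2⟩) fun x w => by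
    refine Subtype.ext ?_
    show (x : G) * w * d * ((x : G) * w)⁻¹ * d⁻¹ =
      (x : G) * d * (x : G)⁻¹ * d⁻¹ * ((w : G) * d * (w : G)⁻¹ * d⁻¹)
    rw [show (x : G) * w * d * ((x : G) * w)⁻¹ * d⁻¹ =
      (x : G) * ((w : G) * d * (w : G)⁻¹ * d⁻¹) * (x : G)⁻¹ * ((x : G) * d * (x : G)⁻¹ * d⁻¹) by group,
      (S.commute_C0 (hKd w w.2) (hK0 x x.2)).eq, mul_inv_cancel_right]
    exact (S.commute_C0 (hKd x x.2) (S.le_U0 (S.C0_le (hKd w w.2)))).eq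
  have hψ : ψ.ker = F.subgroupOf K := by
    ext x
    rw [MonoidHom.mem_ker, mem_subgroupOf, hF, mem_inf, mem_centralizer_singleton_iff, Subtype.ext_iff]
    show (x : G) * d * (x : G)⁻¹ * d⁻¹ = 1 ↔ _
    rw [mul_inv_eq_one, mul_inv_eq_iff_eq_mul]
    exact ⟨fun h => ⟨hKU x.2, h⟩, And.right⟩
  have hyK : y ∈ K := (hK y).2 ⟨mem_invGen (S.le_U Pl.hy) Pl.hyt, fun w hw => S.comm y Pl.hy w hw⟩
  have hsurj : Function.Surjective ψ := fun v => by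
    obtain ⟨n, hn⟩ := mem_zpowers_iff.1 (Pl.c_gen v v.2)
    exact ⟨(⟨y, hyK⟩ : K) ^ n, by rw [map_zpow]; exact Subtype.ext hn⟩
  refine ⟨⟨K.relIndex C.U1, hko, hkp, hpk, ?_⟩, fun e he he1 => ?_, fun x hx hxt hxd v hv => ?_⟩
  · rw [← relIndex_mul_relIndex F K C.U1 hFK hKU]
    congr 1
    rw [relIndex, ← hψ, index_ker, MonoidHom.range_eq_top.2 hsurj, card_top]
    exact S.card_C0_of_line E Pl.c_mem Pl.c_ne
  · exact mul_inv_eq_iff_eq_mul.1 (mul_inv_eq_one.1 (S.eq_one_of_mem_C0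
      (hKd e (hKb e he1 (C.mem_D1.1 he).2)) (mul_mem (mul_mem (mul_mem he Pl.hdD) (inv_mem he))
        (inv_mem Pl.hdD))))
  · have hxK : x ∈ K := hFK ⟨mem_invGen hx hxt, mem_centralizer_singleton_iff.2 hxd.eq⟩
    have hxy : Commute x y := by
      set c := x * y * x⁻¹ * y⁻¹ with hc
      have hcC : c ∈ S.C0 := ((hK x).1 hxK).2 y Pl.hy
      have hab : x * y = c * (y * x) := by rw [hc]; group
      have hcc : Commute (y * x) c := (S.commute_Y hcC Pl.hy).mul_left (S.commute_C0 hcC (hK0 x hxK))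
      have h1 : C.t * c * C.t = c := by
        calc C.t * c * C.t = x⁻¹ * y⁻¹ * x * y := by
              rw [hc, invol_mul C.inv_t.1, invol_mul C.inv_t.1, invol_mul C.inv_t.1,
                invol_inv C.inv_t.1, invol_inv C.inv_t.1, hxt, Pl.hyt, inv_inv, inv_inv]
          _ = (y * x)⁻¹ * (x * y) := by group
          _ = (y * x)⁻¹ * ((y * x) * c) := by rw [hab, hcc.eq]
          _ = c := by group
      have h2 := S.inverted_C0 hcC
      rw [h1] at h2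
      exact mul_inv_eq_iff_eq_mul.1 (mul_inv_eq_one.1
        (eq_one_of_inv_eq h2.symm (odd_orderOf C.odd_U (S.le_U (S.C0_le hcC)))))
    obtain ⟨a, n, c, hc, rfl⟩ := Pl.span hv
    exact ((hxd.zpow_right a).mul_right (hxy.zpow_right n)).mul_right
      (S.commute_C0 hc (hK0 x hxK))

end CfsgLib.GW.Eight.Ctx.Chief
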