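import Cfsg.Agent.GW.Eight.Normalizer
import Cfsg.Agent.GW.Eight.CaseII.Basic

/-!
# Gorenstein–Walter, `|S| ≥ 8`: `p`-groups normalised by `V1` with fusion, and inverted elements

For a good prime a Sylow `p`-subgroup is centralised by an involution, so the centraliser of a
`p`-group `Q` normalised by `V1` has even order, `V1` fixes an involution there, and that involution
lies in `V1`; fusion of `z` with `t` and `z * t` in `N(Q)` then gives `Q ≤ D1`.
-/

set_option autoImplicit false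
set_option linter.style.haveILetI false
set_option linter.unusedSectionVars false

namespace CfsgLib.GW.Eight.Ctx

open Subgroup
open CfsgLib.NormCyclic (Inv)
open CfsgLib.DGroup (coreIn Op conj_mem conj_mem' odd_orderOf eq_one_of_inv_eq)
open CfsgLib.GW.CaseI (mem_of_pow_prime_pow exists_pow_of_isPGroup)

universe u

variable {G : Type u} [Group G] [Fintype G] [Fact (Nat.Prime 2)] (C : Ctx G)
include C

/-- A `p`-group, for a good prime `p`, is centralised by an involution. -/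
theorem exists_invol_centralizer (hmax : IsCoatom C.H) {p : ℕ} [Fact p.Prime] (hp : C.Good p)
    {Q : Subgroup G} (hQ : IsPGroup p Q) : ∃ w : G, Inv w ∧ w ∈ centralizer (Q : Set G) := by
  obtain ⟨R, hR⟩ := C.exists_sylowU p
  obtain ⟨S, hS⟩ := C.exists_sylow_eq hmax hp hR
  obtain ⟨T, hT⟩ := hQ.exists_le_sylow
  obtain ⟨g, hg⟩ := MulAction.exists_smul_eq G T S
  refine ⟨g⁻¹ * C.z * g⁻¹⁻¹, C.inv_z.conj g⁻¹, mem_centralizer_iff.2 fun x hx => ?_⟩
  have hm : g * x * g⁻¹ ∈ R := by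
    rw [← hS, ← hg]; exact ⟨x, hT hx, rfl⟩
  have h := (Commute.conj_iff g⁻¹).2 (C.commute_z (hR.le hm))
  rw [show g⁻¹ * (g * x * g⁻¹) * g⁻¹⁻¹ = x by group] at h
  exact h.eq

/-- `V1` fixes an involution in a subgroup of even order which it normalises; it lies in `V1`. -/
theorem exists_invol_V1 {K : Subgroup G} (hn : C.V1 ≤ normalizer (K : Set G))
    (hK : ∃ w : G, Inv w ∧ w ∈ K) : ∃ v ∈ C.V1, v ≠ 1 ∧ v ∈ K := by
  obtain ⟨w, hw, hwK⟩ := hK
  set M := K ⊔ C.V1 with hM
  haveI hKn : (K.subgroupOf M).Normal :=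
    (normal_subgroupOf_iff_le_normalizer le_sup_left).2 (sup_le le_normalizer hn)
  obtain ⟨S, hS⟩ :=
    ((CfsgLib.GW.Eight.CaseII.isPGroup_V1 C).comap_subtype (K := M)).exists_le_sylow
  obtain ⟨T, hT⟩ := (IsPGroup.of_card (p := 2) (n := 1) (by
    rw [Nat.card_zpowers, ← Subgroup.orderOf_coe, hw.orderOf, pow_one]) :
    IsPGroup 2 (zpowers (⟨w, mem_sup_left hwK⟩ : M))).exists_le_sylow
  obtain ⟨g, hg⟩ := MulAction.exists_smul_eq M T S
  set w' : M := g * ⟨w, mem_sup_left hwK⟩ * g⁻¹ with hw'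
  have hw'S : w' ∈ (S : Subgroup M) := by
    rw [← hg]; exact ⟨⟨w, mem_sup_left hwK⟩, hT (mem_zpowers _), rfl⟩
  have hw'K : w' ∈ K.subgroupOf M := hKn.conj_mem _ hwK g
  have hne : ((K.subgroupOf M).subgroupOf (S : Subgroup M)) ≠ ⊥ := fun h => by
    have h1 : (⟨w', hw'S⟩ : (S : Subgroup M)) ∈ (K.subgroupOf M).subgroupOf (S : Subgroup M) := hw'K
    rw [h, mem_bot, Subtype.ext_iff] at h1
    exact hw.2 (congrArg Subtype.val (conj_eq_one_iff.1 h1))
  haveI := S.isPGroup'.isNilpotent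
  haveI : ((K.subgroupOf M).subgroupOf (S : Subgroup M)).Normal := inferInstance
  have h1 := CfsgLib.PGroupBasic.inf_center_ne_bot _ hne
  obtain ⟨y, hy, hy1⟩ := (Subgroup.bot_or_exists_ne_one _).resolve_left h1
  have hc : ∀ v, (hv : v ∈ C.V1) → Commute ((y : (S : Subgroup M)) : M).1 v := fun v hv => by
    have := mem_center_iff.1 hy.2 ⟨⟨v, mem_sup_right hv⟩, hS hv⟩
    exact (congrArg (fun a : (S : Subgroup M) => ((a : M) : G)) this).symm
  have hyV := CfsgLib.GW.Eight.CaseII.mem_V1_of_commute C (hc _ C.z_mem_V1) (hc _ C.t_mem_V1)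
    (exists_pow_of_isPGroup (S.isPGroup'.map M.subtype) ⟨_, y.2, rfl⟩)
  refine ⟨_, hyV, fun e => hy1 ?_, hy.1⟩
  exact Subtype.ext (Subtype.ext e)

/-- A `V1`-invariant `p`-group, `p` good, with fusion in its normaliser is centralised by `V1`. -/
theorem le_D1_of_fus (hmax : IsCoatom C.H) {p : ℕ} [Fact p.Prime] (hp : C.Good p) {Q : Subgroup G}
    (hQ : IsPGroup p Q) (hQV : C.V1 ≤ normalizer (Q : Set G))
    (h1 : ∃ g ∈ normalizer (Q : Set G), g * C.z * g⁻¹ = C.t)
    (h2 : ∃ g ∈ normalizer (Q : Set G), g * C.z * g⁻¹ = C.z * C.t) : Q ≤ C.D1 := by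
  have hcn : C.V1 ≤ normalizer (centralizer (Q : Set G) : Set G) := fun v hv => by
    refine mem_normalizer_iff.2 fun x => ?_
    have hvn := hQV hv
    constructor
    · intro hx
      refine mem_centralizer_iff.2 fun y hy => ?_
      have h := (Commute.conj_iff v).2
        (mem_centralizer_iff.1 hx _ (conj_mem' hvn hy) : Commute (v⁻¹ * y * v) x)
      rw [show v * (v⁻¹ * y * v) * v⁻¹ = y by group] at h
      exact h.eq
    · intro hx
      refine mem_centralizer_iff.2 fun y hy => ?_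
      have h := (Commute.conj_iff v⁻¹).2
        (mem_centralizer_iff.1 hx _ (conj_mem hvn hy) : Commute (v * y * v⁻¹) (v * x * v⁻¹))
      rw [show v⁻¹ * (v * y * v⁻¹) * v⁻¹⁻¹ = y by group,
        show v⁻¹ * (v * x * v⁻¹) * v⁻¹⁻¹ = x by group] at h
      exact h.eq
  obtain ⟨v, hv, hv1, hvc⟩ := C.exists_invol_V1 hcn (C.exists_invol_centralizer hmax hp hQ)
  have hQv : ∀ x ∈ Q, Commute x v := fun x hx => mem_centralizer_iff.1 hvc x hx
  have step : ∀ {g a b : G}, g ∈ normalizer (Q : Set G) → g * a * g⁻¹ = b →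
      (∀ x ∈ Q, Commute x a) → ∀ x ∈ Q, Commute x b := by
    intro g a b hg hab ha x hx
    have h := (Commute.conj_iff g).2 (ha _ (conj_mem' hg hx))
    rwa [show g * (g⁻¹ * x * g) * g⁻¹ = x by group, hab] at h
  obtain ⟨g₁, hg₁, e₁⟩ := h1
  obtain ⟨g₂, hg₂, e₂⟩ := h2
  have hz : ∀ x ∈ Q, Commute x C.z := by
    rcases C.mem_V1.1 hv with rfl | rfl | rfl | rfl
    · exact absurd rfl hv1
    · exact hQv
    · exact step (inv_mem hg₁) (by rw [← e₁]; group) hQv
    · exact step (inv_mem hg₂) (by rw [← e₂]; group) hQv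
  exact fun x hx => C.mem_D1_of_odd (hz x hx) (step hg₁ e₁ hz x hx)
    (mem_of_pow_prime_pow hp.1 hp.2.1 (exists_pow_of_isPGroup hQ hx))

/-- The order of an element of `U` inverted by `t` divides `|U : D1|`. -/
theorem orderOf_dvd_relIndex {x : G} (hx : x ∈ C.U) (hxt : C.t * x * C.t = x⁻¹) :
    orderOf x ∣ C.D1.relIndex C.U := by
  classical
  refine (Nat.dvd_iff_prime_pow_dvd_dvd _ _).2 fun q k hq hqk => ?_
  haveI : Fact q.Prime := ⟨hq⟩
  obtain ⟨m, hm⟩ := hqk
  set y := x ^ m with hy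
  have hyo : orderOf y = q ^ k := by
    have hm0 : m ≠ 0 := fun h => (orderOf_pos x).ne' (by rw [hm, h, mul_zero])
    rw [hy, orderOf_pow_of_dvd hm0 (Dvd.intro_left _ hm.symm), hm,
      Nat.mul_div_cancel _ (Nat.pos_of_ne_zero hm0)]
  have hyU : y ∈ C.U := pow_mem hx m
  have hyt : C.t * y * C.t⁻¹ = y⁻¹ := by
    rw [hy, ← conj_pow, C.inv_t.inv_eq, hxt, inv_pow]
  have hA : zpowers C.t ≤ normalizer (C.U : Set G) := zpowers_le.2 (C.H_le_normalizer_U C.t_mem_H)
  have hcop : (Nat.card (zpowers C.t)).Coprime (Nat.card C.U) := by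
    rw [Nat.card_zpowers, C.inv_t.orderOf]; exact Nat.coprime_two_left.2 C.odd_U
  have hsol : Group.IsSolvable (zpowers C.t) :=
    Group.isSolvable_of_comm fun a b => Subtype.ext (by
      obtain ⟨i, hi⟩ := mem_zpowers_iff.1 a.2
      obtain ⟨j, hj⟩ := mem_zpowers_iff.1 b.2
      simp only [Subgroup.coe_mul, ← hi, ← hj, ← zpow_add, add_comm])
  obtain ⟨S, hyS, hS⟩ := CfsgLib.CoprimeAct.exists_invariant_sylow_ge (A := zpowers C.t) (K := C.U)
    hA hcop (Or.inl hsol) q (zpowers_le.2 hyU)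
    (IsPGroup.of_card (n := k) (by rw [Nat.card_zpowers, hyo]))
    (zpowers_le.2 (by
      refine mem_normalizer_iff_map_conj_eq.2 ?_
      rw [MonoidHom.map_zpowers]
      show zpowers (C.t * y * C.t⁻¹) = zpowers y
      rw [hyt, zpowers_inv]))
  set R := (S : Subgroup C.U).map C.U.subtype with hR
  set B := R ⊓ centralizer ({C.t} : Set G) with hB
  have hdis : Disjoint (zpowers y) B := by
    refine Subgroup.disjoint_def.2 fun {w} hw hwB => ?_
    obtain ⟨i, rfl⟩ := mem_zpowers_iff.1 hw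
    have h1 : C.t * y ^ i * C.t⁻¹ = (y ^ i)⁻¹ := by rw [← conj_zpow, hyt, inv_zpow]
    rw [← (mem_centralizer_singleton_iff.1 hwB.2 : _ * _ = _ * _), mul_inv_cancel_right] at h1
    exact eq_one_of_inv_eq h1.symm (odd_orderOf C.odd_U (zpow_mem hyU i))
  have hyR : y ∈ R := hyS (mem_zpowers y)
  have hle : q ^ k * Nat.card B ≤ Nat.card R := by
    rw [← hyo, ← Nat.card_zpowers, ← Nat.card_prod]
    refine Nat.card_le_card_of_injective
      (fun w : zpowers y × B => (⟨(w.1 : G) * w.2, mul_mem (zpowers_le.2 hyR w.1.2) w.2.2.1⟩ : R)) ?_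
    intro w₁ w₂ h
    have := Subgroup.mul_injective_of_disjoint hdis (congrArg Subtype.val h)
    exact this
  obtain ⟨b, hb⟩ := IsPGroup.iff_card.1 ((S.2.map C.U.subtype).to_le (inf_le_left : B ≤ R))
  obtain ⟨a, ha⟩ := IsPGroup.iff_card.1 (S.2.map C.U.subtype : IsPGroup q R)
  rw [← hR] at ha
  have hkb : k + b ≤ a := by
    rw [hb, ha, ← pow_add] at hle
    exact (Nat.pow_le_pow_iff_right hq.one_lt).1 hle
  -- compare with the Sylow orders
  have hRS : Nat.card R = q ^ (Nat.card C.U).factorization q := by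
    rw [hR, card_map_of_injective C.U.subtype_injective]; exact S.card_eq_multiplicity
  rw [ha] at hRS
  have hae : a = (Nat.card C.U).factorization q := Nat.pow_right_injective hq.two_le hRS
  have hD : Nat.card C.D1 * C.D1.relIndex C.U = Nat.card C.U := by
    have := relIndex_mul_relIndex ⊥ C.D1 C.U bot_le inf_le_left
    rwa [relIndex_bot_left, relIndex_bot_left] at this
  have hb' : (Nat.card C.D1).factorization q ≤ b := by
    obtain ⟨T, -⟩ := (IsPGroup.of_bot (G := C.D1) (p := q)).exists_le_sylow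
    obtain ⟨T', hT'1, hT'2⟩ := CfsgLib.CoprimeAct.exists_invariant_sylow_ge (A := zpowers C.t) (K := C.U)
      hA hcop (Or.inl hsol) q ((map_subtype_le (T : Subgroup C.D1)).trans inf_le_left) (T.2.map _)
      (zpowers_le.2 (centralizer_le_normalizer _ (mem_centralizer_iff.2 fun w hw => by
        obtain ⟨w', -, rfl⟩ := hw
        exact (C.mem_D1.1 w'.2).2.eq)))
    obtain ⟨c, hct, hc⟩ := CfsgLib.CoprimeAct.invariant_sylow_conj hA hcop (Or.inl hsol) q T' S hT'2 hS
    have hct' : Commute (c : G) C.t := (mem_centralizer_iff.1 hct _ (mem_zpowers _)).symm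
    have hsub : ((T : Subgroup C.D1).map C.D1.subtype).map (MulAut.conj (c : G)).toMonoidHom ≤ B := by
      rintro _ ⟨w, hw, rfl⟩
      refine ⟨?_, mem_centralizer_singleton_iff.2 ?_⟩
      · obtain ⟨w₁, hw₁, rfl⟩ := hT'1 hw
        rw [hR, ← hc]
        exact ⟨_, ⟨w₁, hw₁, rfl⟩, rfl⟩
      · obtain ⟨w', -, rfl⟩ := hw
        have h := (Commute.conj_iff (c : G)).2 (C.mem_D1.1 w'.2).2
        rw [hct'.eq, mul_inv_cancel_right] at h
        exact h.eq
    have h := card_dvd_of_le hsub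
    rw [card_map_of_injective (MulAut.conj (c : G)).injective,
      card_map_of_injective C.D1.subtype_injective, T.card_eq_multiplicity, hb] at h
    exact (Nat.pow_dvd_pow_iff_le_right hq.one_lt).1 h
  have hfac := Nat.factorization_mul (Nat.card_pos (α := C.D1)).ne'
    (fun h => by rw [h, mul_zero] at hD; exact (Nat.card_pos (α := C.U)).ne' hD.symm : C.D1.relIndex C.U ≠ 0)
  rw [hD] at hfac
  have h2 : k ≤ (C.D1.relIndex C.U).factorization q := by
    rw [hfac, Finsupp.add_apply] at hae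
    omega
  exact (pow_dvd_pow q h2).trans (Nat.ordProj_dvd _ _)

end CfsgLib.GW.Eight.Ctx
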