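import Cfsg.Agent.GW.Eight.Setting

/-!
# Gorenstein–Walter, `|S| ≥ 8`: what is used about the centraliser of a fixed element of `U`

For `d ∈ D1` the quotient of `K = C(d)` by its odd core `W` has a socle `PSL(2, q)` or `A₇` containing
the four group; the elements of `C_U(d)` inverted by `t` are the powers of one element `g`. A rotation
`r` normalising `⟨d⟩`, with `r * r` in `K`, centralises `g` unless the socle is `A₇`; when it inverts
`d` it induces an outer diagonal automorphism, whose centraliser has a cyclic torus of the opposite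
sign, of order prime to `u₁`, giving an element of that order in `U` inverted by `r * t`.
-/

set_option autoImplicit false
set_option linter.style.haveILetI false
set_option linter.unusedSectionVars false

namespace CfsgLib.GW.Eight

open Subgroup
open CfsgLib.DGroup (coreIn)

universe u

variable {G : Type u} [Group G] [Fintype G] [Fact (Nat.Prime 2)]

/-- The elements of `C_U(d)` inverted by `t`, and the action of the rotations on them. -/
structure Torus (C : Ctx G) (d : G) where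
  u₁ : ℕ
  g : G
  odd_u : Odd u₁
  g_mem : g ∈ C.U
  g_comm : Commute g d
  g_inv : C.t * g * C.t = g⁻¹
  g_order : orderOf g = u₁
  gen : ∀ x ∈ C.U, Commute x d → C.t * x * C.t = x⁻¹ → x ∈ zpowers g
  W_le : coreIn (centralizer ({d} : Set G)) ≤ C.D1
  exists_mul : ∀ x ∈ C.U, Commute x d → ∃ e ∈ C.D1, Commute e d ∧ ∃ k : ℤ, x = e * g ^ k
  card_inf : Nat.card ↥(C.U ⊓ centralizer ({d} : Set G)) =
    u₁ * Nat.card ↥(C.D1 ⊓ centralizer ({d} : Set G))
  centralises : ∀ {q : ℕ}, q.Prime → ∀ {x : G}, x ∈ C.U → Commute x d → C.t * x * C.t = x⁻¹ →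
    ∀ {Q : Subgroup G}, IsPGroup q Q → Q ≤ C.U ⊓ centralizer ({d} : Set G) →
      x ∈ normalizer (Q : Set G) → (orderOf x).Coprime q → ∀ c ∈ Q, Commute x c
  rot : ∀ r ∈ zpowers C.s, r * d * r⁻¹ ∈ zpowers d → Commute (r * r) d →
    Commute r g ∨ (r * r = C.z ∧ Commute r d ∧ r * g * r⁻¹ = g⁻¹)
  outer : ∀ r ∈ zpowers C.s, r * d * r⁻¹ = d⁻¹ → Commute (r * r) d → 1 < u₁ →
    ∃ M : ℕ, Odd M ∧ 2 * u₁ ≤ M + 1 ∧ M.Coprime u₁ ∧
      ∃ x ∈ C.U, orderOf x = M ∧ r * C.t * x * (r * C.t) = x⁻¹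
  fixed : Commute C.s d → Commute C.s g → 1 < u₁ →
    ∃ (q₁ : ℕ) (ε : ℤ), IsPrimePow q₁ ∧ (ε = 1 ∨ ε = -1) ∧
      (q₁ : ℤ) = 2 ^ C.n * (u₁ : ℤ) + ε ∧
      Nat.card ↥(C.D1 ⊓ centralizer ({d} : Set G)) * q₁ ∣
        Nat.card ↥(centralizer ({d} : Set G))

end CfsgLib.GW.Eight
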