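import Cfsg.Agent.GW.Eight.Sym
import Cfsg.Agent.GW.Eight.TorusDef
import Cfsg.Agent.GW.CaseI.Layer

/-!
# Gorenstein–Walter, `|S| ≥ 8`: a minimal normal subgroup of `H` in the layer of `O_p(U0)` meeting `D1`

`Env` is the setting of the proof that, for a good prime `p`, `O_p(H) ∩ U0` meets neither `D1` nor `D2`,
the supply of tori included as a hypothesis.  `Chief` is the minimal subgroup, with the part `C0`
inverted by both classes and central in `U0`; both are symmetric in the classes.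
-/

set_option autoImplicit false
set_option linter.style.haveILetI false
set_option linter.unusedSectionVars false

namespace CfsgLib.GW.Eight

open Subgroup
open CfsgLib.GW.CaseI (invGen mem_invGen exists_split conj_invol_eq conj_eq_of_commute invol_mul
  invol_inv inverted_conj inverted_inv le_normalizer_of_conj exists_layer exists_pow_of_isPGroup)
open CfsgLib.DGroup (coreIn Op conj_mem conj_mem' odd_orderOf eq_one_of_inv_eq)

universe u

variable {G : Type u} [Group G] [Fintype G] [Fact (Nat.Prime 2)]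

namespace Ctx

variable (C : Ctx G)

/-- `d` is an eigenvector of `s` when `n = 3`. -/
def Eig (d : G) : Prop := C.n = 3 → C.s * d * C.s⁻¹ ∈ zpowers d

end Ctx

/-- The tori are available. -/
def TorusSupply (G : Type u) [Group G] [Fintype G] [Fact (Nat.Prime 2)] : Prop :=
  ∀ (C : Ctx G) (p : ℕ) [Fact p.Prime], IsCoatom C.H → C.Good p → ∀ d ∈ C.D1, d ∈ Op p C.H →
    d ≠ 1 → C.Eig d → Nonempty (Torus C d)

theorem Torus.mem_zpowers_inverted {C : Ctx G} {d : G} (T : Torus C d) {p : ℕ} [Fact p.Prime] {x y : G}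
    (hx : x ∈ C.U) (hxd : Commute x d) (hxt : C.t * x * C.t = x⁻¹) (hxp : x ^ p = 1) (hy : y ∈ C.U)
    (hyd : Commute y d) (hyt : C.t * y * C.t = y⁻¹) (hyp : y ^ p = 1) (hy1 : y ≠ 1) :
    x ∈ zpowers y := by
  obtain ⟨i, rfl⟩ := mem_zpowers_iff.1 (T.gen x hx hxd hxt)
  obtain ⟨j, rfl⟩ := mem_zpowers_iff.1 (T.gen y hy hyd hyt)
  classical
  letI : CommGroup (zpowers T.g) := IsCyclic.commGroup
  set a : zpowers T.g := ⟨T.g ^ j, zpow_mem (Subgroup.mem_zpowers _) j⟩ with ha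
  set b : zpowers T.g := ⟨T.g ^ i, zpow_mem (Subgroup.mem_zpowers _) i⟩ with hb
  let S : Subgroup (zpowers T.g) := (powMonoidHom p).ker
  have hS : Nat.card S ≤ p := by
    show Nat.card ↥((powMonoidHom p).ker : Subgroup (zpowers T.g)) ≤ p
    rw [IsCyclic.card_powMonoidHom_ker]
    exact Nat.gcd_le_right _ (Fact.out : p.Prime).pos
  have haS : zpowers a ≤ S := zpowers_le.2 (Subtype.ext hyp)
  have hca : Nat.card (zpowers a) = p := by
    rw [Nat.card_zpowers, ← Subgroup.orderOf_coe]; exact orderOf_eq_prime hyp hy1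
  have hbm : b ∈ zpowers a := by
    rw [eq_of_le_of_card_ge haS (hS.trans hca.ge)]; exact Subtype.ext hxp
  obtain ⟨k, hk⟩ := mem_zpowers_iff.1 hbm
  refine mem_zpowers_iff.2 ⟨k, ?_⟩
  have h := congrArg Subtype.val hk
  simpa [ha, hb] using h

namespace Ctx

variable (C : Ctx G)

/-- The setting of the analysis of `O_p(H) ∩ U0` for a good prime `p`. -/
structure Env (p : ℕ) : Prop where
  hmax : IsCoatom C.H
  hD1 : C.D1 ≠ ⊥
  hD2 : C.D2 ≠ ⊥
  good : C.Good p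
  supply : TorusSupply G

variable {C}

theorem Env.flip {p : ℕ} [Fact p.Prime] (E : C.Env p) : C.flip.Env p :=
  ⟨E.hmax, E.hD2, C.flip_D2_ne_bot E.hD1, E.good.flip, E.supply⟩

theorem Env.torus {p : ℕ} [Fact p.Prime] (E : C.Env p) {d : G} (hd : d ∈ C.D1) (hdO : d ∈ Op p C.H)
    (hd1 : d ≠ 1) (he : C.Eig d) : Nonempty (Torus C d) :=
  E.supply C p E.hmax E.good d hd hdO hd1 he

variable (C)

theorem Eig_of_conj_eq {d : G} (h : C.s * d * C.s⁻¹ = d ∨ C.s * d * C.s⁻¹ = d⁻¹) : C.Eig d := fun _ => by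
  rcases h with h | h <;> rw [h]
  exacts [mem_zpowers d, inv_mem (mem_zpowers d)]

/-- An eigenvector in a subgroup of `D1`, normalised by `s` when `n = 3`. -/
theorem exists_eig {N : Subgroup G} (hNU : N ≤ C.U)
    (hs : C.n = 3 → C.s ∈ normalizer (N : Set G)) (hN : N ≠ ⊥) : ∃ d ∈ N, d ≠ 1 ∧ C.Eig d := by
  by_cases hn : C.n = 3
  · obtain ⟨d, hd, hd1, h⟩ := exists_eigen (hs hn) (fun x hx => C.commute_sq_of_eight hn (hNU hx)) hN
    exact ⟨d, hd, hd1, C.Eig_of_conj_eq h⟩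
  · obtain ⟨d, hd, hd1⟩ := N.bot_or_exists_ne_one.resolve_left hN
    exact ⟨d, hd, hd1, fun h => absurd h hn⟩

/-- For `n = 3` the element `s` normalises the intersection of `D1` with a normalised subgroup. -/
theorem s_mem_normalizer_inf_D1 (hn : C.n = 3) {N : Subgroup G}
    (hs : C.s ∈ normalizer (N : Set G)) : C.s ∈ normalizer ((N ⊓ C.D1 : Subgroup G) : Set G) := by
  refine mem_normalizer_iff_map_conj_eq.2 (eq_of_le_of_card_ge ?_
    (card_map_of_injective (MulAut.conj C.s).injective).ge)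
  rintro _ ⟨x, hx, rfl⟩
  exact ⟨conj_mem hs hx.1, C.conj_s_mem_D1 hx.2 (C.commute_sq_of_eight hn (C.D1_le_U hx.2))⟩

/-- A conjugate under `U` of an element inverted by a reflection and central in `U0` is inverted. -/
theorem inverted_conj_U {b x u : G} (hb : b * b = 1) (hbU : b ∈ normalizer (C.U : Set G))
    (hle : invGen b C.U ≤ C.U0) (hxb : b * x * b = x⁻¹) (hxc : ∀ v ∈ C.U0, Commute v x)
    (hu : u ∈ C.U) : b * (u * x * u⁻¹) * b = (u * x * u⁻¹)⁻¹ := by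
  obtain ⟨e, he, y, hy, heb, hyb, rfl⟩ := exists_split hb C.odd_U hbU hu
  have h1 : y * x * y⁻¹ = x := by
    rw [(hxc y (hle (mem_invGen hy hyb))).eq, mul_inv_cancel_right]
  rw [show e * y * x * (e * y)⁻¹ = e * (y * x * y⁻¹) * e⁻¹ by group, h1]
  exact inverted_conj hb heb hxb

theorem H_le_normalizer_P0 (p : ℕ) [Fact p.Prime] :
    C.H ≤ normalizer ((Op p C.H ⊓ C.U0 : Subgroup G) : Set G) := fun h hh =>
  mem_normalizer_iff.2 fun x => by
    rw [mem_inf, mem_inf, mem_normalizer_iff.1 (C.H_le_normalizer_U0 hh) x,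
      mem_normalizer_iff.1 (CfsgLib.DGroup.le_normalizer_Op p C.H hh) x]

/-- To be inverted by both classes is symmetric in the classes. -/
theorem inverted_flip_iff (x : G) :
    (C.t * x * C.t = x⁻¹ ∧ C.s * C.t * x * (C.s * C.t) = x⁻¹) ↔
      (C.flip.t * x * C.flip.t = x⁻¹ ∧
        C.flip.s * C.flip.t * x * (C.flip.s * C.flip.t) = x⁻¹) := by
  constructor
  · rintro ⟨h1, h2⟩
    exact ⟨h2, C.flip.inverted_st_of_commute h2 (C.commute_s_of_inverted h1 h2)⟩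
  · rintro ⟨h1, h2⟩
    have hs : Commute C.s x := C.flip.commute_s_of_inverted h1 h2
    refine ⟨?_, h1⟩
    have e : C.s * (C.t * x * C.t) * C.s⁻¹ = x⁻¹ := (C.conj_s_conj_t x).trans h1
    rw [mul_inv_eq_iff_eq_mul, ← hs.inv_right.eq] at e
    exact mul_left_cancel e

/-- The minimal normal section used in the case distinction. -/
structure Chief (p : ℕ) where
  Y : Subgroup G
  C0 : Subgroup G
  le_O : Y ≤ Op p C.H
  le_U0 : Y ≤ C.U0
  pow_eq : ∀ x ∈ Y, x ^ p = 1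
  C0_le : C0 ≤ Y
  C0_mem : ∀ x, x ∈ C0 ↔ x ∈ Y ∧ C.t * x * C.t = x⁻¹ ∧ C.s * C.t * x * (C.s * C.t) = x⁻¹ ∧
    ∀ v ∈ C.U0, Commute v x
  norm : C.H ≤ normalizer (Y : Set G)
  norm_C0 : C.H ≤ normalizer (C0 : Set G)
  meet : ∃ d ∈ Y, d ∈ C.D1 ∧ d ≠ 1
  min : ∀ N ≤ Y, C.H ≤ normalizer (N : Set G) → N = Y ∨ N ≤ C0
  comm : ∀ v ∈ Y, ∀ w ∈ Y, v * w * v⁻¹ * w⁻¹ ∈ C0

namespace Chief

variable {C} {p : ℕ} (S : C.Chief p)

theorem le_U : S.Y ≤ C.U := S.le_U0.trans C.U0_le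

theorem commute_C0 {c v : G} (hc : c ∈ S.C0) (hv : v ∈ C.U0) : Commute v c :=
  ((S.C0_mem c).1 hc).2.2.2 v hv

theorem inverted_C0 {c : G} (hc : c ∈ S.C0) : C.t * c * C.t = c⁻¹ := ((S.C0_mem c).1 hc).2.1

theorem inverted_C0' {c : G} (hc : c ∈ S.C0) : C.s * C.t * c * (C.s * C.t) = c⁻¹ :=
  ((S.C0_mem c).1 hc).2.2.1

theorem commute_s_C0 {c : G} (hc : c ∈ S.C0) : Commute C.s c :=
  C.commute_s_of_inverted (S.inverted_C0 hc) (S.inverted_C0' hc)

theorem eq_one_of_fixed {w : G} (hwD : w ∈ C.D1) (hwt : C.t * w * C.t = w⁻¹) : w = 1 :=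
  eq_one_of_fixed_inverted C.inv_t.1 (odd_orderOf C.odd_U (C.D1_le_U hwD)) (C.mem_D1.1 hwD).2 hwt

theorem eq_one_of_mem_C0 {c : G} (hc : c ∈ S.C0) (hcD : c ∈ C.D1) : c = 1 :=
  eq_one_of_fixed hcD (S.inverted_C0 hc)

theorem split {w : G} (hw : w ∈ S.Y) :
    ∃ c ∈ S.Y, c ∈ C.D1 ∧ ∃ i ∈ S.Y, C.t * i * C.t = i⁻¹ ∧ w = c * i := by
  obtain ⟨c, hc, i, hi, hcb, hib, e⟩ := exists_split C.inv_t.1
    (C.odd_U.of_dvd_nat (card_dvd_of_le S.le_U)) (S.norm C.t_mem_H) hw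
  exact ⟨c, hc, C.mem_D1.2 ⟨S.le_U hc, hcb⟩, i, hi, hib, e⟩

theorem isPGroup [Fact p.Prime] : IsPGroup p S.Y :=
  (CfsgLib.DGroup.isPGroup_Op p C.H).to_le S.le_O

theorem orderOf_eq [Fact p.Prime] {w : G} (hw : w ∈ S.Y) (hw1 : w ≠ 1) : orderOf w = p :=
  orderOf_eq_prime (S.pow_eq w hw) hw1

theorem torus [Fact p.Prime] (E : C.Env p) {d : G} (hd : d ∈ S.Y) (hdD : d ∈ C.D1) (hd1 : d ≠ 1)
    (he : C.Eig d) : Nonempty (Torus C d) :=
  E.torus hdD (S.le_O hd) hd1 he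

/-- An element of order `p` of `Y` fixed by `t`, with an eigenvector condition. -/
theorem exists_meet : ∃ d ∈ S.Y, d ∈ C.D1 ∧ d ≠ 1 ∧ C.Eig d := by
  obtain ⟨d₀, hd₀, hd₀D, hd₀1⟩ := S.meet
  obtain ⟨d, hd, hd1, he⟩ := C.exists_eig (N := S.Y ⊓ C.D1) (inf_le_left.trans S.le_U)
    (fun hn => C.s_mem_normalizer_inf_D1 hn (S.norm C.s_mem_H))
    (fun h => hd₀1 (mem_bot.1 (h ▸ ⟨hd₀, hd₀D⟩)))
  exact ⟨d, hd.1, hd.2, hd1, he⟩

/-- The same subgroup for the second class, when it meets `D2`. -/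
def flip (h : ∃ d ∈ S.Y, d ∈ C.D2 ∧ d ≠ 1) : C.flip.Chief p where
  Y := S.Y
  C0 := S.C0
  le_O := S.le_O
  le_U0 := S.le_U0.trans C.flip_U0.ge
  pow_eq := S.pow_eq
  C0_le := S.C0_le
  C0_mem x := by
    rw [S.C0_mem, C.flip_U0]
    exact and_congr_right fun _ => by
      rw [← and_assoc, C.inverted_flip_iff, and_assoc]
  norm := S.norm
  norm_C0 := S.norm_C0
  meet := h
  min := S.min
  comm := S.comm

end Chief

variable {C} {p : ℕ} [Fact p.Prime]

theorem exists_chief (E : C.Env p) {d₀ : G} (hd₀D : d₀ ∈ C.D1) (hd₀O : d₀ ∈ Op p C.H)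
    (hd₀U : d₀ ∈ C.U0) (hd₀1 : d₀ ≠ 1) :
    Nonempty (C.Chief p) ∨ Nonempty (C.flip.Chief p) := by
  have hp2 : p ≠ 2 := E.good.2.1
  set P := Op p C.H ⊓ C.U0 with hPdef
  have hPH := C.H_le_normalizer_P0 p
  have hPU : P ≤ C.U := inf_le_right.trans C.U0_le
  have hPp : IsPGroup p P := (CfsgLib.DGroup.isPGroup_Op p C.H).to_le inf_le_left
  obtain ⟨T, hT⟩ := exists_layer hp2 P
  have hTP : T ≤ P := fun x hx => ((hT x).1 hx).1
  have hTH : C.H ≤ normalizer (T : Set G) := le_normalizer_of_conj fun k hk x hx => by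
    obtain ⟨h1, h2, h3⟩ := (hT x).1 hx
    refine (hT _).2 ⟨conj_mem (hPH hk) h1, by rw [conj_pow, h2]; group, fun y hy => ?_⟩
    have h4 := conj_mem (CfsgLib.DGroup.mem_normalizer_centralizer (hPH hk))
      (h3 _ (conj_mem' (hPH hk) hy))
    convert h4 using 1
    group
  -- the layer meets `D1` or `D2`
  have hTD : ∃ x ∈ T, (x ∈ C.D1 ∨ x ∈ C.D2) ∧ x ≠ 1 := by
    by_contra hne
    push Not at hne
    have hTi := C.inverted_of_disjoint (hTP.trans hPU) hTH (fun x hx h => hne x hx (Or.inl h))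
      (fun x hx h => hne x hx (Or.inr h))
    obtain ⟨d₁, hd₁, hd₁1, he₁⟩ := C.exists_eig (N := P ⊓ C.D1) (inf_le_left.trans hPU)
      (fun hn => C.s_mem_normalizer_inf_D1 hn (hPH C.s_mem_H))
      (fun h => hd₀1 (mem_bot.1 (h ▸ ⟨⟨hd₀O, hd₀U⟩, hd₀D⟩)))
    obtain ⟨k, hk⟩ := exists_pow_of_isPGroup hPp hd₁.1
    have hpo : p ∣ orderOf d₁ := by
      obtain ⟨j, -, hj⟩ := (Nat.dvd_prime_pow (Fact.out : p.Prime)).1 (orderOf_dvd_of_pow_eq_one hk)
      rcases j with _ | j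
      · exact absurd (orderOf_eq_one_iff.1 hj) hd₁1
      · exact hj ▸ dvd_pow_self p (Nat.succ_ne_zero j)
    set d := d₁ ^ (orderOf d₁ / p) with hd
    have hdP : d ∈ P := pow_mem hd₁.1 _
    have hdD : d ∈ C.D1 := pow_mem hd₁.2 _
    have hdo : orderOf d = p := orderOf_pow_orderOf_div (orderOf_pos d₁).ne' hpo
    have hd1 : d ≠ 1 := fun h => (Fact.out : p.Prime).one_lt.ne (by rw [← hdo, h, orderOf_one])
    have he : C.Eig d := fun hn => by
      obtain ⟨i, hi⟩ := mem_zpowers_iff.1 (he₁ hn)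
      refine mem_zpowers_iff.2 ⟨i, ?_⟩
      rw [hd, ← conj_pow, ← hi, ← zpow_natCast, ← zpow_natCast, ← zpow_mul, ← zpow_mul, mul_comm]
    by_cases hcyc : IsCyclic P
    · -- then the fixed element of order `p` is in the layer
      refine hd1 (hne d ((hT d).2 ⟨hdP, hdo ▸ pow_orderOf_eq_one d, fun y hy => ?_⟩) (Or.inl hdD))
      haveI := hcyc
      obtain ⟨g, hg⟩ := IsCyclic.exists_generator (α := P)
      obtain ⟨i, hi⟩ := mem_zpowers_iff.1 (hg ⟨d, hdP⟩)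
      obtain ⟨j, hj⟩ := mem_zpowers_iff.1 (hg ⟨y, hy⟩)
      have : Commute (⟨d, hdP⟩ : P) ⟨y, hy⟩ := hi ▸ hj ▸ (Commute.refl g).zpow_zpow i j
      have h3 : d * y = y * d := congrArg Subtype.val this.eq
      rw [show d * y * d⁻¹ * y⁻¹ = 1 by rw [h3]; group]; exact one_mem _
    obtain ⟨A, hA, hAe, hAc⟩ := CfsgLib.PGroupRank.exists_normal_sq hp2 hPp hcyc
    haveI := hA
    obtain ⟨Tor⟩ := E.torus hdD hdP.1 hd1 he
    have hTd : ∀ x ∈ T, Commute x d := fun x hx => ((hTi x hx).2.2 d hdP.2).symm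
    set Z := A ⊓ center P with hZ
    by_cases hAZ : A ≤ center P
    · -- `A` is central, so cyclic
      have hAT : ∀ x ∈ A, ((x : P) : G) ∈ T := fun x hx => (hT _).2 ⟨x.2, by
        exact_mod_cast congrArg Subtype.val (hAe.2 x hx), fun y hy => by
          have h3 : (y : G) * (x : G) = x * y :=
            congrArg Subtype.val (mem_center_iff.1 (hAZ hx) ⟨y, hy⟩)
          rw [← h3]; simp⟩
      obtain ⟨a, ha, ha1⟩ := A.bot_or_exists_ne_one.resolve_left fun h => by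
        rw [h, card_bot] at hAc
        exact absurd (Nat.dvd_one.1 (hAc.symm ▸ dvd_pow_self p two_ne_zero))
          (Fact.out : p.Prime).one_lt.ne'
      have haT := hAT a ha
      have hle : A.map P.subtype ≤ zpowers (a : G) := by
        rintro _ ⟨x, hx, rfl⟩
        have hxT := hAT x hx
        exact Tor.mem_zpowers_inverted (hPU x.2) (hTd _ hxT) (hTi _ hxT).1 ((hT _).1 hxT).2.1 (hPU a.2)
          (hTd _ haT) (hTi _ haT).1 ((hT _).1 haT).2.1 (fun h => ha1 (Subtype.ext h))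
      have h1 := card_dvd_of_le hle
      rw [card_map_of_injective P.subtype_injective, hAc, Nat.card_zpowers,
        orderOf_eq_prime ((hT _).1 haT).2.1 (fun h => ha1 (Subtype.ext h))] at h1
      have h2 := Nat.le_of_dvd (Fact.out : p.Prime).pos h1
      nlinarith [(Fact.out : p.Prime).two_le]
    · -- an element central modulo the centre is in the layer
      haveI := hPp.isNilpotent
      haveI : (A ⊓ center P).Normal := inferInstance
      set π := QuotientGroup.mk' Z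
      haveI : (A.map π).Normal := Subgroup.Normal.map hA π (QuotientGroup.mk'_surjective _)
      have hAne : A.map π ≠ ⊥ := fun h => hAZ (by
        rw [Subgroup.map_eq_bot_iff, QuotientGroup.ker_mk'] at h
        exact h.trans inf_le_right)
      haveI : Group.IsNilpotent (P ⧸ Z) := nilpotent_quotient_of_nilpotent Z
      obtain ⟨w, hw, hw1⟩ := (Subgroup.bot_or_exists_ne_one _).resolve_left
        (CfsgLib.PGroupBasic.inf_center_ne_bot (A.map π) hAne)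
      obtain ⟨⟨x, hx, rfl⟩, hwc⟩ := hw
      have hxT : (x : G) ∈ T := (hT _).2 ⟨x.2, by exact_mod_cast congrArg Subtype.val (hAe.2 x hx),
        fun y hy => by
          have h3 : (x * ⟨y, hy⟩ * x⁻¹ * (⟨y, hy⟩ : P)⁻¹) ∈ Z := by
            rw [← QuotientGroup.eq_one_iff]
            show π _ = 1
            rw [map_mul, map_mul, map_mul, map_inv, map_inv, (mem_center_iff.1 hwc (π ⟨y, hy⟩)).symm,
              mul_inv_cancel_right, mul_inv_cancel]
          refine mem_centralizer_iff.2 fun v hv => ?_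
          exact congrArg Subtype.val (mem_center_iff.1 h3.2 ⟨v, hv⟩)⟩
      refine hw1 ((QuotientGroup.eq_one_iff x).2 ⟨hx, mem_center_iff.2 fun v => Subtype.ext ?_⟩)
      exact ((hTi _ hxT).2.2 _ (v.2 : (v : G) ∈ P).2).eq
  -- the minimal one
  obtain ⟨Y, ⟨hYT, hYH, hYD⟩, hYmin⟩ := Set.Finite.exists_minimal
    (s := {N : Subgroup G | N ≤ T ∧ C.H ≤ normalizer (N : Set G) ∧
      ∃ d ∈ N, (d ∈ C.D1 ∨ d ∈ C.D2) ∧ d ≠ 1})
    (Set.toFinite _) ⟨T, le_rfl, hTH, hTD⟩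
  have hYU : Y ≤ C.U := hYT.trans (hTP.trans hPU)
  let C0 : Subgroup G :=
    { carrier := {x | x ∈ Y ∧ C.t * x * C.t = x⁻¹ ∧ C.s * C.t * x * (C.s * C.t) = x⁻¹ ∧
        ∀ v ∈ C.U0, Commute v x}
      one_mem' := ⟨one_mem Y, by rw [mul_one, C.inv_t.1, inv_one],
        by rw [mul_one, C.inv_st.1, inv_one], fun v _ => Commute.one_right v⟩
      mul_mem' := fun {x y} hx hy => by
        have hxy : Commute x y := hy.2.2.2 x (hTP (hYT hx.1)).2
        refine ⟨mul_mem hx.1 hy.1, ?_, ?_, fun v hv => (hx.2.2.2 v hv).mul_right (hy.2.2.2 v hv)⟩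
        · rw [invol_mul C.inv_t.1, hx.2.1, hy.2.1, mul_inv_rev]; exact hxy.inv_inv.eq
        · rw [invol_mul C.inv_st.1, hx.2.2.1, hy.2.2.1, mul_inv_rev]; exact hxy.inv_inv.eq
      inv_mem' := fun {x} hx => ⟨inv_mem hx.1, inverted_inv C.inv_t.1 hx.2.1,
        inverted_inv C.inv_st.1 hx.2.2.1, fun v hv => (hx.2.2.2 v hv).inv_right⟩ }
  have hC0 : ∀ x, x ∈ C0 ↔ x ∈ Y ∧ C.t * x * C.t = x⁻¹ ∧ C.s * C.t * x * (C.s * C.t) = x⁻¹ ∧
      ∀ v ∈ C.U0, Commute v x := fun x => Iff.rfl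
  have hCP : ∀ g ∈ (C.P : Subgroup G), ∀ x ∈ C0, g * x * g⁻¹ ∈ C0 := by
    intro g hg x hx
    have hs : ∀ i : ℤ, Commute (C.s ^ i) x := fun i =>
      (C.commute_s_of_inverted hx.2.1 hx.2.2.1).zpow_left i
    obtain ⟨i, rfl | rfl⟩ := C.exists_cases hg
    · rw [(hs i).eq, mul_inv_cancel_right]; exact hx
    · rw [show C.s ^ i * C.t * x * (C.s ^ i * C.t)⁻¹ =
        C.s ^ i * (C.t * x * C.t⁻¹) * (C.s ^ i)⁻¹ by group, C.inv_t.inv_eq, hx.2.1,
        (hs i).inv_right.eq, mul_inv_cancel_right]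
      exact inv_mem hx
  have hCH : C.H ≤ normalizer (C0 : Set G) := le_normalizer_of_conj fun k hk x hx => by
    obtain ⟨u, hu, g, hg, rfl⟩ := C.exists_mul_P hk
    obtain ⟨hwY, hwt, hwst, hwc⟩ := hCP g hg x hx
    rw [show u * g * x * (u * g)⁻¹ = u * (g * x * g⁻¹) * u⁻¹ by group]
    refine (hC0 _).2 ⟨conj_mem (hYH (C.U_le_H hu)) hwY,
      C.inverted_conj_U C.inv_t.1 C.t_norm_U le_sup_left hwt hwc hu,
      C.inverted_conj_U C.inv_st.1 C.st_norm_U le_sup_right hwst hwc hu, fun v hv => ?_⟩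
    have h2 := (Commute.conj_iff u).2 (hwc _ (conj_mem' (C.U_le_normalizer_U0 hu) hv))
    rwa [show u * (u⁻¹ * v * u) * u⁻¹ = v by group] at h2
  have hmin : ∀ N ≤ Y, C.H ≤ normalizer (N : Set G) → N = Y ∨ N ≤ C0 := by
    intro N hN hNH
    by_cases hd : ∃ d ∈ N, (d ∈ C.D1 ∨ d ∈ C.D2) ∧ d ≠ 1
    · exact Or.inl (le_antisymm hN (hYmin ⟨hN.trans hYT, hNH, hd⟩ hN))
    push Not at hd
    exact Or.inr fun x hx => (hC0 x).2 ⟨hN hx, C.inverted_of_disjoint (hN.trans hYU) hNH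
      (fun y hy h => hd y hy (Or.inl h)) (fun y hy h => hd y hy (Or.inr h)) x hx⟩
  have hcomm : ∀ v ∈ Y, ∀ w ∈ Y, v * w * v⁻¹ * w⁻¹ ∈ C0 := by
    intro v hv w hw
    set Zc := Y ⊓ centralizer (P : Set G) with hZc
    have hZH : C.H ≤ normalizer (Zc : Set G) := le_normalizer_of_conj fun k hk x hx =>
      ⟨conj_mem (hYH hk) hx.1, conj_mem (CfsgLib.DGroup.mem_normalizer_centralizer (hPH hk)) hx.2⟩
    rcases hmin Zc inf_le_left hZH with h | h
    · have : v ∈ Zc := h.symm ▸ hv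
      rw [show v * w = w * v from (mem_centralizer_iff.1 this.2 w (hTP (hYT hw))).symm]
      simp
    · exact h ⟨(mul_mem (mul_mem (mul_mem hv hw) (inv_mem hv)) (inv_mem hw) : v * w * v⁻¹ * w⁻¹ ∈ Y),
        ((hT v).1 (hYT hv)).2.2 w (hTP (hYT hw))⟩
  have hYO : Y ≤ Op p C.H := fun x hx => (hTP (hYT hx)).1
  have hY0 : Y ≤ C.U0 := fun x hx => (hTP (hYT hx)).2
  have hYp : ∀ x ∈ Y, x ^ p = 1 := fun x hx => ((hT x).1 (hYT hx)).2.1
  obtain ⟨d, hd, hdD | hdD, hd1⟩ := hYD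
  · exact Or.inl ⟨⟨Y, C0, hYO, hY0, hYp, fun x hx => hx.1, hC0, hYH, hCH, ⟨d, hd, hdD, hd1⟩, hmin, hcomm⟩⟩
  · refine Or.inr ⟨⟨Y, C0, hYO, hY0.trans C.flip_U0.ge, hYp, fun x hx => hx.1, ?_, hYH, hCH,
      ⟨d, hd, hdD, hd1⟩, hmin, hcomm⟩⟩
    intro x
    rw [hC0, C.flip_U0]
    exact and_congr_right fun _ => by
      rw [← and_assoc, C.inverted_flip_iff, and_assoc]

end Ctx

end CfsgLib.GW.Eight
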