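import Cfsg.Agent.GW.Eight.N4
import Cfsg.Agent.GW.Eight.Final
import Cfsg.Agent.GW.Eight.Coatom

/-!
# Gorenstein–Walter, `|S| ≥ 8`: one of `D1`, `D2` is trivial, given the tori and linear-character theorem
-/

set_option autoImplicit false
set_option linter.style.haveILetI false
set_option linter.unusedSectionVars false

namespace CfsgLib.GW.Eight.Ctx

open Subgroup
open CfsgLib.DGroup (Op)

universe u

variable {G : Type u} [Group G] [Fintype G] [Fact (Nat.Prime 2)] (C : Ctx G)

/-- One of the two reflection classes has no fixed point on `U`. -/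
theorem result_of (hsup : TorusSupply G) (hLIN : NoLinear G) (hLIN' : NoLinearFixed G) :
    C.D1 = ⊥ ∨ C.D2 = ⊥ := by
  by_contra h
  rw [not_or] at h
  have hmax := C.isCoatom_H h.1 h.2
  refine (C.result_of_inputs hmax ?_ hLIN hLIN').elim h.1 h.2
  intro E hm h1 h2 q hq hg d hd hd0 hD
  haveI : Fact q.Prime := ⟨hq⟩
  exact eq_one_of_good ⟨hm, h1, h2, hg, hsup⟩ hd hd0 hD

end CfsgLib.GW.Eight.Ctx
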