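import Cfsg.Agent.GW.Eight.Inverts
import Cfsg.Agent.GW.Eight.Fixed
import Cfsg.Agent.GW.Eight.FixedLine
import Cfsg.Agent.GW.CaseI.PlaneSection

/-!
# Gorenstein–Walter, `|S| ≥ 8`: an abelian layer

The rotations act on it with order at most two and `s` centralises its part inverted by `t`, so it is a
plane; on the fixed line `s` is `1` or `-1`, both excluded.
-/

set_option autoImplicit false
set_option linter.style.haveILetI false
set_option linter.unusedSectionVars false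

namespace CfsgLib.GW.Eight.Ctx

open Subgroup
open CfsgLib.GW.CaseI (invGen mem_invGen invGen_le exists_split conj_invol_eq conj_eq_of_commute
  commute_of_conj_eq invol_mul commute_of_fixed commute_of_le_inverted exists_fixed_of_inverted
  plane_section le_normalizer_of_conj mem_normalizer_invGen_of_commute inverted_conj)
open CfsgLib.DGroup (Op conj_mem conj_mem' odd_orderOf eq_one_of_inv_eq)

universe u

variable {G : Type u} [Group G] [Fintype G] [Fact (Nat.Prime 2)] {C : Ctx G}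

/-- Conjugation by `t` after conjugation by a rotation. -/
theorem conj_t_conj_rot {a : G} (ha : a ∈ zpowers C.s) (x : G) :
    C.t * (a * x * a⁻¹) * C.t = a⁻¹ * (C.t * x * C.t) * a := by
  obtain ⟨k, rfl⟩ := mem_zpowers_iff.1 ha
  have h : C.t * C.s ^ k * C.t = (C.s ^ k)⁻¹ := by
    rw [← conj_invol_eq C.inv_t.1, ← conj_zpow, C.data.rel, inv_zpow]
  calc C.t * (C.s ^ k * x * (C.s ^ k)⁻¹) * C.t
      = C.t * C.s ^ k * C.t * (C.t⁻¹ * x * C.t⁻¹) * (C.t * (C.s ^ k)⁻¹ * C.t) := by group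
    _ = _ := by
      rw [h, C.inv_t.inv_eq, CfsgLib.GW.CaseI.invol_inv C.inv_t.1, h, inv_inv]

/-- Either `s * s` centralises a subgroup or a square of a rotation is an involution on it. -/
theorem exists_last (Y : Subgroup G) :
    (∀ w ∈ Y, Commute (C.s * C.s) w) ∨ ∃ a ∈ zpowers C.s,
      (∀ w ∈ Y, Commute (a * a * (a * a)) w) ∧ ∃ w ∈ Y, ¬ Commute (a * a) w := by
  classical
  have hex : ∃ i : ℕ, ∀ w ∈ Y, Commute (C.s ^ 2 ^ i) w := ⟨C.n - 1, fun w _ => by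
    rw [← C.data.ordσ, pow_orderOf_eq_one]; exact Commute.one_left w⟩
  have hdbl : ∀ i : ℕ, C.s ^ 2 ^ (i + 1) = C.s ^ 2 ^ i * C.s ^ 2 ^ i := fun i => by
    rw [← pow_add, pow_succ, mul_two]
  obtain ⟨m, hm, hmin⟩ : ∃ m, (∀ w ∈ Y, Commute (C.s ^ 2 ^ m) w) ∧
      ∀ i < m, ¬ ∀ w ∈ Y, Commute (C.s ^ 2 ^ i) w :=
    ⟨Nat.find hex, Nat.find_spec hex, fun i hi => Nat.find_min hex hi⟩
  rcases m with _ | _ | m
  · exact Or.inl fun w hw => by
      have := hm w hw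
      rw [pow_zero, pow_one] at this
      exact this.mul_left this
  · exact Or.inl fun w hw => by simpa [pow_two] using hm w hw
  · have := hmin (m + 1) (Nat.lt_succ_self _)
    push Not at this
    refine Or.inr ⟨C.s ^ 2 ^ m, npow_mem_zpowers _ _, fun w hw => ?_, ?_⟩
    · rw [← hdbl, ← hdbl]; exact hm w hw
    · rw [← hdbl]; exact this

/-- An abelian layer is impossible. -/
theorem Chief.false_of_mixed {p : ℕ} [Fact p.Prime] (S : C.Chief p) (E : C.Env p)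
    (h0 : ∀ x ∈ S.C0, x = 1) : False := by
  have htt := C.inv_t.1
  have hst := C.inv_st.1
  have hcomm : ∀ v ∈ S.Y, ∀ w ∈ S.Y, Commute v w := fun v hv w hw =>
    (mul_inv_eq_iff_eq_mul.1 (mul_inv_eq_one.1 (h0 _ (S.comm v hv w hw))) : v * w = w * v)
  have hsY : C.s ∈ normalizer (S.Y : Set G) := S.norm C.s_mem_H
  by_cases hY1 : S.Y ≤ C.D1
  · exact S.false_of_fixed E hY1
  by_cases hY2 : S.Y ≤ C.D2
  · obtain ⟨d, hd, -, hd1⟩ := S.meet
    exact (S.flip ⟨d, hd, hY2 hd, hd1⟩).false_of_fixed E.flip hY2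
  obtain ⟨y₀, hy₀, hy₀t, hy₀1⟩ : ∃ y ∈ S.Y, C.t * y * C.t = y⁻¹ ∧ y ≠ 1 := by
    obtain ⟨w, hw, hwD⟩ := SetLike.not_le_iff_exists.1 hY1
    obtain ⟨c, hc, hcD, i, hi, hit, rfl⟩ := S.split hw
    exact ⟨i, hi, hit, fun e => hwD (by rw [e, mul_one]; exact hcD)⟩
  obtain ⟨d₀, hd₀, hd₀D, hd₀1, he₀⟩ := S.exists_meet
  obtain ⟨T₀⟩ := S.torus E hd₀ hd₀D hd₀1 he₀
  have hline₀ : ∀ {z : G}, z ∈ S.Y → C.t * z * C.t = z⁻¹ → z ≠ 1 →
      ∀ i ∈ S.Y, C.t * i * C.t = i⁻¹ → i ∈ zpowers z := fun {z} hz hzt hz1 i hi hit =>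
    T₀.mem_zpowers_inverted (S.le_U hi) (hcomm i hi d₀ hd₀) hit (S.pow_eq i hi) (S.le_U hz)
      (hcomm z hz d₀ hd₀) hzt (S.pow_eq z hz) hz1
  -- `s * s` centralises the layer
  have h2 : ∀ w ∈ S.Y, Commute (C.s * C.s) w := by
    by_cases hn : C.n = 3
    · exact fun w hw => C.commute_sq_of_eight hn (S.le_U hw)
    refine (exists_last (C := C) S.Y).resolve_right ?_
    rintro ⟨a, ha, har, x, hx, hxr⟩
    set r := a * a with hr
    have hrs : r ∈ zpowers C.s := mul_mem ha ha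
    have haY : a ∈ normalizer (S.Y : Set G) := zpowers_le.2 hsY ha
    have hrY : r ∈ normalizer (S.Y : Set G) := mul_mem haY haY
    have hrr : ∀ w ∈ S.Y, r⁻¹ * w * r = r * w * r⁻¹ := fun w hw => by
      calc r⁻¹ * w * r = r⁻¹ * (w * (r * r)) * r⁻¹ := by group
        _ = r⁻¹ * (r * r * w) * r⁻¹ := by rw [(har w hw).eq]
        _ = _ := by group
    have hrt : ∀ w ∈ S.Y, C.t * (r * w * r⁻¹) * C.t = r * (C.t * w * C.t) * r⁻¹ := fun w hw => by
      rw [conj_t_conj_rot hrs,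
        hrr _ (conj_invol_eq htt w ▸ conj_mem (S.norm C.t_mem_H) hw)]
    -- no fixed element is inverted by `r`
    have hclaim : ∀ c ∈ S.Y, c ∈ C.D1 → r * c * r⁻¹ = c⁻¹ → c = 1 := by
      intro c hc hcD hcr
      by_contra hc1
      obtain ⟨T⟩ := S.torus E hc hcD hc1 fun h => absurd h hn
      rcases T.rot r hrs (by rw [hcr]; exact inv_mem (mem_zpowers c)) (har c hc) with hg | hg
      swap
      · rw [hg.2.1.eq, mul_inv_cancel_right] at hcr
        exact hc1 (eq_one_of_inv_eq hcr.symm (odd_orderOf C.odd_U (S.le_U hc)))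
      set c' := a * c * a⁻¹ with hc'
      have hc'Y : c' ∈ S.Y := conj_mem haY hc
      have hc'r : r * c' * r⁻¹ = c'⁻¹ := by
        rw [hc', hr, show a * a * (a * c * a⁻¹) * (a * a)⁻¹ = a * (a * a * c * (a * a)⁻¹) * a⁻¹ by group,
          ← hr, hcr, conj_inv]
      have hc't : C.t * c' * C.t = c'⁻¹ := by
        rw [hc', conj_t_conj_rot ha, conj_eq_of_commute htt (C.mem_D1.1 hcD).2,
          show a⁻¹ * c * a = r⁻¹ * (a * c * a⁻¹) * r by rw [hr]; group, ← hc', hrr c' hc'Y, hc'r]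
      obtain ⟨k, hk⟩ := mem_zpowers_iff.1 (T.gen c' (S.le_U hc'Y) (hcomm c' hc'Y c hc) hc't)
      rw [← hk, (hg.zpow_right k).eq, mul_inv_cancel_right, hk] at hc'r
      exact hc1 (conj_eq_one_iff.1 (eq_one_of_inv_eq hc'r.symm (odd_orderOf C.odd_U (S.le_U hc'Y))))
    set w := x⁻¹ * (r * x * r⁻¹) with hw
    have hwY : w ∈ S.Y := mul_mem (inv_mem hx) (conj_mem hrY hx)
    have hw1 : w ≠ 1 := fun e => hxr (mul_inv_eq_iff_eq_mul.1 (inv_mul_eq_one.1 e).symm)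
    have hwr : r * w * r⁻¹ = w⁻¹ := by
      rw [hw, ← conj_mul, show r * (r * x * r⁻¹) * r⁻¹ = r * r * x * (r * r)⁻¹ by group,
        (har x hx).eq, mul_inv_cancel_right]
      group
    obtain ⟨c, hc, hcD, i, hi, hit, hwe⟩ := S.split hwY
    have hrc : r * c * r⁻¹ ∈ C.D1 := C.mem_D1.2 ⟨S.le_U (conj_mem hrY hc), commute_of_conj_eq htt (by
      rw [hrt c hc, conj_eq_of_commute htt (C.mem_D1.1 hcD).2])⟩
    obtain ⟨e1, e2⟩ := C.eq_of_mul_eq hrc (inv_mem hcD) (S.le_U (conj_mem hrY hi))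
      (inv_mem (S.le_U hi)) (by rw [hrt i hi, hit, conj_inv])
      (CfsgLib.GW.CaseI.inverted_inv htt hit) (by
        rw [conj_mul, ← hwe, hwr, hwe, mul_inv_rev, ((hcomm i hi c hc).inv_inv).eq])
    have hc1 := hclaim c hc hcD e1
    have hi' : a * i * a⁻¹ = 1 := by
      have hiY := conj_mem haY hi
      have hir : r * (a * i * a⁻¹) * r⁻¹ = (a * i * a⁻¹)⁻¹ := by
        rw [hr, show a * a * (a * i * a⁻¹) * (a * a)⁻¹ = a * (a * a * i * (a * a)⁻¹) * a⁻¹ by group,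
          ← hr, e2, conj_inv]
      refine hclaim _ hiY (C.mem_D1.2 ⟨S.le_U hiY, commute_of_conj_eq htt ?_⟩) hir
      rw [conj_t_conj_rot ha, hit, show a⁻¹ * i⁻¹ * a = (r⁻¹ * (a * i * a⁻¹) * r)⁻¹ by rw [hr]; group,
        hrr _ hiY, hir, inv_inv]
    exact hw1 (by rw [hwe, hc1, conj_eq_one_iff.1 hi', one_mul])
  have hs2 : ∀ w ∈ S.Y, C.s * (C.s * w * C.s⁻¹) * C.s⁻¹ = w := fun w hw => by
    rw [show C.s * (C.s * w * C.s⁻¹) * C.s⁻¹ = C.s * C.s * w * (C.s * C.s)⁻¹ by group,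
      (h2 w hw).eq, mul_inv_cancel_right]
  have hwinv : ∀ x ∈ S.Y, C.s * (x⁻¹ * (C.s * x * C.s⁻¹)) * C.s⁻¹ = (x⁻¹ * (C.s * x * C.s⁻¹))⁻¹ :=
    fun x hx => by rw [← conj_mul, hs2 x hx]; group
  have hne1 : ∀ x : G, ¬ Commute C.s x → x⁻¹ * (C.s * x * C.s⁻¹) ≠ 1 := fun x hxs e =>
    hxs (mul_inv_eq_iff_eq_mul.1 (inv_mul_eq_one.1 e).symm)
  have hfixD : ∀ x ∈ S.Y, x ∈ C.D1 → x⁻¹ * (C.s * x * C.s⁻¹) ∈ C.D1 := fun x hx hxD =>
    mul_mem (inv_mem hxD) (C.conj_s_mem_D1 hxD (h2 x hx))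
  have hsinv : ∀ i ∈ S.Y, C.t * i * C.t = i⁻¹ →
      C.t * (C.s * i * C.s⁻¹) * C.t = (C.s * i * C.s⁻¹)⁻¹ := fun i hi hit => by
    rw [C.conj_t_conj_s, hit]
    calc C.s⁻¹ * i⁻¹ * C.s = C.s⁻¹ * (i⁻¹ * (C.s * C.s)) * C.s⁻¹ := by group
      _ = C.s⁻¹ * (C.s * C.s * i⁻¹) * C.s⁻¹ := by rw [(h2 i hi).inv_right.eq]
      _ = _ := by group
  -- an inverted eigenvector
  obtain ⟨y, hy, hyt, hy1, hys⟩ : ∃ y ∈ S.Y, C.t * y * C.t = y⁻¹ ∧ y ≠ 1 ∧
      (Commute C.s y ∨ C.s * y * C.s⁻¹ = y⁻¹) := by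
    by_cases h : Commute C.s y₀
    · exact ⟨y₀, hy₀, hy₀t, hy₀1, Or.inl h⟩
    refine ⟨_, mul_mem (inv_mem hy₀) (conj_mem hsY hy₀), ?_, hne1 _ h, Or.inr (hwinv y₀ hy₀)⟩
    rw [invol_mul htt, CfsgLib.GW.CaseI.invol_inv htt, hy₀t, inv_inv, hsinv y₀ hy₀ hy₀t]
    exact (hcomm y₀ hy₀ _ (inv_mem (conj_mem hsY hy₀))).eq.trans (by group)
  have hline := hline₀ hy hyt hy1
  have hys : Commute C.s y := by
    refine hys.resolve_right fun hys => hY2 fun w hw => ?_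
    have hfix : ∀ x ∈ S.Y, x ∈ C.D1 → Commute C.s x := by
      intro x hx hxD
      by_contra hxs
      have hcY : x⁻¹ * (C.s * x * C.s⁻¹) ∈ S.Y := mul_mem (inv_mem hx) (conj_mem hsY hx)
      have hcs := hwinv x hx
      obtain ⟨T⟩ := S.torus E hcY (hfixD x hx hxD) (hne1 x hxs) (C.Eig_of_conj_eq (Or.inr hcs))
      rcases T.rot C.s (mem_zpowers _) (by rw [hcs]; exact inv_mem (mem_zpowers _)) (h2 _ hcY)
        with hg | hg
      · obtain ⟨k, hk⟩ := mem_zpowers_iff.1 (T.gen y (S.le_U hy) (hcomm y hy _ hcY) hyt)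
        rw [← hk, (hg.zpow_right k).eq, mul_inv_cancel_right, hk] at hys
        exact hy1 (eq_one_of_inv_eq hys.symm (odd_orderOf C.odd_U (S.le_U hy)))
      · rw [hg.2.1.eq, mul_inv_cancel_right] at hcs
        exact hne1 x hxs (eq_one_of_inv_eq hcs.symm (odd_orderOf C.odd_U (S.le_U hcY)))
    obtain ⟨c, hc, hcD, i, hi, hit, rfl⟩ := S.split hw
    obtain ⟨k, rfl⟩ := mem_zpowers_iff.1 (hline i hi hit)
    refine C.mem_D2.2 ⟨S.le_U hw, commute_of_conj_eq hst ?_⟩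
    rw [← C.conj_s_conj_t, invol_mul htt, conj_eq_of_commute htt (C.mem_D1.1 hcD).2, hit, ← conj_mul,
      (hfix c hc hcD).eq, mul_inv_cancel_right, ← conj_inv, ← conj_zpow, hys, inv_zpow, inv_inv]
  have hyst := C.inverted_st_of_commute hyt hys
  have hsg : ∀ {e : G}, e ∈ S.Y → (T : Torus C e) → C.s * e * C.s⁻¹ ∈ zpowers e → Commute C.s T.g := by
    intro e he T hse
    refine (T.rot C.s (mem_zpowers _) hse (h2 e he)).resolve_right fun hg => hy1 ?_
    obtain ⟨k, hk⟩ := mem_zpowers_iff.1 (T.gen y (S.le_U hy) (hcomm y hy e he) hyt)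
    have h : C.s * y * C.s⁻¹ = y⁻¹ := by rw [← hk, ← conj_zpow, hg.2.2, inv_zpow]
    rw [hys.eq, mul_inv_cancel_right] at h
    exact eq_one_of_inv_eq h.symm (odd_orderOf C.odd_U (S.le_U hy))
  -- `s` is `1` or `-1` on the fixed points
  have hpm : (∀ c ∈ S.Y, c ∈ C.D1 → Commute C.s c) ∨
      ∀ c ∈ S.Y, c ∈ C.D1 → C.s * c * C.s⁻¹ = c⁻¹ := by
    by_contra h
    push Not at h
    obtain ⟨⟨x, hx, hxD, hxs⟩, ⟨x', hx', hx'D, hx's⟩⟩ := h
    set e := x⁻¹ * (C.s * x * C.s⁻¹) with he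
    set u := C.s * x' * C.s⁻¹ * x' with hu
    have heY : e ∈ S.Y := mul_mem (inv_mem hx) (conj_mem hsY hx)
    have huY : u ∈ S.Y := mul_mem (conj_mem hsY hx') hx'
    have huD : u ∈ C.D1 := mul_mem (C.conj_s_mem_D1 hx'D (h2 x' hx')) hx'D
    have hu1 : u ≠ 1 := fun h1 => hx's (eq_inv_of_mul_eq_one_left h1)
    have hus : C.s * u * C.s⁻¹ = u := by
      rw [hu, ← conj_mul, hs2 x' hx']; exact (hcomm x' hx' _ (conj_mem hsY hx')).eq
    have hu2 : u ∈ C.flip.D1 := C.mem_D2.2 ⟨S.le_U huY,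
      Commute.mul_right (mul_inv_eq_iff_eq_mul.1 hus : Commute C.s u).symm (C.mem_D1.1 huD).2⟩
    obtain ⟨T2⟩ := E.flip.torus hu2 (S.le_O huY) hu1 (C.Eig_of_conj_eq (Or.inl hus))
    have hest : C.s * C.t * e * (C.s * C.t) = e⁻¹ := by
      rw [← C.conj_s_conj_t, conj_eq_of_commute htt (C.mem_D1.1 (hfixD x hx hxD)).2]
      exact hwinv x hx
    obtain ⟨k, hk⟩ := mem_zpowers_iff.1 (T2.mem_zpowers_inverted (S.le_U heY) (hcomm e heY u huY) hest
      (S.pow_eq e heY) (S.le_U hy) (hcomm y hy u huY) hyst (S.pow_eq y hy) hy1)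
    exact hne1 x hxs (eq_one_of_fixed (hfixD x hx hxD) (by rw [← he, ← hk]; exact inverted_zpow htt hyt k))
  have hEig : ∀ c ∈ S.Y, c ∈ C.D1 → C.s * c * C.s⁻¹ ∈ zpowers c := fun c hc hcD => by
    rcases hpm with h | h
    · rw [(h c hc hcD).eq, mul_inv_cancel_right]; exact mem_zpowers c
    · rw [h c hc hcD]; exact inv_mem (mem_zpowers c)
  obtain ⟨d, hd, hdD, hd1⟩ := S.meet
  obtain ⟨T⟩ := S.torus E hd hdD hd1 fun _ => hEig d hd hdD
  have hdt : C.t * d * C.t = d := conj_eq_of_commute htt (C.mem_D1.1 hdD).2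
  have hU1 : ∀ {x : G}, x ∈ C.U1 → x ∈ C.U := fun h => invGen_le _ _ h
  have hgen : closure {x | x ∈ C.U1 ∧ C.t * x * C.t = x⁻¹} = C.U1 := by
    refine le_antisymm ((closure_le _).2 fun x hx => hx.1) ?_
    exact (closure_le _).2 fun x hx => subset_closure ⟨mem_invGen hx.1 hx.2, hx.2⟩
  have htU1 : C.t ∈ normalizer (C.U1 : Set G) :=
    mem_normalizer_invGen_of_commute htt (Commute.refl _) C.t_norm_U
  have hodd1 : Odd (Nat.card C.U1) := C.odd_U.of_dvd_nat (card_dvd_of_le (invGen_le _ _))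
  -- `⟨y⟩` is not invariant
  have hnot : ¬ ∀ x ∈ C.U1, x * y * x⁻¹ ∈ zpowers y := by
    intro h
    have hg : ∀ g, g * y * g⁻¹ ∈ zpowers y → ∀ w ∈ zpowers y, g * w * g⁻¹ ∈ zpowers y := by
      intro g hg w hw
      obtain ⟨k, rfl⟩ := mem_zpowers_iff.1 hw
      rw [← conj_zpow]; exact zpow_mem hg k
    have hP : ∀ g ∈ (C.P : Subgroup G), g * y * g⁻¹ ∈ zpowers y := by
      intro g hg'
      obtain ⟨i, rfl | rfl⟩ := C.exists_cases hg'
      · rw [(hys.zpow_left i).eq, mul_inv_cancel_right]; exact mem_zpowers y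
      · rw [show C.s ^ i * C.t * y * (C.s ^ i * C.t)⁻¹ =
          C.s ^ i * (C.t * y * C.t⁻¹) * (C.s ^ i)⁻¹ by group, C.inv_t.inv_eq, hyt,
          (hys.zpow_left i).inv_right.eq, mul_inv_cancel_right]
        exact inv_mem (mem_zpowers y)
    have hN : C.H ≤ normalizer (zpowers y : Set G) := by
      refine le_normalizer_of_conj fun k hk w hw => hg k ?_ w hw
      obtain ⟨u, hu, v, hv, rfl⟩ := C.exists_mul_P hk
      obtain ⟨e, he, i, hi, hit, rfl⟩ := C.exists_mul_t hu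
      rw [show e * i * v * y * (e * i * v)⁻¹ = e * (i * (v * y * v⁻¹) * i⁻¹) * e⁻¹ by group]
      exact hg e (hline _ (conj_mem (S.norm (C.U_le_H (C.D1_le_U he))) hy)
          (inverted_conj htt (C.mem_D1.1 he).2 hyt)) _
        (hg i (h i (mem_invGen hi hit)) _ (hP v hv))
    rcases S.min _ (zpowers_le.2 hy) hN with h' | h'
    · obtain ⟨k, hk⟩ := mem_zpowers_iff.1 (h'.symm ▸ hd : d ∈ zpowers y)
      exact hd1 (eq_one_of_fixed hdD (hk ▸ inverted_zpow htt hyt k))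
    · exact hy1 (h0 y (h' (mem_zpowers y)))
  -- the fixed points form a line
  have hfix : ∀ w ∈ S.Y, w ∈ C.D1 → w ∈ zpowers d := by
    by_contra hne
    push Not at hne
    obtain ⟨w, hw, hwD, hwd⟩ := hne
    have hxfix : ∀ x' ∈ C.U, C.t * x' * C.t = x'⁻¹ →
        ∃ d' ∈ S.Y, d' ∈ C.D1 ∧ d' ≠ 1 ∧ Commute x' d' := by
      intro x' hx' hx't
      classical
      set A := S.Y ⊓ C.D1 with hA
      have hA' : ∀ e : A, ∃ i : zpowers y, x' * (e : G) * x'⁻¹ * (i : G)⁻¹ ∈ C.D1 := fun e => by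
        obtain ⟨c', hc', hc'D, i, hi, hit, he⟩ := S.split (conj_mem (S.norm (C.U_le_H hx')) e.2.1)
        exact ⟨⟨i, hline i hi hit⟩, by rw [he, mul_inv_cancel_right]; exact hc'D⟩
      choose σ hσ using hA'
      have hcard : Nat.card (zpowers y) < Nat.card A := by
        rw [Nat.card_zpowers, S.orderOf_eq hy hy1, ← S.orderOf_eq hd hd1, ← Nat.card_zpowers]
        exact lt_of_le_of_ne (card_le_of_le (zpowers_le.2 (⟨hd, hdD⟩ : d ∈ A))) fun h =>
          hwd (eq_of_le_of_card_ge (zpowers_le.2 (⟨hd, hdD⟩ : d ∈ A)) h.ge ▸ ⟨hw, hwD⟩)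
      have hni : ¬ Function.Injective σ := fun h =>
        absurd (Nat.card_le_card_of_injective σ h) (not_le.2 hcard)
      obtain ⟨e₁, e₂, he, hne'⟩ : ∃ e₁ e₂, σ e₁ = σ e₂ ∧ e₁ ≠ e₂ := by
        simpa [Function.Injective, not_forall] using hni
      refine ⟨(e₁ : G)⁻¹ * e₂, mul_mem (inv_mem e₁.2.1) e₂.2.1, mul_mem (inv_mem e₁.2.2) e₂.2.2,
        fun h => hne' (Subtype.ext (inv_mul_eq_one.1 h)),
        commute_of_fixed htt (odd_orderOf C.odd_U hx') hx't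
          (C.mem_D1.1 (mul_mem (inv_mem e₁.2.2) e₂.2.2)).2 ?_⟩
      have h1 : x' * (e₁ : G) * x'⁻¹ * (σ e₁ : G)⁻¹ ∈ C.D1 := hσ e₁
      have h3 := hσ e₂
      rw [← he] at h3
      have hi : (σ e₁ : G) ∈ S.Y := zpowers_le.2 hy (σ e₁).2
      set m := (x' * (e₁ : G) * x'⁻¹ * (σ e₁ : G)⁻¹)⁻¹ * (x' * (e₂ : G) * x'⁻¹ * (σ e₁ : G)⁻¹)
        with hm
      have hmY : m ∈ S.Y := mul_mem (inv_mem (mul_mem (conj_mem (S.norm (C.U_le_H hx')) e₁.2.1)
        (inv_mem hi))) (mul_mem (conj_mem (S.norm (C.U_le_H hx')) e₂.2.1) (inv_mem hi))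
      have he' : x' * ((e₁ : G)⁻¹ * e₂) * x'⁻¹ = (σ e₁ : G)⁻¹ * m * (σ e₁ : G) := by
        rw [hm]; group
      rw [he', (hcomm _ (inv_mem hi) m hmY).eq, inv_mul_cancel_right]
      exact (C.mem_D1.1 (mul_mem (inv_mem h1) h3)).2
    obtain ⟨z, hz, hz1, hzc⟩ := exists_fixed_of_inverted (p := p) (b := C.t) (U := C.U1)
      (Y := S.Y ⊓ C.U1) htt hodd1 hgen htU1 inf_le_right
      (le_normalizer_of_conj fun k hk v hv => ⟨conj_mem (S.norm (C.U_le_H (hU1 hk))) hv.1,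
        show k * v * k⁻¹ ∈ C.U1 from mul_mem (mul_mem hk (show v ∈ C.U1 from hv.2)) (inv_mem hk)⟩)
      (mem_normalizer_iff.2 fun v => by
        rw [mem_inf, mem_inf, mem_normalizer_iff.1 (S.norm C.t_mem_H) v,
          mem_normalizer_iff.1 htU1 v])
      (S.isPGroup.to_le inf_le_left)
      (fun h => hy1 (mem_bot.1 (h ▸ ⟨hy, mem_invGen (S.le_U hy) hyt⟩)))
      (by
        intro x' hx' hx't hxp v hv
        obtain ⟨d', hd', hd'D, hd'1, hxd'⟩ := hxfix x' (hU1 hx') hx't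
        obtain ⟨T'⟩ := S.torus E hd' hd'D hd'1 fun _ => hEig d' hd' hd'D
        exact T'.centralises (Fact.out : p.Prime) (hU1 hx') hxd' hx't S.isPGroup
          (le_inf S.le_U fun v hv => mem_centralizer_singleton_iff.2 (hcomm v hv d' hd').eq)
          (S.norm (C.U_le_H (hU1 hx')))
          ((Fact.out : p.Prime).coprime_iff_not_dvd.2 hxp).symm v hv.1)
    obtain ⟨c, hc, hcD, i, hi, hit, rfl⟩ := S.split hz.1
    have hcc : ∀ v ∈ C.U1, Commute v c := by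
      intro v hv
      have h' : Commute v (C.t * (c * i) * C.t) := by
        have h1 := (Commute.conj_iff C.t).2 (hzc _ (conj_invol_eq htt v ▸ conj_mem htU1 hv))
        rwa [conj_invol_eq htt, conj_invol_eq htt,
          show C.t * (C.t * v * C.t) * C.t = C.t * C.t * v * (C.t * C.t) by group, htt, one_mul,
          mul_one] at h1
      rw [invol_mul htt, conj_eq_of_commute htt (C.mem_D1.1 hcD).2, hit] at h'
      have h3 : Commute v (c * c) := by
        have h4 := (hzc v hv).mul_right h'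
        rwa [(hcomm i hi c hc).mul_mul_mul_comm, mul_inv_cancel, mul_one] at h4
      obtain ⟨j, hj⟩ := odd_orderOf C.odd_U (S.le_U hc)
      have e : c = (c * c) ^ (j + 1) := by
        rw [← pow_two, ← pow_mul, show 2 * (j + 1) = orderOf c + 1 by omega, pow_succ,
          pow_orderOf_eq_one, one_mul]
      rw [e]; exact h3.pow_right _
    by_cases hc1 : c = 1
    · subst hc1
      rw [one_mul] at hz1 hzc
      refine hnot fun x hx => ?_
      obtain ⟨k, hk⟩ := mem_zpowers_iff.1 (hline₀ hi hit hz1 y hy hyt)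
      rw [← hk, ((hzc x hx).zpow_right k).eq, mul_inv_cancel_right]
      exact mem_zpowers _
    · obtain ⟨T'⟩ := S.torus E hc hcD hc1 fun _ => hEig c hc hcD
      have hcU : c ∈ C.U1 := by
        have := mul_mem (show c * i ∈ C.U1 from hz.2) (inv_mem (mem_invGen (S.le_U hi) hit : i ∈ C.U1))
        rwa [mul_inv_cancel_right] at this
      exact hc1 (eq_one_of_fixed hcD (T'.zpowers_inverted (U1_le_zpowers T' hcc hcU)))
  -- the plane
  have hspan : ∀ w ∈ S.Y, ∃ a k : ℤ, (d ^ a * y ^ k)⁻¹ * w ∈ (⊥ : Subgroup G) := fun w hw => by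
    obtain ⟨c', hc', hc'D, i, hi, hit, rfl⟩ := S.split hw
    obtain ⟨a, ha⟩ := mem_zpowers_iff.1 (hfix c' hc' hc'D)
    obtain ⟨k, hk⟩ := mem_zpowers_iff.1 (hline i hi hit)
    exact ⟨a, k, by rw [ha, hk, inv_mul_cancel]; exact one_mem _⟩
  have hld : ∃ x ∈ C.U1, ∀ a : ℤ, (d ^ a)⁻¹ * (x * d * x⁻¹) ∉ (⊥ : Subgroup G) := by
    by_contra hne
    push Not at hne
    have hc : ∀ x ∈ C.U1, Commute x d := by
      intro x hx
      induction hx using closure_induction with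
      | mem x hx =>
        obtain ⟨a, ha⟩ := hne x (mem_invGen hx.1 hx.2)
        refine commute_of_fixed htt (odd_orderOf C.odd_U hx.1) hx.2 (C.mem_D1.1 hdD).2 ?_
        rw [(inv_mul_eq_one.1 (mem_bot.1 ha)).symm]
        exact (C.mem_D1.1 hdD).2.zpow_left a
      | one => exact Commute.one_left d
      | inv x _ ih => exact ih.inv_left
      | mul x x' _ _ ihx ihx' => exact ihx.mul_left ihx'
    refine hnot fun x hx => ?_
    obtain ⟨i, hi⟩ := mem_zpowers_iff.1 (U1_le_zpowers T hc hx)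
    obtain ⟨j, hj⟩ := mem_zpowers_iff.1 (T.gen y (S.le_U hy) (hcomm y hy d hd) hyt)
    rw [← hi, ← hj, ((Commute.refl T.g).zpow_zpow i j).eq, mul_inv_cancel_right]
    exact mem_zpowers _
  have hly : ∃ x ∈ C.U1, ∀ k : ℤ, (y ^ k)⁻¹ * (x * y * x⁻¹) ∉ (⊥ : Subgroup G) := by
    by_contra hne
    push Not at hne
    refine hnot fun x hx => ?_
    obtain ⟨k, hk⟩ := hne x hx
    exact mem_zpowers_iff.2 ⟨k, inv_mul_eq_one.1 (mem_bot.1 hk)⟩
  obtain ⟨K, hK, hko, hk3, hkp, hpk, hsr, hKb⟩ := plane_section (p := p) E.good.2.1 htt (U := C.U1)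
    (Y := S.Y) (N := ⊥) hodd1 hgen bot_le (by rw [normalizer_eq_top]; exact le_top)
    (fun v hv => S.norm (C.U_le_H (hU1 hv))) (by rw [normalizer_eq_top]; exact le_top)
    (by rw [normalizer_eq_top]; exact mem_top _) hd hy hdt hyt
    (fun h => hd1 (mem_bot.1 h)) (fun h => hy1 (mem_bot.1 h)) (mem_bot.2 (S.pow_eq d hd))
    (mem_bot.2 (S.pow_eq y hy)) (mem_bot.2 (by rw [(hcomm y hy d hd).eq]; group)) hspan hld hly
  have hcen : C.U1 ⊓ centralizer ({d} : Set G) = K := by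
    ext v
    rw [mem_inf, mem_centralizer_singleton_iff, hK]
    constructor
    · rintro ⟨hv, hvd⟩
      exact (hK v).1 (hsr v hv (mem_bot.2 (by rw [hvd]; group)))
    · rintro ⟨hv, hvc⟩
      exact ⟨hv, mul_inv_eq_iff_eq_mul.1 (mul_inv_eq_one.1 (mem_bot.1 (hvc d hd)))⟩
  have hfixd : ∀ e ∈ C.D1, e ∈ C.U1 → Commute e d := fun e he he1 =>
    mem_centralizer_singleton_iff.1 (hcen.symm.le (hKb e he1 (C.mem_D1.1 he).2)).2
  have hpu : p ∣ T.u₁ := by
    rw [← S.orderOf_eq hy hy1, ← T.g_order, ← Nat.card_zpowers T.g]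
    exact Subgroup.orderOf_dvd_natCard _ (T.gen y (S.le_U hy) (hcomm y hy d hd) hyt)
  rcases hpm with h | h
  · -- `s` fixes the plane
    have hsd : Commute C.s d := h d hd hdD
    refine false_of_st_fixes E hdD (S.le_O hd) hd1 T hsd (hsg hd T (hEig d hd hdD)) hpu
      (fun u hu => ?_) hfixd ⟨_, hko, hkp, hpk, Or.inl ⟨by rw [hcen], ?_, hk3⟩⟩
    · have hwY : u * d * u⁻¹ ∈ S.Y := conj_mem (S.norm (C.U_le_H hu)) hd
      constructor
      · intro hwt
        obtain ⟨a, ha⟩ := mem_zpowers_iff.1 (hfix _ hwY (C.mem_D1.2 ⟨S.le_U hwY, hwt⟩))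
        rw [← ha]
        exact (hsd.symm.mul_right (C.mem_D1.1 hdD).2).zpow_left a
      · intro hwst
        obtain ⟨c, hc, hcD, i, hi, hit, e⟩ := S.split hwY
        obtain ⟨k, rfl⟩ := mem_zpowers_iff.1 (hline i hi hit)
        have h1 := conj_eq_of_commute hst hwst
        rw [e, invol_mul hst, inverted_zpow hst hyst, conj_eq_of_commute hst
          ((h c hc hcD).symm.mul_right (C.mem_D1.1 hcD).2)] at h1
        rw [e, eq_one_of_inv_eq (mul_left_cancel h1) (odd_orderOf C.odd_U (S.le_U hi)), mul_one]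
        exact (C.mem_D1.1 hcD).2
    · rw [inf_relIndex_left, relIndex_eq_one]
      refine le_normalizer_of_conj fun e he v hv => hfix _ ?_ ?_
      · exact conj_mem (S.norm (C.U_le_H (C.D1_le_U he))) (zpowers_le.2 hd hv)
      · exact mul_mem (mul_mem he (zpowers_le.2 hdD hv)) (inv_mem he)
  · -- `s t` inverts the plane
    have hinv : ∀ w ∈ S.Y, C.s * C.t * w * (C.s * C.t) = w⁻¹ := by
      intro w hw
      obtain ⟨c, hc, hcD, i, hi, hit, rfl⟩ := S.split hw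
      obtain ⟨k, rfl⟩ := mem_zpowers_iff.1 (hline i hi hit)
      rw [invol_mul hst, inverted_zpow hst hyst, ← C.conj_s_conj_t,
        conj_eq_of_commute htt (C.mem_D1.1 hcD).2, h c hc hcD, mul_inv_rev]
      exact ((hcomm c hc _ hi).inv_inv).eq
    exact false_of_st_inverts E hdD (S.le_O hd) hd1 T (h d hd hdD) (hsg hd T (hEig d hd hdD)) hpu
      (fun v hv hvst => commute_of_le_inverted hst C.odd_U
        (fun v hv => S.norm (C.U_le_H (invGen_le _ _ hv))) hinv v (mem_invGen hv hvst) d hd)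
      hfixd (by rw [hcen]; exact hkp)

end CfsgLib.GW.Eight.Ctx
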