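import Cfsg.Agent.GW.Eight.Mixed
import Cfsg.Agent.GW.Eight.Central
import Cfsg.Agent.GW.Eight.Heisenberg

/-!
# Gorenstein–Walter, `|S| ≥ 8`: for a good prime, `O_p(H) ∩ U0` meets neither `D1` nor `D2`
-/

set_option autoImplicit false
set_option linter.style.haveILetI false
set_option linter.unusedSectionVars false

namespace CfsgLib.GW.Eight.Ctx

open Subgroup
open CfsgLib.DGroup (Op)

universe u

variable {G : Type u} [Group G] [Fintype G] [Fact (Nat.Prime 2)] {C : Ctx G}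

theorem Chief.false {p : ℕ} [Fact p.Prime] (S : C.Chief p) (E : C.Env p) : False := by
  by_cases h0 : ∀ x ∈ S.C0, x = 1
  · exact S.false_of_mixed E h0
  push Not at h0
  obtain ⟨z₀, hz, hz1⟩ := h0
  by_cases h1 : ∀ i ∈ S.Y, C.t * i * C.t = i⁻¹ → i ∈ S.C0
  · exact S.false_of_central E hz hz1 h1
  by_cases h2 : ∀ i ∈ S.Y, C.s * C.t * i * (C.s * C.t) = i⁻¹ → i ∈ S.C0
  · obtain ⟨d, hd, hdD, hd1⟩ := S.meet
    have hmeet : ∃ w ∈ S.Y, w ∈ C.D2 ∧ w ≠ 1 := by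
      obtain ⟨c, hc, i, hi, hcb, hib, e⟩ := CfsgLib.GW.CaseI.exists_split C.inv_st.1
        (C.odd_U.of_dvd_nat (card_dvd_of_le S.le_U)) (S.norm C.st_mem_H) hd
      refine ⟨c, hc, C.mem_D2.2 ⟨S.le_U hc, hcb⟩, fun h => hd1 ?_⟩
      rw [h, one_mul] at e
      exact S.eq_one_of_mem_C0 (e ▸ h2 i hi hib) hdD
    exact (S.flip hmeet).false_of_central E.flip hz hz1 h2
  push Not at h1
  exact S.false_of_heisenberg E hz hz1 h1

/-- For a good prime `p`, `O_p(H) ∩ U0` meets neither `D1` nor `D2`. -/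
theorem eq_one_of_good {p : ℕ} [Fact p.Prime] (E : C.Env p) {d : G} (hdO : d ∈ Op p C.H)
    (hd0 : d ∈ C.U0) (h : d ∈ C.D1 ∨ d ∈ C.D2) : d = 1 := by
  by_contra hd1
  rcases h with h | h
  · rcases C.exists_chief E h hdO hd0 hd1 with ⟨⟨S⟩⟩ | ⟨⟨S⟩⟩
    exacts [S.false E, S.false E.flip]
  · rcases C.flip.exists_chief E.flip h hdO (C.flip_U0.symm ▸ hd0) hd1 with ⟨⟨S⟩⟩ | ⟨⟨S⟩⟩
    exacts [S.false E.flip, S.false E.flip.flip]

end CfsgLib.GW.Eight.Ctx
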