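import Cfsg.Agent.GW.Eight.Fusion
import Cfsg.Agent.ZJ.Involve
import Cfsg.Agent.Classical.SylowTwoSL

/-!
# `Qd(p)` is not involved in a group with dihedral Sylow 2-subgroups

`Qd(p)` involves `SL(2, p)`, whose Sylow 2-subgroup is noncommutative with a single involution; the image
of a subgroup of a dihedral group with that property is commutative.
-/

set_option autoImplicit false
set_option linter.style.haveILetI false
set_option linter.unusedSectionVars false

namespace CfsgLib.GW.Eight.Ctx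

open Subgroup
open CfsgLib.NormCyclic (Inv)

universe u

variable {G : Type u} [Group G] [Fintype G] [Fact (Nat.Prime 2)] (C : Ctx G)
include C

theorem refl_sq (i : ℤ) : C.s ^ i * C.t * (C.s ^ i * C.t) = 1 := C.four.refl_sq i

theorem not_involves_qd {p : ℕ} [Fact p.Prime] (hp2 : p ≠ 2) :
    ¬ Cfsg.Involves ↥(Cfsg.qd p) G := by
  classical
  intro h
  obtain ⟨K, f, hf⟩ := CfsgLib.ZJ.exists_surjective_of_involves (CfsgLib.ZJ.involves_sl2_of_qd h)
  have hodd : Odd (Fintype.card (ZMod p)) := by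
    rw [ZMod.card]; exact (Fact.out : p.Prime).odd_of_ne_two hp2
  obtain ⟨T⟩ := (inferInstance : Nonempty (Sylow 2 K))
  let T' := T.mapSurjective hf
  obtain ⟨k, hk, ⟨e⟩⟩ := CfsgLib.Linear.SylowTwoSL.exists_quaternion hodd T'
  -- move the Sylow subgroup of `K` into `P`
  obtain ⟨R, hR⟩ := (T.isPGroup'.map K.subtype).exists_le_sylow
  obtain ⟨g, hg⟩ := MulAction.exists_smul_eq G R C.P
  have hmem : ∀ x ∈ (T : Subgroup K), g * (x : G) * g⁻¹ ∈ (C.P : Subgroup G) := fun x hx => by
    rw [← hg]; exact ⟨x, hR ⟨x, hx, rfl⟩, rfl⟩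
  -- the image is commutative
  have hcomm : ∀ a ∈ (T : Subgroup K), ∀ b ∈ (T : Subgroup K), Commute (f a) (f b) := by
    by_cases hcyc : ∀ x ∈ (T : Subgroup K), g * (x : G) * g⁻¹ ∈ zpowers C.s
    · intro a ha b hb
      obtain ⟨i, hi⟩ := mem_zpowers_iff.1 (hcyc a ha)
      obtain ⟨j, hj⟩ := mem_zpowers_iff.1 (hcyc b hb)
      have h1 : Commute (g * (a : G) * g⁻¹) (g * (b : G) * g⁻¹) := by
        rw [← hi, ← hj]; exact ((Commute.refl C.s).zpow_left i).zpow_right j
      have h2 : Commute a b := Subtype.ext ((Commute.conj_iff g).1 h1).eq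
      exact h2.map f
    push_neg at hcyc
    obtain ⟨x, hx, hxc⟩ := hcyc
    have hinvol : ∀ y ∈ (T : Subgroup K), g * (y : G) * g⁻¹ ∉ zpowers C.s →
        f y = 1 ∨ f y = CfsgLib.SL2C.negOne (ZMod p) := by
      intro y hy hyc
      obtain ⟨i, hi | hi⟩ := C.exists_cases (hmem y hy)
      · exact absurd (hi ▸ zpow_mem (mem_zpowers C.s) i) hyc
      have hy2 : y * y = 1 := by
        apply Subtype.ext
        have h1 : g * ((y : G) * (y : G)) * g⁻¹ = 1 := by
          rw [← conj_mul, hi]; exact C.refl_sq i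
        exact conj_eq_one_iff.1 h1
      by_cases h1 : f y = 1
      · exact Or.inl h1
      · exact Or.inr (CfsgLib.Linear.SylowTwoSL.eq_neg_one hodd h1 (by rw [← map_mul, hy2, map_one]))
    have hx' := hinvol x hx hxc
    intro a ha b hb
    have hc : ∀ y ∈ (T : Subgroup K), ∀ w, Commute (f y) w := by
      have hz : ∀ y ∈ (T : Subgroup K), g * (y : G) * g⁻¹ ∉ zpowers C.s → ∀ w, Commute (f y) w := by
        intro y hy hyc w
        rcases hinvol y hy hyc with e' | e' <;> rw [e']
        · exact Commute.one_left w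
        · exact (Subgroup.mem_center_iff.1 CfsgLib.SL2C.negOne_mem_center w).symm
      intro y hy w
      by_cases hyc : g * (y : G) * g⁻¹ ∈ zpowers C.s
      · have h1 : g * ((y * x : K) : G) * g⁻¹ ∉ zpowers C.s := by
          rw [Subgroup.coe_mul, ← conj_mul]
          exact fun h' => hxc ((mul_mem_cancel_left hyc).1 h')
        have h2 := (hz _ (mul_mem hy hx) h1 w).mul_left (hz x hx hxc w).inv_left
        rwa [map_mul, mul_inv_cancel_right] at h2
      · exact hz y hy hyc w
    exact hc a ha _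
  -- a quaternion group is not commutative
  obtain ⟨u, hu, hue⟩ : ∃ u ∈ (T : Subgroup K), f u = (e.symm (QuaternionGroup.a 1) : _) :=
    (e.symm (QuaternionGroup.a 1)).2
  obtain ⟨v, hv, hve⟩ : ∃ v ∈ (T : Subgroup K), f v = (e.symm (QuaternionGroup.xa 0) : _) :=
    (e.symm (QuaternionGroup.xa 0)).2
  have h1 := (hcomm u hu v hv).eq
  rw [hue, hve, ← Subgroup.coe_mul, ← Subgroup.coe_mul] at h1
  have h2 := congrArg e (Subtype.ext h1)
  rw [map_mul, map_mul, e.apply_symm_apply, e.apply_symm_apply, QuaternionGroup.a_mul_xa,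
    QuaternionGroup.xa_mul_a, QuaternionGroup.xa.injEq, zero_add, zero_sub] at h2
  haveI : Fact (2 < 2 * 2 ^ k) := ⟨by
    have : 2 ^ 1 ≤ 2 ^ k := Nat.pow_le_pow_right two_pos hk
    omega⟩
  exact ZMod.neg_one_ne_one h2

end CfsgLib.GW.Eight.Ctx
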