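import Cfsg.Agent.GW.Eight.TorusSupply
import Cfsg.Agent.GW.Eight.Linear.Main

/-!
# Gorenstein–Walter, `|S| ≥ 8`: one of `D1`, `D2` is trivial
-/

set_option autoImplicit false
set_option linter.style.haveILetI false

namespace CfsgLib.GW.Eight

universe u

variable {G : Type u} [Group G] [Fintype G] [Fact (Nat.Prime 2)]

/-- One of the two reflection classes has no fixed point on `U`. -/
theorem Ctx.result (C : Ctx G) : C.D1 = ⊥ ∨ C.D2 = ⊥ :=
  C.result_of torusSupply no_linear no_linear_fixed

end CfsgLib.GW.Eight
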