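import Cfsg.Agent.GW.A7End.Main
import Cfsg.Agent.GW.A7End.RatioMain
import Cfsg.Agent.GW.CaseI.Inverted

/-!
# Gorenstein–Walter with a dihedral Sylow 2-subgroup of order at least eight: the common setting

`P = ⟨s, t⟩` is a Sylow 2-subgroup of the simple group `G`, `z` its central involution, `H = C(z)`
with `U = O(H)`; the two four groups are `⟨z, t⟩` and `⟨z, s * t⟩`, `D1` and `D2` their fixed points
on `U`.  Every lemma about the first class of reflections applies to the second one through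
`Ctx.flip`.  Paper proof: `notes/gw_eight_helper24.md`.
-/

set_option autoImplicit false
set_option linter.style.haveILetI false
set_option linter.unusedSectionVars false

namespace CfsgLib.GW.Eight

open Subgroup CfsgLib.DihPrincipal CfsgLib.GW
open CfsgLib.GW.CaseI (invGen)
open CfsgLib.NormCyclic (Inv)
open CfsgLib.DGroup (coreIn)

universe u

variable {G : Type u} [Group G] [Fintype G] [Fact (Nat.Prime 2)]

/-- Shape of a proper subgroup with fusion in a four group: modulo the odd core a normal subgroup,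
self-centralising in the quotient, is `PSL(2, q)` with `q` odd (`q = 3` gives `A₄`) or `A₇`. -/
def LocalShape (M : Subgroup G) : Prop :=
  ∃ L : Subgroup ↥M, L.Normal ∧ Cfsg.oddCore ↥M ≤ L ∧
    (∀ x : ↥M, (∀ y ∈ L, x * y * x⁻¹ * y⁻¹ ∈ Cfsg.oddCore ↥M) → x ∈ Cfsg.oddCore ↥M) ∧
    ((∃ (F : Type) (_ : Field F) (_ : Fintype F), Odd (Fintype.card F) ∧
      ∃ f : ↥L →* Matrix.ProjectiveSpecialLinearGroup (Fin 2) F,
        Function.Surjective f ∧ f.ker = (Cfsg.oddCore ↥M).subgroupOf L) ∨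
      ∃ f : ↥L →* alternatingGroup (Fin 7),
        Function.Surjective f ∧ f.ker = (Cfsg.oddCore ↥M).subgroupOf L)

/-- `M` contains the four group `⟨c, v⟩` and moves `c` to one of its other involutions. -/
def Fused (M : Subgroup G) (c v : G) : Prop :=
  c ∈ M ∧ v ∈ M ∧ (∃ g ∈ M, g * c * g⁻¹ = v) ∧ ∃ g ∈ M, g * c * g⁻¹ = c * v

/-- The setting of a minimal counterexample with dihedral Sylow 2-subgroup of order at least 8. -/
structure Ctx (G : Type u) [Group G] [Fintype G] [Fact (Nat.Prime 2)] where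
  P : Sylow 2 G
  s : G
  t : G
  n : ℕ
  data : Data P s t n
  conj : IsConj (s ^ 2 ^ (n - 2)) t ∧ IsConj (s ^ 2 ^ (n - 2)) (s * t)
  simple : IsSimpleGroup G
  na : ¬ IsMulCommutative G
  IH : ∀ M : Subgroup G, M ≠ ⊤ → ∀ v : G, Inv v → Commute (s ^ 2 ^ (n - 2)) v →
    v ≠ s ^ 2 ^ (n - 2) → Fused M (s ^ 2 ^ (n - 2)) v → LocalShape M

namespace Ctx

variable (C : Ctx G)

/-- The central involution. -/
def z : G := C.s ^ 2 ^ (C.n - 2)

/-- The centraliser of the central involution. -/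
def H : Subgroup G := centralizer ({C.z} : Set G)

/-- Its odd core, in `G`. -/
noncomputable def U : Subgroup G := coreIn C.H

/-- The first four group. -/
def V1 : Subgroup G := closure ({C.z, C.t} : Set G)

/-- The second four group. -/
def V2 : Subgroup G := closure ({C.z, C.s * C.t} : Set G)

/-- The fixed points of the first class of reflections on `U`. -/
noncomputable def D1 : Subgroup G := C.U ⊓ centralizer ({C.t} : Set G)

/-- The fixed points of the second class of reflections on `U`. -/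
noncomputable def D2 : Subgroup G := C.U ⊓ centralizer ({C.s * C.t} : Set G)

/-- The fixed points of the Sylow 2-subgroup on `U`. -/
noncomputable def DS : Subgroup G := C.U ⊓ centralizer ({C.t, C.s * C.t} : Set G)

/-- `[U, t]`. -/
noncomputable def U1 : Subgroup G := invGen C.t C.U

/-- `[U, s t]`. -/
noncomputable def U2 : Subgroup G := invGen (C.s * C.t) C.U

/-- `[U, P]`. -/
noncomputable def U0 : Subgroup G := C.U1 ⊔ C.U2

theorem mem_H {x : G} : x ∈ C.H ↔ Commute x C.z := by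
  rw [H, mem_centralizer_singleton_iff]; rfl

theorem mem_D1 {x : G} : x ∈ C.D1 ↔ x ∈ C.U ∧ Commute x C.t := by
  rw [D1, mem_inf, mem_centralizer_singleton_iff]; rfl

theorem mem_D2 {x : G} : x ∈ C.D2 ↔ x ∈ C.U ∧ Commute x (C.s * C.t) := by
  rw [D2, mem_inf, mem_centralizer_singleton_iff]; rfl

theorem mem_DS {x : G} : x ∈ C.DS ↔ x ∈ C.U ∧ Commute x C.t ∧ Commute x (C.s * C.t) := by
  rw [DS, mem_inf, mem_centralizer_iff]
  simp [Commute, SemiconjBy, eq_comm]

theorem inv_z : Inv C.z := ⟨C.data.z_sq, C.data.z_ne_one⟩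

theorem inv_t : Inv C.t :=
  ⟨CfsgLib.Invol.mul_self_eq_one C.data.ordτ, fun h => by
    have := C.data.ordτ; rw [h, orderOf_one] at this; omega⟩

theorem inv_st : Inv (C.s * C.t) :=
  ⟨sigma_mul_tau_sq C.data, fun h => by
    have h1 : C.s = C.t⁻¹ := eq_inv_of_mul_eq_one_left h
    have h2 := C.data.ordσ
    rw [h1, orderOf_inv, C.data.ordτ] at h2
    have h3 : 2 ^ 2 ≤ 2 ^ (C.n - 1) :=
      Nat.pow_le_pow_right two_pos (by have := C.data.hn; omega)
    omega⟩

theorem s_mem_H : C.s ∈ C.H := C.data.le_centralizer C.data.σ_mem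

theorem t_mem_H : C.t ∈ C.H := C.data.le_centralizer C.data.τ_mem

theorem st_mem_H : C.s * C.t ∈ C.H := mul_mem C.s_mem_H C.t_mem_H

theorem z_mem_H : C.z ∈ C.H := C.mem_H.2 (Commute.refl _)

theorem P_le_H : (C.P : Subgroup G) ≤ C.H := C.data.le_centralizer

theorem U_le_H : C.U ≤ C.H := CfsgLib.DGroup.coreIn_le _

theorem odd_U : Odd (Nat.card C.U) := CfsgLib.DGroup.odd_coreIn _

theorem H_le_normalizer_U : C.H ≤ normalizer (C.U : Set G) :=
  CfsgLib.DGroup.normalizer_coreIn _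

theorem mem_U_of_odd {x : G} (hx : x ∈ C.H) (ho : Odd (orderOf x)) : x ∈ C.U := by
  haveI := CfsgLib.Solvable.pPrimeCore_normal (G := C.H) 2
  have h1 := mem_core_of_odd C.data.index_core_z (v := x) hx ho
  refine ⟨⟨x, hx⟩, CfsgLib.DGroup.le_oddCore (N := CfsgLib.SectionCount.core 2 C.z)
    (CfsgLib.Solvable.pPrimeCore_normal (G := C.H) 2) ?_ h1, rfl⟩
  exact Nat.coprime_two_left.1
    (CfsgLib.Solvable.coprime_card_pPrimeCore (G := C.H) 2).symm

theorem mem_U {x : G} : x ∈ C.U ↔ x ∈ C.H ∧ Odd (orderOf x) :=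
  ⟨fun h => ⟨C.U_le_H h, CfsgLib.DGroup.odd_orderOf C.odd_U h⟩, fun h => C.mem_U_of_odd h.1 h.2⟩

theorem oddU_eq : oddU C.data = C.U := by
  ext x
  rw [mem_oddU_iff, C.mem_U]
  rfl

theorem fixT_eq : fixT C.data = C.D1 := by rw [fixT, C.oddU_eq]; rfl

theorem fixST_eq : fixST C.data = C.D2 := by rw [fixST, C.oddU_eq]; rfl

/-- `|H| = |U| 2 ^ n`. -/
theorem card_H : Nat.card C.H = Nat.card C.U * 2 ^ C.n := by
  rw [← C.oddU_eq, card_oddU_mul C.data]; rfl

/-- `H = U P`. -/
theorem exists_mul_P {x : G} (hx' : x ∈ C.H) : ∃ u ∈ C.U, ∃ p ∈ (C.P : Subgroup G), x = u * p := by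
  have hx : x ∈ centralizer ({C.s ^ 2 ^ (C.n - 2)} : Set G) := hx'
  set p := C.data.ret ⟨x, hx⟩ with hp
  refine ⟨x * (p : G)⁻¹, ?_, p, p.2, (inv_mul_cancel_right x _).symm⟩
  rw [← C.oddU_eq]
  have hpH : (p : G) ∈ centralizer ({C.s ^ 2 ^ (C.n - 2)} : Set G) := C.P_le_H p.2
  refine Subgroup.mem_map.2 ⟨⟨x * (p : G)⁻¹, mul_mem hx (inv_mem hpH)⟩, ?_, rfl⟩
  rw [← C.data.ker_ret, MonoidHom.mem_ker]
  have : (⟨x * (p : G)⁻¹, mul_mem hx (inv_mem hpH)⟩ : centralizer ({C.s ^ 2 ^ (C.n - 2)} : Set G)) =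
      ⟨x, hx⟩ * (⟨p, hpH⟩)⁻¹ := Subtype.ext rfl
  refine (congrArg C.data.ret this).trans ?_
  rw [map_mul, map_inv]
  exact mul_inv_eq_one.2 (C.data.ret_apply p).symm

theorem H_ne_top : C.H ≠ ⊤ := by
  intro h
  haveI := C.simple
  rcases (show (center G).Normal from inferInstance).eq_bot_or_eq_top with h' | h'
  · refine C.inv_z.2 (mem_bot.1 (h' ▸ mem_center_iff.2 fun g => ?_))
    exact (C.mem_H.1 (h ▸ mem_top g)).eq
  · exact C.na ⟨⟨fun x y => (mem_center_iff.1 (h' ▸ mem_top x) y).symm⟩⟩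

/-- The second class of reflections in the role of the first one. -/
theorem data_flip : Data C.P C.s (C.s * C.t) C.n where
  hn := C.data.hn
  σ_mem := C.data.σ_mem
  τ_mem := mul_mem C.data.σ_mem C.data.τ_mem
  ordσ := C.data.ordσ
  ordτ := C.inv_st.orderOf
  rel := by
    rw [show C.s * C.t * C.s * (C.s * C.t)⁻¹ = C.s * (C.t * C.s * C.t⁻¹) * C.s⁻¹ by group,
      C.data.rel]
    group
  cases g hg := by
    rcases C.data.cases g hg with h | h
    · exact Or.inl h
    · refine Or.inr ?_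
      rw [show g * (C.s * C.t) = g * C.t * (C.t⁻¹ * C.s * C.t) by group,
        show C.t⁻¹ * C.s * C.t = C.s⁻¹ by
          have hti := CfsgLib.Invol.inv_eq_self C.data.ordτ
          have := C.data.rel
          rw [hti] at this ⊢
          exact this]
      exact mul_mem h (inv_mem (mem_zpowers _))
  iso := C.data.iso

theorem conj_flip :
    IsConj (C.s ^ 2 ^ (C.n - 2)) (C.s * C.t) ∧
      IsConj (C.s ^ 2 ^ (C.n - 2)) (C.s * (C.s * C.t)) := by
  refine ⟨C.conj.2, ?_⟩
  have h := zpow_refl_conj C.data (i := 2) C.conj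
  rwa [zpow_ofNat, sq, mul_assoc] at h

/-- The setting with the two classes of reflections exchanged. -/
def flip : Ctx G where
  P := C.P
  s := C.s
  t := C.s * C.t
  n := C.n
  data := C.data_flip
  conj := C.conj_flip
  simple := C.simple
  na := C.na
  IH := C.IH

end Ctx

end CfsgLib.GW.Eight
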