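import Cfsg.Agent.GW.Eight.TwoClass
import Cfsg.Agent.GW.CaseII.Lemmas

/-!
# A subgroup over `C(z)` fused in the first four group only: the shape equations

`f` maps the normal subgroup `L` of `M` onto `Q` with kernel the odd core.
-/

set_option autoImplicit false
set_option linter.style.haveILetI false
set_option linter.unusedSectionVars false

namespace CfsgLib.GW.Eight

open Subgroup CfsgLib.DihPrincipal CfsgLib.GW
open CfsgLib.NormCyclic (Inv)
open CfsgLib.DGroup (coreIn odd_orderOf eq_one_of_sq eq_one_of_inv_eq conj_mem)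

universe u

variable {G : Type u} [Group G] [Fintype G] [Fact (Nat.Prime 2)]

/-- An odd element inverted by an involution of a normal subgroup lies in it. -/
theorem mem_of_inverted {L : Subgroup G} {i v : G} (hiL : i ∈ normalizer (L : Set G)) (hv : v ∈ L)
    (hvv : v * v = 1) (ho : Odd (orderOf i)) (h : v * i * v = i⁻¹) : i ∈ L := by
  have hvi : v⁻¹ = v := inv_eq_of_mul_eq_one_right hvv
  have h2 : i * i ∈ L := by
    have e : i * i = i * (v * i⁻¹ * v) := by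
      congr 1
      calc i = (i⁻¹)⁻¹ := (inv_inv i).symm
        _ = (v * i * v)⁻¹ := by rw [h]
        _ = v * i⁻¹ * v := by rw [mul_inv_rev, mul_inv_rev, hvi, mul_assoc]
    rw [e, show i * (v * i⁻¹ * v) = i * v * i⁻¹ * v by group]
    exact mul_mem ((mem_normalizer_iff.1 hiL v).1 hv) hv
  obtain ⟨k, hk⟩ := ho
  have e : i = (i * i) ^ (k + 1) := by
    rw [← sq, ← pow_mul, show 2 * (k + 1) = orderOf i + 1 by omega, pow_succ, pow_orderOf_eq_one,
      one_mul]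
  rw [e]
  exact pow_mem h2 _

/-- A normal subgroup of `M` mapping onto `Q` with kernel the odd core. -/
structure ModelHom (M L : Subgroup G) {Q : Type*} [Group Q] (f : L →* Q) : Prop where
  le : L ≤ M
  normal : M ≤ normalizer (L : Set G)
  core_le : coreIn M ≤ L
  surj : Function.Surjective f
  ker : ∀ x : L, f x = 1 ↔ (x : G) ∈ coreIn M
  conj : ∀ a b : Q, Inv a → Inv b → IsConj a b
  even : Even (Nat.card Q)

theorem Ctx.t_mul_s' (C : Ctx G) : C.t * C.s = C.s⁻¹ * C.t := by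
  rw [← C.data.rel, inv_mul_cancel_right]

namespace OneFused

variable {C : Ctx G} {M L : Subgroup G} (hM : OneFused C M) {Q : Type*} [Group Q] [Finite Q]
  {f : L →* Q} (hf : ModelHom M L f)
include hM hf

theorem odd_core : Odd (Nat.card (coreIn M)) := CfsgLib.DGroup.odd_coreIn M

theorem inv_map {x : G} (hx : x ∈ L) (hI : Inv x) : Inv (f ⟨x, hx⟩) := by
  refine ⟨by rw [← map_mul, ← map_one f]; exact congrArg f (Subtype.ext hI.1), fun h => hI.2 ?_⟩
  exact eq_one_of_sq hI.1 (odd_orderOf (hM.odd_core hf) ((hf.ker ⟨x, hx⟩).1 h))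

theorem map_ne {x y : G} (hx : x ∈ L) (hy : y ∈ L) (hxI : Inv x) (hyI : Inv y) (hxy : Commute x y)
    (hne : x ≠ y) : f ⟨x, hx⟩ ≠ f ⟨y, hy⟩ := by
  intro h
  refine (hxI.mul hyI hxy hne).2 (eq_one_of_sq (hxI.mul hyI hxy hne).1
    (odd_orderOf (hM.odd_core hf) ((hf.ker (⟨x, hx⟩ * ⟨y, hy⟩)).1 ?_)))
  rw [map_mul, h, (hM.inv_map hf hy hyI).1]

/-- Two involutions of `L` are conjugate in `M`. -/
theorem exists_conj_L {x y : G} (hx : x ∈ L) (hy : y ∈ L) (hxI : Inv x) (hyI : Inv y) :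
    ∃ k ∈ M, k * x * k⁻¹ = y ∧ k ∈ L := by
  obtain ⟨l', hl⟩ := isConj_iff.1 (hf.conj _ _ (hM.inv_map hf hx hxI) (hM.inv_map hf hy hyI))
  obtain ⟨l, rfl⟩ := hf.surj l'
  rw [← map_inv, ← map_mul, ← map_mul] at hl
  have hR : (l : G) * x * (l : G)⁻¹ * y ∈ coreIn M :=
    (hf.ker (l * ⟨x, hx⟩ * l⁻¹ * ⟨y, hy⟩)).1 (by
      rw [map_mul, hl, (hM.inv_map hf hy hyI).1])
  obtain ⟨k, hk, hkv⟩ := exists_conj_mem (hM.odd_core hf) (hxI.conj l) hyI hR
  refine ⟨k * l, mul_mem (hf.le (hf.core_le hk)) (hf.le l.2), ?_, mul_mem (hf.core_le hk) l.2⟩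
  rw [← hkv]; group

theorem mem_L : C.z ∈ L ∧ C.t ∈ L ∧ C.s * C.t ∉ L ∧ C.s ∉ L ∧ C.s * C.s ∈ L := by
  have hev : 2 ∣ Nat.card L :=
    hf.even.two_dvd.trans (Subgroup.card_dvd_of_surjective f hf.surj)
  obtain ⟨v, hv⟩ := exists_prime_orderOf_dvd_card' 2 hev
  rw [← Subgroup.orderOf_coe] at hv
  have hvI : Inv (v : G) := Inv.of_orderOf hv
  have hback : ∀ {k a b : G}, k ∈ M → b ∈ L → k * a * k⁻¹ = b → a ∈ L := fun {k a b} hk hb e => by
    have := conj_mem (hf.normal (inv_mem hk)) hb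
    rwa [← e, inv_inv, show k⁻¹ * (k * a * k⁻¹) * k = a by group] at this
  obtain ⟨p, hp, hpz, hpw⟩ := C.exists_zst
  have hz : C.z ∈ L := by
    rcases hM.cases_M (hf.le v.2) hvI with ⟨k, hk, e⟩ | ⟨k, hk, e⟩
    · exact hback hk v.2 e
    · have hw := hback hk v.2 e
      have hzw := conj_mem (hf.normal (hM.P_le hp)) hw
      rw [hpw] at hzw
      have := mul_mem hzw hw
      rwa [mul_assoc, C.inv_st.1, mul_one] at this
  obtain ⟨m, hm, hmt⟩ := hM.fus
  have ht : C.t ∈ L := hmt ▸ conj_mem (hf.normal hm) hz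
  have hst : C.s * C.t ∉ L := fun h => by
    obtain ⟨k, hk, e, -⟩ := hM.exists_conj_L hf hz h C.inv_z C.inv_st
    exact hM.nfus k hk e
  refine ⟨hz, ht, hst, fun h => hst (mul_mem h ht), ?_⟩
  have h1 := conj_mem (hf.normal (hM.le C.s_mem_H)) ht
  have h2 := mul_mem h1 ht
  have e : C.s * C.t * C.s⁻¹ * C.t = C.s * C.s := by
    calc C.s * C.t * C.s⁻¹ * C.t = C.s * (C.t * C.s * C.t⁻¹)⁻¹ * (C.t * C.t) := by group
      _ = C.s * C.s := by rw [C.data.rel, inv_inv, C.inv_t.1, mul_one]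
  rwa [e] at h2

theorem even_zpow_mem {i : ℤ} (hi : Even i) : C.s ^ i ∈ L := by
  obtain ⟨j, rfl⟩ := hi
  rw [← two_mul, zpow_mul, zpow_two]
  exact zpow_mem (hM.mem_L hf).2.2.2.2 j

theorem odd_zpow_not_mem {i : ℤ} (hi : Odd i) : C.s ^ i ∉ L := by
  obtain ⟨j, rfl⟩ := hi
  intro h
  refine (hM.mem_L hf).2.2.2.1 ?_
  have := mul_mem (inv_mem (hM.even_zpow_mem hf (i := 2 * j) (even_two_mul j))) h
  rwa [← zpow_neg, ← zpow_add, show -(2 * j) + (2 * j + 1) = 1 by ring, zpow_one] at this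

theorem card_inf_P : Nat.card ↥((C.P : Subgroup G) ⊓ L) * 2 = 4 * 2 ^ (C.n - 2) := by
  have hidx : (L.subgroupOf (C.P : Subgroup G)).index = 2 := by
    refine Subgroup.index_eq_two_iff.2 ⟨⟨C.s, C.data.σ_mem⟩, fun b => ?_⟩
    simp only [Subgroup.mem_subgroupOf, Subgroup.coe_mul]
    have ht := (hM.mem_L hf).2.1
    obtain ⟨i, e | e⟩ := C.exists_cases b.2 <;> rw [e] <;> rcases Int.even_or_odd i with hi | hi
    · refine Or.inr ⟨hM.even_zpow_mem hf hi, fun h => ?_⟩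
      rw [← zpow_add_one] at h
      exact hM.odd_zpow_not_mem hf hi.add_one h
    · refine Or.inl ⟨?_, hM.odd_zpow_not_mem hf hi⟩
      rw [← zpow_add_one]
      exact hM.even_zpow_mem hf hi.add_one
    · refine Or.inr ⟨mul_mem (hM.even_zpow_mem hf hi) ht, fun h => ?_⟩
      have h1 : C.s ^ i * C.t * C.s = C.s ^ (i - 1) * C.t := by
        rw [mul_assoc, C.t_mul_s', ← mul_assoc, ← zpow_neg_one, ← zpow_add, sub_eq_add_neg]
      rw [h1] at h
      have := mul_mem h ht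
      rw [mul_assoc, C.inv_t.1, mul_one] at this
      exact hM.odd_zpow_not_mem hf (hi.sub_odd odd_one) this
    · refine Or.inl ⟨?_, fun h => hM.odd_zpow_not_mem hf hi ?_⟩
      · have h1 : C.s ^ i * C.t * C.s = C.s ^ (i - 1) * C.t := by
          rw [mul_assoc, C.t_mul_s', ← mul_assoc, ← zpow_neg_one, ← zpow_add, sub_eq_add_neg]
        rw [h1]
        exact mul_mem (hM.even_zpow_mem hf (hi.sub_odd odd_one)) ht
      · have := mul_mem h ht
        rwa [mul_assoc, C.inv_t.1, mul_one] at this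
  have e := (L.subgroupOf (C.P : Subgroup G)).card_mul_index
  rw [hidx, C.card_P, ← card_subtype, subgroupOf_map_subtype, inf_comm] at e
  exact e

theorem card_inf_H :
    Nat.card ↥(C.H ⊓ L) = 2 * 2 ^ (C.n - 2) * Nat.card ↥(C.U ⊓ L) := by
  have hn : C.H ⊓ L ≤ normalizer (C.U : Set G) := inf_le_left.trans C.H_le_normalizer_U
  have e := CfsgLib.Solvable.card_sup_mul_card_inf hn
  have hinf : (C.H ⊓ L) ⊓ C.U = C.U ⊓ L := le_antisymm
    (le_inf inf_le_right (inf_le_left.trans inf_le_right))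
    (le_inf (inf_le_inf C.U_le_H le_rfl) inf_le_left)
  rw [hinf] at e
  obtain ⟨k, hk⟩ : Nat.card C.U ∣ Nat.card ↥((C.H ⊓ L) ⊔ C.U) := card_dvd_of_le le_sup_right
  have hx : Nat.card ↥(C.H ⊓ L) = k * Nat.card ↥(C.U ⊓ L) :=
    Nat.eq_of_mul_eq_mul_right (Nat.card_pos (α := C.U)) (by rw [← e, hk]; ring)
  have hk4 : k ∣ 4 * 2 ^ (C.n - 2) := by
    have h := card_dvd_of_le (sup_le inf_le_left C.U_le_H : (C.H ⊓ L) ⊔ C.U ≤ C.H)
    rw [hk, C.card_H, C.two_pow_n] at h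
    exact Nat.dvd_of_mul_dvd_mul_left Nat.card_pos h
  have hP : Nat.card ↥((C.P : Subgroup G) ⊓ L) = 2 * 2 ^ (C.n - 2) := by
    have := hM.card_inf_P hf
    omega
  -- `2 ^ (n - 1)` divides `k`
  have hge : 2 * 2 ^ (C.n - 2) ∣ k := by
    have h := card_dvd_of_le (inf_le_inf C.P_le_H le_rfl : (C.P : Subgroup G) ⊓ L ≤ C.H ⊓ L)
    rw [hP, hx] at h
    refine Nat.Coprime.dvd_of_dvd_mul_right ?_ h
    rw [← pow_succ']
    exact (Nat.coprime_two_left.2 (C.odd_U.of_dvd_nat (card_dvd_of_le inf_le_left))).pow_left _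
  -- and `k` is not `2 ^ n`
  have hne : k ≠ 4 * 2 ^ (C.n - 2) := by
    intro hk'
    have hPn : (C.P : Subgroup G) ≤ normalizer (L : Set G) := hM.P_le.trans hf.normal
    have e2 := CfsgLib.Solvable.card_sup_mul_card_inf hPn
    rw [hP, C.card_P] at e2
    obtain ⟨l, hl⟩ := card_dvd_of_le (inf_le_right : C.H ⊓ L ≤ L)
    rw [hx, hk'] at hl
    have h8 : 2 * (4 * 2 ^ (C.n - 2)) ∣ Nat.card ↥((C.P : Subgroup G) ⊔ L) := by
      refine ⟨Nat.card ↥(C.U ⊓ L) * l, Nat.eq_of_mul_eq_mul_right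
        (show 0 < 2 * 2 ^ (C.n - 2) by positivity) ?_⟩
      rw [e2, hl]; ring
    have h9 := h8.trans (card_subgroup_dvd_card _)
    rw [← (C.P : Subgroup G).card_mul_index, C.card_P, mul_comm 2] at h9
    exact C.P.not_dvd_index (Nat.dvd_of_mul_dvd_mul_left (by positivity) h9)
  obtain ⟨j, rfl⟩ := hge
  rw [show 4 * 2 ^ (C.n - 2) = 2 * 2 ^ (C.n - 2) * 2 by ring] at hk4 hne
  rcases (Nat.dvd_prime Nat.prime_two).1 (Nat.dvd_of_mul_dvd_mul_left (by positivity) hk4) with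
    rfl | rfl
  · rw [hx, mul_one]
  · exact absurd rfl hne

/-- `M = L C(z)`. -/
theorem sup_eq : C.H ⊔ L = M := by
  refine le_antisymm (sup_le hM.le hf.le) fun g hg => ?_
  have hz := (hM.mem_L hf).1
  have h1 := conj_mem (hf.normal hg) hz
  obtain ⟨k, -, hkg, hkL⟩ := hM.exists_conj_L hf hz h1 C.inv_z (C.inv_z.conj g)
  have h2 : k⁻¹ * g ∈ C.H := C.mem_H.2 (mul_inv_eq_iff_eq_mul.1 (by
    rw [show k⁻¹ * g * C.z * (k⁻¹ * g)⁻¹ = k⁻¹ * (g * C.z * g⁻¹) * k by group, ← hkg]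
    group))
  rw [show g = k * (k⁻¹ * g) by group]
  exact mul_mem (mem_sup_right hkL) (mem_sup_left h2)

theorem card_M :
    Nat.card M * Nat.card ↥(C.U ⊓ L) = 2 * Nat.card C.U * Nat.card L ∧
      Nat.card M = 2 * Nat.card ↥(C.U ⊔ L) := by
  have e1 := CfsgLib.Solvable.card_sup_mul_card_inf (hM.le.trans hf.normal)
  rw [hM.sup_eq hf, hM.card_inf_H hf, C.card_H, C.two_pow_n] at e1
  have h1 : Nat.card M * Nat.card ↥(C.U ⊓ L) = 2 * Nat.card C.U * Nat.card L := by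
    refine Nat.eq_of_mul_eq_mul_left (show 0 < 2 * 2 ^ (C.n - 2) by positivity) ?_
    calc _ = Nat.card M * (2 * 2 ^ (C.n - 2) * Nat.card ↥(C.U ⊓ L)) := by ring
      _ = Nat.card C.U * (4 * 2 ^ (C.n - 2)) * Nat.card L := e1
      _ = _ := by ring
  refine ⟨h1, Nat.eq_of_mul_eq_mul_right (Nat.card_pos (α := ↥(C.U ⊓ L))) ?_⟩
  have e2 := CfsgLib.Solvable.card_sup_mul_card_inf ((C.U_le_H.trans hM.le).trans hf.normal)
  rw [h1, mul_assoc 2, mul_assoc 2, e2]

/-- `s t` lies outside `U L`. -/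
theorem st_not_mem_sup : C.s * C.t ∉ C.U ⊔ L := by
  intro h
  have ht : C.t ∈ C.U ⊔ L := mem_sup_right (hM.mem_L hf).2.1
  have hs : C.s ∈ C.U ⊔ L := by
    have := mul_mem h ht
    rwa [mul_assoc, C.inv_t.1, mul_one] at this
  have hPle : (C.P : Subgroup G) ≤ C.U ⊔ L := fun x hx => by
    obtain ⟨i, rfl | rfl⟩ := C.exists_cases hx
    exacts [zpow_mem hs i, mul_mem (zpow_mem hs i) ht]
  have h1 := Nat.mul_dvd_mul_left 2 (card_dvd_of_le hPle)
  rw [← (hM.card_M hf).2, C.card_P, mul_comm 2] at h1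
  have h9 := h1.trans (card_subgroup_dvd_card M)
  rw [← (C.P : Subgroup G).card_mul_index, C.card_P] at h9
  exact C.P.not_dvd_index (Nat.dvd_of_mul_dvd_mul_left (by positivity) h9)

/-- Every element of odd order of `M` lies in `U L`. -/
theorem mem_sup_of_odd {x : G} (hx : x ∈ M) (ho : Odd (orderOf x)) : x ∈ C.U ⊔ L := by
  set N := (C.U ⊔ L).subgroupOf M with hN
  have hle : C.U ⊔ L ≤ M := sup_le (C.U_le_H.trans hM.le) hf.le
  have h2 : N.index = 2 := by
    refine Nat.eq_of_mul_eq_mul_left (Nat.card_pos (α := ↥(C.U ⊔ L))) ?_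
    have e := N.card_mul_index
    rw [← card_subtype, hN, subgroupOf_map_subtype, inf_eq_left.2 hle] at e
    rw [e, (hM.card_M hf).2, mul_comm]
  have hsq : (⟨x, hx⟩ : M) * ⟨x, hx⟩ ∈ N := Subgroup.mul_self_mem_of_index_two h2 _
  obtain ⟨k, hk⟩ := ho
  have e : x = (x * x) ^ (k + 1) := by
    rw [← sq, ← pow_mul, show 2 * (k + 1) = orderOf x + 1 by omega, pow_succ, pow_orderOf_eq_one,
      one_mul]
  rw [e]
  exact pow_mem (mem_subgroupOf.1 hsq) _

theorem inf_centralizer_core :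
    coreIn M ⊓ centralizer ({C.z} : Set G) ≤ C.U ⊓ L := fun _ hx =>
  ⟨C.mem_U_of_odd hx.2 (odd_orderOf (hM.odd_core hf) hx.1), hf.core_le hx.1⟩

theorem core_normal : M ≤ normalizer (coreIn M : Set G) := CfsgLib.DGroup.normalizer_coreIn M

/-- Conjugation inside `M` preserves the fixed point counts on the core. -/
theorem card_cent_core {k a : G} (hk : k ∈ M) :
    Nat.card ↥(coreIn M ⊓ centralizer ({k * a * k⁻¹} : Set G)) =
      Nat.card ↥(coreIn M ⊓ centralizer ({a} : Set G)) := by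
  rw [← card_map_of_injective (K := coreIn M ⊓ centralizer ({a} : Set G))
    (f := (MulAut.conj k).toMonoidHom) (MulAut.conj k).injective]
  congr 2
  ext x
  simp only [mem_inf, mem_centralizer_singleton_iff]
  constructor
  · rintro ⟨hx, hc⟩
    refine ⟨k⁻¹ * x * k, ⟨?_, mem_centralizer_singleton_iff.2 ?_⟩, by
      show k * (k⁻¹ * x * k) * k⁻¹ = x; group⟩
    · have := conj_mem (hM.core_normal hf (inv_mem hk)) hx
      rwa [inv_inv] at this
    · have := (Commute.conj_iff k⁻¹).2 (hc : Commute x (k * a * k⁻¹))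
      rw [inv_inv, show k⁻¹ * (k * a * k⁻¹) * k = a by group] at this
      exact this.eq
  · rintro ⟨y, ⟨hy, hc⟩, rfl⟩
    exact ⟨conj_mem (hM.core_normal hf hk) hy,
      ((Commute.conj_iff k).2 (mem_centralizer_singleton_iff.1 hc : Commute y a)).eq⟩

/-- The parameters: `u₁` is the odd part of the centraliser of an involution of `Q`, `e` that of a
four group, `r = |C_R(z) : C_R(V1)|`. -/
theorem params {g : G} (hg : g * C.z * g⁻¹ = C.s * C.t) :
    ∃ (a K r u₁ e : ℕ) (x : Q), Inv x ∧ 0 < r ∧ Odd u₁ ∧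
      Nat.card C.D1 * a = Nat.card C.U ∧
      Nat.card C.D2 * K = Nat.card ↥(M ⊓ C.oc g) ∧
      Nat.card (centralizer ({x} : Set Q)) = 2 * 2 ^ (C.n - 2) * u₁ ∧
      (∃ y : Q, Inv y ∧ Commute y x ∧ x ≠ y ∧ ∃ E : Subgroup Q, Nat.card E = e ∧
        ∀ v ∈ E, Commute v x ∧ Commute v y ∧ Odd (orderOf v)) ∧
      a * e = u₁ * r ∧
      Nat.card M = 4 * 2 ^ (C.n - 2) * Nat.card C.U * (K * (2 ^ (C.n - 2) * a + K)) ∧
      2 * 2 ^ (C.n - 2) * u₁ * (K * (2 ^ (C.n - 2) * a + K)) = r * r * Nat.card Q ∧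
      Nat.card ↥(coreIn M) = Nat.card ↥(coreIn M ⊓ centralizer ({C.z} : Set G)) * (r * r) ∧
      Nat.card ↥(C.U ⊓ L) = u₁ * Nat.card ↥(coreIn M ⊓ centralizer ({C.z} : Set G)) ∧
      ∃ q₀, Odd q₀ ∧ Nat.card Q = 2 * 2 ^ (C.n - 2) * q₀ := by
  obtain ⟨hz, ht, hst, hs, hss⟩ := hM.mem_L hf
  set h := 2 ^ (C.n - 2) with hh
  set R := coreIn M with hR
  set cz := Nat.card ↥(R ⊓ centralizer ({C.z} : Set G)) with hcz
  set cv := Nat.card ↥(R ⊓ centralizer ({C.z, C.t} : Set G)) with hcv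
  set x := f ⟨C.z, hz⟩ with hx
  set y := f ⟨C.t, ht⟩ with hy
  have hRodd := hM.odd_core hf
  -- the order formula
  obtain ⟨A, B, K, eA, eB, eK, eM⟩ := hM.order_formula hg
  obtain ⟨a, ea⟩ : Nat.card C.D1 ∣ Nat.card C.U := card_dvd_of_le inf_le_left
  have hA : A = h * a := Nat.eq_of_mul_eq_mul_right (Nat.card_pos (α := C.D1))
    (by rw [eA, ea]; ring)
  have hMK : Nat.card M = 4 * h * Nat.card C.U * (K * (h * a + K)) := by
    rw [eM, hA, ← eK]
    calc 4 * (K * Nat.card C.D2) * (h * a * B) + 4 * h * Nat.card C.U * (K * K)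
        = 4 * K * (h * a) * (B * Nat.card C.D2) + 4 * h * Nat.card C.U * (K * K) := by ring
      _ = _ := by rw [eB]; ring
  -- the centraliser in `Q`
  have hkerL : f.ker = R.subgroupOf L := by
    ext v; rw [MonoidHom.mem_ker, hf.ker, mem_subgroupOf]
  set B₀ := C.H ⊓ L with hB₀
  set φ := f.comp (inclusion (inf_le_right : B₀ ≤ L)) with hφ
  have hrange : φ.range = centralizer ({x} : Set Q) := by
    refine le_antisymm ?_ fun v hv => ?_
    · rintro _ ⟨w, rfl⟩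
      refine mem_centralizer_singleton_iff.2 ?_
      show f _ * f _ = f _ * f _
      rw [← map_mul, ← map_mul]
      exact congrArg f (Subtype.ext (C.mem_H.1 w.2.1).eq)
    · obtain ⟨l, rfl⟩ := hf.surj v
      have hc : f l * x * (f l)⁻¹ * x = 1 := by
        rw [mem_centralizer_singleton_iff.1 hv, mul_inv_cancel_right, (hM.inv_map hf hz C.inv_z).1]
      rw [hx, ← map_inv, ← map_mul, ← map_mul, ← map_mul] at hc
      obtain ⟨k, hk, hkv⟩ := exists_conj_mem hRodd (C.inv_z.conj (l : G)) C.inv_z ((hf.ker _).1 hc)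
      have hkl : k * (l : G) ∈ B₀ := ⟨C.mem_H.2 (mul_inv_eq_iff_eq_mul.1 (by
        rw [show k * (l : G) * C.z * (k * (l : G))⁻¹ = k * ((l : G) * C.z * (l : G)⁻¹) * k⁻¹ by group,
          hkv])), mul_mem (hf.core_le hk) l.2⟩
      refine ⟨⟨_, hkl⟩, ?_⟩
      show f (⟨k, hf.core_le hk⟩ * l) = f l
      rw [map_mul, (hf.ker ⟨k, hf.core_le hk⟩).2 hk, one_mul]
  have hker : Nat.card φ.ker = cz := by
    rw [hcz, ← card_subtype B₀]
    congr 2
    ext v
    constructor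
    · rintro ⟨w, hw, rfl⟩
      exact ⟨(hf.ker _).1 hw, w.2.1⟩
    · rintro ⟨hv, hvz⟩
      exact ⟨⟨v, hvz, hf.core_le hv⟩, (hf.ker _).2 hv, rfl⟩
  have hB₀card : 2 * h * Nat.card ↥(C.U ⊓ L) = Nat.card (centralizer ({x} : Set Q)) * cz := by
    rw [← hM.card_inf_H hf, ← hker, ← hrange]
    have e := φ.ker.card_mul_index
    rw [Subgroup.index_ker] at e
    rw [← e, mul_comm]
  obtain ⟨u₁, hu₁⟩ : cz ∣ Nat.card ↥(C.U ⊓ L) := card_dvd_of_le (hM.inf_centralizer_core hf)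
  have huodd : Odd u₁ := (C.odd_U.of_dvd_nat (card_dvd_of_le inf_le_left)).of_dvd_nat
    ⟨cz, by rw [hu₁, mul_comm]⟩
  have hcent : Nat.card (centralizer ({x} : Set Q)) = 2 * h * u₁ :=
    Nat.eq_of_mul_eq_mul_right (Nat.card_pos (α := ↥(R ⊓ centralizer ({C.z} : Set G))))
      (by rw [← hcz, ← hB₀card, hu₁]; ring)
  -- `D1` inside `L`
  have haL : a * Nat.card ↥(C.D1 ⊓ L) = Nat.card ↥(C.U ⊓ L) := by
    have hn : C.D1 ≤ normalizer ((C.U ⊓ L : Subgroup G) : Set G) := fun d hd =>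
      CfsgLib.GW.CaseI.mem_normalizer_inf (C.H_le_normalizer_U (C.U_le_H hd.1))
        (hf.normal (hM.le (C.U_le_H hd.1)))
    have e := CfsgLib.Solvable.card_sup_mul_card_inf hn
    have hsup : C.D1 ⊔ (C.U ⊓ L) = C.U := le_antisymm (sup_le inf_le_left inf_le_left) fun v hv => by
      obtain ⟨c, hc, i, hi, hcb, hib, rfl⟩ := CfsgLib.GW.CaseI.exists_split C.inv_t.1 C.odd_U
        (C.H_le_normalizer_U C.t_mem_H) hv
      exact mul_mem (mem_sup_left (C.mem_D1.2 ⟨hc, hcb⟩)) (mem_sup_right ⟨hi,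
        mem_of_inverted (hf.normal (hM.le (C.U_le_H hi))) ht C.inv_t.1 (odd_orderOf C.odd_U hi) hib⟩)
    have hinf : C.D1 ⊓ (C.U ⊓ L) = C.D1 ⊓ L := by
      rw [← inf_assoc, inf_eq_left.2 (show C.D1 ≤ C.U from inf_le_left)]
    rw [hsup, hinf, ea] at e
    exact Nat.eq_of_mul_eq_mul_left (Nat.card_pos (α := C.D1)) (by rw [← e]; ring)
  set ψ := f.comp (inclusion (inf_le_right : C.D1 ⊓ L ≤ L)) with hψ
  set e := Nat.card ψ.range with he
  have hDker : Nat.card ψ.ker = cv := by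
    rw [hcv, ← card_subtype (C.D1 ⊓ L)]
    congr 2
    ext v
    rw [mem_inf, mem_centralizer_iff]
    simp only [Set.mem_insert_iff, Set.mem_singleton_iff, forall_eq_or_imp, forall_eq]
    constructor
    · rintro ⟨w, hw, rfl⟩
      obtain ⟨hwU, hwt⟩ := C.mem_D1.1 w.2.1
      exact ⟨(hf.ker _).1 hw, (C.mem_H.1 (C.U_le_H hwU)).eq.symm, hwt.eq.symm⟩
    · rintro ⟨hv, hvz, hvt⟩
      exact ⟨⟨v, C.mem_D1.2 ⟨C.mem_U_of_odd (C.mem_H.2 hvz.symm) (odd_orderOf hRodd hv), hvt.symm⟩,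
        hf.core_le hv⟩, (hf.ker _).2 hv, rfl⟩
  have hDe : Nat.card ↥(C.D1 ⊓ L) = e * cv := by
    rw [he, ← hDker]
    have e' := ψ.ker.card_mul_index
    rw [Subgroup.index_ker] at e'
    rw [← e', mul_comm]
  obtain ⟨r, hr⟩ : cv ∣ cz := card_dvd_of_le (inf_le_inf le_rfl (centralizer_le (by simp)))
  have hrpos : 0 < r := Nat.pos_of_ne_zero fun h0 => by
    rw [h0, mul_zero] at hr
    exact (Nat.card_pos (α := ↥(R ⊓ centralizer ({C.z} : Set G)))).ne' (hcz.symm.trans hr)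
  have hcvpos : 0 < cv := Nat.card_pos
  have hae : a * e = u₁ * r := Nat.eq_of_mul_eq_mul_right hcvpos (by
    rw [mul_assoc, ← hDe, haL, hu₁, hr]; ring)
  -- Brauer–Wielandt on the core
  obtain ⟨m, hm, hmt⟩ := hM.fus
  obtain ⟨p, hp, hpz, hpt⟩ := C.exists_zt
  have hbw := card_four hRodd C.inv_z C.inv_t C.commute_z_t C.t_ne_z.symm
    (hM.core_normal hf (hM.le C.z_mem_H)) (hM.core_normal hf (hM.le C.t_mem_H))
  have e1 : Nat.card ↥(R ⊓ centralizer ({C.t} : Set G)) = cz := by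
    rw [← hmt]; exact hM.card_cent_core hf hm
  have e2 : Nat.card ↥(R ⊓ centralizer ({C.z * C.t} : Set G)) = cz := by
    rw [← hpt, hM.card_cent_core hf (hM.P_le hp), e1]
  rw [e1, e2, ← hcz, ← hcv] at hbw
  have hRc : Nat.card R = cz * (r * r) :=
    Nat.eq_of_mul_eq_mul_right (pow_pos hcvpos 2) (by rw [hbw, hr]; ring)
  -- the order of `L`
  have hLQ : Nat.card L = Nat.card R * Nat.card Q := by
    have e' := f.ker.card_mul_index
    rw [Subgroup.index_ker, MonoidHom.range_eq_top.2 hf.surj, card_top, hkerL,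
      Nat.card_congr (subgroupOfEquivOfLe hf.core_le).toEquiv] at e'
    exact e'.symm
  have hmain : 2 * h * u₁ * (K * (h * a + K)) = r * r * Nat.card Q := by
    have e' := (hM.card_M hf).1
    rw [hMK, hu₁, hLQ, hRc] at e'
    refine Nat.eq_of_mul_eq_mul_left
      (show 0 < 2 * Nat.card C.U * cz by rw [hcz]; exact Nat.mul_pos (Nat.mul_pos two_pos Nat.card_pos) Nat.card_pos) ?_
    calc _ = 4 * h * Nat.card C.U * (K * (h * a + K)) * (cz * u₁) := by ring
      _ = _ := e'.trans (by ring)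
  -- the 2-part of `|Q|`
  have hq0 : ∃ q₀, Odd q₀ ∧ Nat.card Q = 2 * h * q₀ := by
    obtain ⟨q₀, hq₀⟩ : 2 * h ∣ Nat.card Q :=
      (Dvd.intro u₁ hcent.symm).trans (card_subgroup_dvd_card _)
    refine ⟨q₀, ?_, hq₀⟩
    rw [← Nat.not_even_iff_odd]
    intro hev
    obtain ⟨c, rfl⟩ := hev.two_dvd
    have h4 : 4 * h ∣ Nat.card L := ⟨Nat.card R * c, by rw [hLQ, hq₀]; ring⟩
    have h5 : 4 * h * 2 ∣ Nat.card M := by
      have hPn : (C.P : Subgroup G) ≤ normalizer (L : Set G) := hM.P_le.trans hf.normal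
      have e' := CfsgLib.Solvable.card_sup_mul_card_inf hPn
      rw [C.card_P, show Nat.card ↥((C.P : Subgroup G) ⊓ L) = 2 * h by
        have := hM.card_inf_P hf; omega] at e'
      obtain ⟨d, hd⟩ := h4
      refine Dvd.dvd.trans ⟨d, Nat.eq_of_mul_eq_mul_right (show 0 < 2 * h by positivity) ?_⟩
        (card_dvd_of_le (sup_le hM.P_le hf.le))
      rw [e', hd]; ring
    have h9 := h5.trans (card_subgroup_dvd_card M)
    rw [← (C.P : Subgroup G).card_mul_index, C.card_P] at h9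
    exact C.P.not_dvd_index (Nat.dvd_of_mul_dvd_mul_left (by positivity) h9)
  refine ⟨a, K, r, u₁, e, x, hM.inv_map hf hz C.inv_z, hrpos, huodd, ea.symm,
    by rw [mul_comm]; exact eK, hcent, ⟨y, hM.inv_map hf ht C.inv_t, ?_,
      hM.map_ne hf hz ht C.inv_z C.inv_t C.commute_z_t C.t_ne_z.symm, ψ.range, he.symm, ?_⟩,
    hae, hMK, hmain, hRc, by rw [hu₁, mul_comm], hq0⟩
  · show f _ * f _ = f _ * f _
    rw [← map_mul, ← map_mul]
    exact congrArg f (Subtype.ext C.commute_z_t.symm.eq)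
  · rintro _ ⟨w, rfl⟩
    obtain ⟨hwU, hwt⟩ := C.mem_D1.1 w.2.1
    refine ⟨?_, ?_, ?_⟩
    · show f _ * f _ = f _ * f _
      rw [← map_mul, ← map_mul]
      exact congrArg f (Subtype.ext (C.mem_H.1 (C.U_le_H hwU)).eq)
    · show f _ * f _ = f _ * f _
      rw [← map_mul, ← map_mul]
      exact congrArg f (Subtype.ext hwt.eq)
    · exact (odd_orderOf C.odd_U hwU).of_dvd_nat
        ((orderOf_map_dvd ψ w).trans (Subgroup.orderOf_coe w).symm.dvd)

end OneFused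

end CfsgLib.GW.Eight
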