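import Cfsg.Agent.GW.CaseI.PSLTorus
import Cfsg.Agent.DGroup.PGLAut

/-!
# An outer involution and the odd torus of `PSL₂(q)`, `q = 3, 5 mod 8`

An involutive automorphism of `PSL₂(q)` which fixes an involution `z` and moves an involution `w`
commuting with `z` inverts the odd torus in the centraliser of `z`.
-/

set_option autoImplicit false
set_option linter.style.haveILetI false
set_option linter.unusedSectionVars false

namespace CfsgLib.GW.Eight

open CfsgLib.AutPSL
open CfsgLib.Linear.SmallSub (P2)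
open CfsgLib.DGroup.PGLAut (lift_commute)
open CfsgLib.NormCyclic.PSLAut (innDiag_eq)
open CfsgLib.DGroup (eq_one_of_sq odd_orderOf)

variable {F : Type} [Field F] [Fintype F]

theorem two_ne_zero_of_odd (hodd : Odd (Fintype.card F)) : (2 : F) ≠ 0 := by
  intro h
  haveI : CharP F 2 := CharTwo.of_one_ne_zero_of_two_eq_zero one_ne_zero h
  obtain ⟨n, -, hn⟩ := FiniteField.card F 2
  rw [hn, Nat.odd_pow_iff n.pos.ne'] at hodd
  exact absurd hodd (by decide)

/-- An involutive field automorphism makes the order a square. -/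
theorem ringEquiv_eq_refl (hodd : Odd (Fintype.card F))
    (h8 : Fintype.card F % 8 = 3 ∨ Fintype.card F % 8 = 5) {σ : F ≃+* F}
    (hσ : ∀ x, σ (σ x) = x) : σ = RingEquiv.refl F := by
  classical
  have h2 := two_ne_zero_of_odd hodd
  refine RingEquiv.ext fun y => ?_
  by_contra hy
  set ν := y - σ y with hν
  have hν0 : ν ≠ 0 := fun h => hy (sub_eq_zero.1 h).symm
  have hνσ : σ ν = -ν := by rw [hν, map_sub, hσ]; ring
  let S := {x : F // σ x = x}
  let e : S × S ≃ F :=
    { toFun := fun ab => ab.1.1 + ab.2.1 * ν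
      invFun := fun x => (⟨(x + σ x) / 2, by rw [map_div₀, map_add, hσ, map_ofNat]; ring⟩,
        ⟨(x - σ x) / (2 * ν), by
          rw [map_div₀, map_sub, hσ, map_mul, map_ofNat, hνσ]
          field_simp
          ring⟩)
      left_inv := fun ab => by
        obtain ⟨⟨a, ha⟩, ⟨b, hb⟩⟩ := ab
        refine Prod.ext (Subtype.ext ?_) (Subtype.ext ?_)
        · show (a + b * ν + σ (a + b * ν)) / 2 = a
          rw [map_add, map_mul, ha, hb, hνσ]; field_simp; ring
        · show (a + b * ν - σ (a + b * ν)) / (2 * ν) = b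
          rw [map_add, map_mul, ha, hb, hνσ]; field_simp; ring
      right_inv := fun x => by
        show (x + σ x) / 2 + (x - σ x) / (2 * ν) * ν = x
        field_simp; ring }
  have hc := Fintype.card_congr e
  rw [Fintype.card_prod] at hc
  obtain ⟨k, hk⟩ : ∃ k, Fintype.card S = k := ⟨_, rfl⟩
  rw [hk] at hc
  have hm : (k % 8) * (k % 8) % 8 = Fintype.card F % 8 := by rw [← Nat.mul_mod, hc]
  have hlt : k % 8 < 8 := Nat.mod_lt _ (by norm_num)
  interval_cases h : k % 8 <;> omega

/-- An involutive automorphism is inner-diagonal. -/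
theorem mem_innDiag (hodd : Odd (Fintype.card F))
    (h8 : Fintype.card F % 8 = 3 ∨ Fintype.card F % 8 = 5) {β : MulAut (P2 F)} (hβ : β * β = 1) :
    β ∈ (innDiagHom 2 F).range := by
  obtain ⟨g, σ, rfl⟩ := exists_semi_two β
  rw [semiAut_mul] at hβ
  obtain ⟨h, -⟩ := semiAut_eq_one le_rfl hβ
  obtain rfl := ringEquiv_eq_refl hodd h8 (σ := σ) fun x => RingEquiv.congr_fun h x
  exact ⟨g, rfl⟩

theorem conj_mem_innDiag (x : P2 F) : MulAut.conj x ∈ (innDiagHom 2 F).range := by
  obtain ⟨s, rfl⟩ := QuotientGroup.mk_surjective x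
  exact ⟨Matrix.SpecialLinearGroup.toGL s, semiAut_toGL s⟩

/-- A lift of an involution commuting with a lift of a non-involution `x` has trace zero. -/
theorem trace_lift (hodd : (2 : F) ≠ 0) {g : GL (Fin 2) F}
    (hg : innDiagHom 2 F g * innDiagHom 2 F g = 1) (hg1 : innDiagHom 2 F g ≠ 1) :
    (g : Matrix (Fin 2) (Fin 2) F) 0 0 + (g : Matrix (Fin 2) (Fin 2) F) 1 1 = 0 := by
  have hg' : innDiagHom 2 F (g * g) = innDiagHom 2 F 1 := by rw [map_mul, hg, map_one]
  obtain ⟨c, hc⟩ := innDiag_eq hg'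
  have e00 := congrFun (congrFun hc 0) 0
  have e01 := congrFun (congrFun hc 0) 1
  have e10 := congrFun (congrFun hc 1) 0
  have e11 := congrFun (congrFun hc 1) 1
  simp [Matrix.mul_apply, Fin.sum_univ_two] at e00 e01 e10 e11
  by_contra htr
  apply hg1
  have cancel : ∀ {k : F}, k * ((g : Matrix (Fin 2) (Fin 2) F) 0 0 + (g : Matrix (Fin 2) (Fin 2) F) 1 1) = 0 →
      k = 0 := fun h => (mul_eq_zero.1 h).resolve_right htr
  have h01 := cancel (k := (g : Matrix (Fin 2) (Fin 2) F) 0 1) (by linear_combination e01)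
  have h10 := cancel (k := (g : Matrix (Fin 2) (Fin 2) F) 1 0) (by linear_combination e10)
  have hd := cancel (k := (g : Matrix (Fin 2) (Fin 2) F) 0 0 - (g : Matrix (Fin 2) (Fin 2) F) 1 1)
    (by linear_combination e00 - e11)
  rw [innDiagHom_apply]
  refine semiAut_scalar (c := (g : Matrix (Fin 2) (Fin 2) F) 0 0) ?_
  ext i j; fin_cases i <;> fin_cases j <;> simp [h01, h10]
  linear_combination -hd

/-- At most one involution of `PGL(2, q)` centralises an element which is not an involution. -/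
theorem unique_invol (hodd : (2 : F) ≠ 0) {x y z : MulAut (P2 F)}
    (hx : x ∈ (innDiagHom 2 F).range) (hy : y ∈ (innDiagHom 2 F).range)
    (hz : z ∈ (innDiagHom 2 F).range) (hxx : x * x ≠ 1) (hy2 : y * y = 1) (hy1 : y ≠ 1)
    (hz2 : z * z = 1) (hz1 : z ≠ 1) (hxy : Commute x y) (hxz : Commute x z) : y = z := by
  obtain ⟨A, rfl⟩ := hx
  obtain ⟨g, rfl⟩ := hy
  obtain ⟨h, rfl⟩ := hz
  have tg := trace_lift hodd hy2 hy1
  have th := trace_lift hodd hz2 hz1
  have hg := lift_commute hodd hxx hxy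
  have hh := lift_commute hodd hxx hxz
  have hA : (A : Matrix (Fin 2) (Fin 2) F) 0 1 ≠ 0 ∨ (A : Matrix (Fin 2) (Fin 2) F) 1 0 ≠ 0 ∨
      (A : Matrix (Fin 2) (Fin 2) F) 0 0 - (A : Matrix (Fin 2) (Fin 2) F) 1 1 ≠ 0 := by
    by_contra hcon
    push Not at hcon
    obtain ⟨a, b, c⟩ := hcon
    refine hxx ?_
    have hA1 : innDiagHom 2 F A = 1 := by
      rw [innDiagHom_apply]
      refine semiAut_scalar (c := (A : Matrix (Fin 2) (Fin 2) F) 0 0) ?_
      ext i j; fin_cases i <;> fin_cases j <;> simp [a, b]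
      linear_combination -c
    rw [hA1, one_mul]
  -- both lifts are multiples of the trace-free part of `A`
  have key : ∀ k : GL (Fin 2) F,
      (k : Matrix (Fin 2) (Fin 2) F) 0 0 + (k : Matrix (Fin 2) (Fin 2) F) 1 1 = 0 →
      (A : Matrix (Fin 2) (Fin 2) F) * k = (k : Matrix (Fin 2) (Fin 2) F) * A →
      ∃ c : F, c ≠ 0 ∧ (k : Matrix (Fin 2) (Fin 2) F) = c • ((2 : F) • (A : Matrix (Fin 2) (Fin 2) F) -
        ((A : Matrix (Fin 2) (Fin 2) F) 0 0 + (A : Matrix (Fin 2) (Fin 2) F) 1 1) • (1 : Matrix (Fin 2) (Fin 2) F)) := by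
    intro k tk hk
    have e00 := congrFun (congrFun hk 0) 0
    have e01 := congrFun (congrFun hk 0) 1
    have e10 := congrFun (congrFun hk 1) 0
    simp [Matrix.mul_apply, Fin.sum_univ_two] at e00 e01 e10
    set a := (A : Matrix (Fin 2) (Fin 2) F) with ha
    set m := (k : Matrix (Fin 2) (Fin 2) F) with hm
    set d := a 0 0 - a 1 1
    have hdet : m.det ≠ 0 := (Matrix.GeneralLinearGroup.det k).ne_zero
    have main : ∃ c : F, m 0 0 = c * d ∧ m 0 1 = c * (2 * a 0 1) ∧ m 1 0 = c * (2 * a 1 0) := by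
      rcases hA with h | h | h
      · refine ⟨m 0 1 / (2 * a 0 1), ?_, ?_, ?_⟩ <;> field_simp
        · linear_combination -e01 + a 0 1 * tk
        · linear_combination e00
      · refine ⟨m 1 0 / (2 * a 1 0), ?_, ?_, ?_⟩ <;> field_simp
        · linear_combination e10 + a 1 0 * tk
        · linear_combination -e00
      · refine ⟨m 0 0 / d, ?_, ?_, ?_⟩ <;> field_simp
        · linear_combination e01 - a 0 1 * tk
        · linear_combination -e10 - a 1 0 * tk
    obtain ⟨c, h0, h1, h2⟩ := main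
    refine ⟨c, fun hc => hdet ?_, ?_⟩
    · rw [Matrix.det_fin_two, h0, h1, h2, hc]; ring
    · ext i j; fin_cases i <;> fin_cases j <;> simp
      · linear_combination h0
      · linear_combination h1
      · linear_combination h2
      · linear_combination tk - h0
  obtain ⟨c, hc, ec⟩ := key g tg hg
  obtain ⟨e, he, ee⟩ := key h th hh
  have hgh : g = h * Matrix.GeneralLinearGroup.scalar (Fin 2) (Units.mk0 (c / e) (div_ne_zero hc he)) := by
    refine Units.ext ?_
    rw [Units.val_mul, ec, ee, Matrix.GeneralLinearGroup.coe_scalar]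
    show _ = _ * Matrix.scalar (Fin 2) (c / e)
    rw [Matrix.scalar_apply, ← Matrix.smul_one_eq_diagonal, Matrix.mul_smul, Matrix.mul_one, smul_smul,
      div_mul_cancel₀ _ he]
  rw [hgh, map_mul]
  refine mul_eq_left.2 ?_
  rw [innDiagHom_apply]
  refine semiAut_scalar (c := c / e) ?_
  rw [Matrix.GeneralLinearGroup.coe_scalar]
  show Matrix.scalar (Fin 2) (c / e) = _
  rw [Matrix.scalar_apply, Matrix.smul_one_eq_diagonal]

/-- An involutive automorphism fixing `z` and moving a commuting involution `w` inverts the odd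
elements commuting with `z`. -/
theorem aut_inverts (hodd : Odd (Fintype.card F))
    (h8 : Fintype.card F % 8 = 3 ∨ Fintype.card F % 8 = 5) {z w : P2 F} (hz : z * z = 1) (hz1 : z ≠ 1)
    (hw : w * w = 1) (hw1 : w ≠ 1) (hwz : Commute w z) (hne : w ≠ z) {β : MulAut (P2 F)}
    (hβ : β * β = 1) (hβz : β z = z) (hβw : β w ≠ w) {y : P2 F} (hyz : Commute y z)
    (hy : Odd (orderOf y)) : β y = y⁻¹ := by
  have h2 := two_ne_zero_of_odd hodd
  haveI : Finite (P2 F) := inferInstance
  -- no fixed odd element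
  have hfix : ∀ x : P2 F, Commute x z → Odd (orderOf x) → β x = x → x = 1 := by
    intro x hxz hxo hβx
    by_contra hx1
    have hconj : ∀ v : P2 F, β * MulAut.conj v = MulAut.conj (β v) * β := fun v =>
      MulEquiv.ext fun a => by simp [MulAut.mul_apply]
    have hcx : Commute (MulAut.conj x) β := by
      have := hconj x; rw [hβx] at this; exact this.symm
    have hzx : Commute (MulAut.conj x) (MulAut.conj z) := hxz.map MulAut.conj
    -- centre is trivial on these elements
    have hinj : ∀ v : P2 F, MulAut.conj v = 1 → v = 1 := by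
      intro v hv
      obtain ⟨s, rfl⟩ := QuotientGroup.mk_surjective v
      have hs : semiAut (Matrix.SpecialLinearGroup.toGL s) (RingEquiv.refl F) = 1 :=
        (semiAut_toGL s).trans hv
      obtain ⟨-, c, hc⟩ := semiAut_eq_one le_rfl hs
      refine (QuotientGroup.eq_one_iff _).2 (Subgroup.mem_center_iff.2 fun r => Subtype.ext ?_)
      have hc' : (s : Matrix (Fin 2) (Fin 2) F) = c • 1 := hc
      rw [Matrix.SpecialLinearGroup.coe_mul, Matrix.SpecialLinearGroup.coe_mul, hc', Matrix.smul_mul,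
        Matrix.mul_smul, Matrix.one_mul, Matrix.mul_one]
    have hxx : MulAut.conj x * MulAut.conj x ≠ 1 := fun h =>
      hx1 (eq_one_of_sq (hinj _ (by rw [map_mul]; exact h)) hxo)
    have hβ1 : β ≠ 1 := fun h => hβw (by rw [h]; rfl)
    have hz2 : MulAut.conj z * MulAut.conj z = 1 := by rw [← map_mul, hz, map_one]
    have e := unique_invol h2 (conj_mem_innDiag x) (mem_innDiag hodd h8 hβ) (conj_mem_innDiag z) hxx
      hβ hβ1 hz2 (fun h => hz1 (hinj z h)) hcx hzx
    apply hβw
    rw [e, MulAut.conj_apply, ← hwz.eq, mul_inv_cancel_right]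
  obtain ⟨u, ε, T, -, -, huo, hTc, hTu, hTz, hT, -⟩ :=
    CfsgLib.GW.CaseI.psl_torus hodd h8 hz hz1 hw hw1 hwz hne
  have hβy : Commute (β y) z := hβz ▸ hyz.map β.toMonoidHom
  have hyT := hT y hyz hy
  have hβT := hT (β y) hβy (by rw [β.orderOf_eq]; exact hy)
  have hcomm : Commute y (β y) := by
    haveI := hTc
    letI : CommGroup T := IsCyclic.commGroup
    exact congrArg Subtype.val (mul_comm (⟨y, hyT⟩ : T) ⟨β y, hβT⟩)
  have hmem : y * β y ∈ T := mul_mem hyT hβT
  have hk := hfix (y * β y) (hTz _ hmem) (odd_orderOf (hTu ▸ huo) hmem) (by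
    rw [map_mul, show β (β y) = y from DFunLike.congr_fun hβ y, hcomm.eq])
  exact eq_inv_of_mul_eq_one_right hk

/-- Form for a group `L` mapping onto `PSL₂(q)`, normalised by an involution `s` of the ambient
group. -/
theorem inverts_of_hom {G : Type*} [Group G] [Finite G] {L : Subgroup G}
    (hodd : Odd (Fintype.card F)) (h8 : Fintype.card F % 8 = 3 ∨ Fintype.card F % 8 = 5)
    (g : L →* P2 F) (hg : Function.Surjective g) {s : G} (hs : s * s = 1)
    (hsL : ∀ x ∈ L, s * x * s ∈ L)
    (hker : ∀ x : L, g x = 1 → g ⟨s * x * s, hsL x x.2⟩ = 1)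
    {t b : L} (ht : g t * g t = 1) (ht1 : g t ≠ 1) (hb : g b * g b = 1) (hb1 : g b ≠ 1)
    (hbt : Commute (g b) (g t)) (hne : g b ≠ g t)
    (hst : g ⟨s * t * s, hsL t t.2⟩ = g t) (hsb : g ⟨s * b * s, hsL b b.2⟩ ≠ g b)
    {y : L} (hyt : Commute (g y) (g t)) (hy : Odd (orderOf (g y))) :
    g ⟨s * y * s, hsL y y.2⟩ = (g y)⁻¹ := by
  let cs : L →* P2 F :=
    { toFun := fun x => g ⟨s * x * s, hsL x x.2⟩
      map_one' := by
        rw [show (⟨s * ((1 : L) : G) * s, hsL _ (1 : L).2⟩ : L) = 1 from Subtype.ext (by simp [hs]),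
          map_one]
      map_mul' := fun x x' => by
        rw [← map_mul]
        refine congrArg g (Subtype.ext ?_)
        simp only [Subgroup.coe_mul]
        calc s * (x * x') * s = s * x * (s * s) * x' * s := by rw [hs]; group
          _ = s * x * s * (s * x' * s) := by group }
  set β₀ : P2 F →* P2 F := g.liftOfSurjective hg ⟨cs, fun x hx => hker x hx⟩ with hβ₀
  have hval : ∀ x : L, β₀ (g x) = g ⟨s * x * s, hsL x x.2⟩ := fun x =>
    MonoidHom.liftOfRightInverse_comp_apply g _ _ ⟨cs, fun x hx => hker x hx⟩ x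
  have hinv : ∀ v : P2 F, β₀ (β₀ v) = v := fun v => by
    obtain ⟨x, rfl⟩ := hg v
    rw [hval, hval]
    refine congrArg g (Subtype.ext ?_)
    show s * (s * x * s) * s = x
    calc s * (s * x * s) * s = s * s * x * (s * s) := by group
      _ = x := by rw [hs, one_mul, mul_one]
  let β : MulAut (P2 F) :=
    { toFun := β₀, invFun := β₀, left_inv := hinv, right_inv := hinv, map_mul' := map_mul β₀ }
  rw [← hval]
  exact aut_inverts hodd h8 ht ht1 hb hb1 hbt hne (β := β) (MulEquiv.ext hinv)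
    (by show β₀ (g t) = g t; rw [hval, hst]) (by show β₀ (g b) ≠ g b; rw [hval]; exact hsb) hyt hy

end CfsgLib.GW.Eight
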