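import Cfsg.Agent.GW.Eight.TorusOuter
import Cfsg.Agent.Classical.PSLTwoSub
import Cfsg.Agent.GW.CaseI.PSLTorus
import Mathlib.FieldTheory.Finite.Basic

/-!
# The socle of `C(d)`: what the torus argument needs from `PSL(2, q)` or `A₇`

`T` is the set of elements of odd order commuting with the involution `ζ` and inverted by the commuting
involution `τ`; `ID` plays the part of the inner-diagonal automorphisms.
-/

set_option autoImplicit false
set_option linter.style.haveILetI false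
set_option linter.unusedSectionVars false

namespace CfsgLib.GW.Eight.TorusBuild

open CfsgLib.NormCyclic (Inv)
open CfsgLib.AutPSL
open CfsgLib.Linear.SmallSub (P2)
open CfsgLib.GW.Eight.TorusPSL

/-- What is used about the socle with two commuting involutions `ζ`, `τ`. -/
structure Model {Q : Type} [Group Q] (ζ τ : Q) where
  u : ℕ
  T : Subgroup Q
  cyc : IsCyclic T
  card : Nat.card T = u
  odd_u : Odd u
  comm : ∀ x ∈ T, Commute x ζ
  inv : ∀ x ∈ T, τ * x * τ = x⁻¹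
  mem : ∀ x : Q, Commute x ζ → Odd (orderOf x) → τ * x * τ = x⁻¹ → x ∈ T
  cent : 1 < u → ∀ x : Q, Commute x ζ → Odd (orderOf x) → x ∈ T
  ID : Subgroup (MulAut Q)
  inner : ∀ x : Q, MulAut.conj x ∈ ID
  four : ∀ β : MulAut Q, β * β = 1 → β ∉ ID →
    ∃ a b : Q, Inv a ∧ Inv b ∧ a ≠ b ∧ Commute a b ∧ β a = a ∧ β b = b
  fix : 1 < u → ∀ β ∈ ID, β ζ = ζ → β * β = 1 ∨ (∀ y ∈ T, β y = y) ∨
    ((∃ x : Q, β = MulAut.conj x) ∧ β * β = MulAut.conj ζ ∧ ∀ y ∈ T, β y = y⁻¹)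
  outer : 1 < u → ∀ γ ∈ ID, γ * γ = 1 → (∀ x : Q, γ ≠ MulAut.conj x) → γ ζ = ζ →
    ∃ M : ℕ, Odd M ∧ 2 * u ≤ M + 1 ∧ M.Coprime u ∧
      ∃ η : Q, orderOf η = M ∧ γ η = η ∧ ζ * η * ζ = η⁻¹
  simple : 1 < u → IsSimpleGroup Q
  fixed : 1 < u → ∀ n : ℕ, 3 ≤ n →
    (∃ x : Q, orderOf x = 2 ^ (n - 1) ∧ Commute x ζ ∧ ∀ y ∈ T, Commute x y) →
    2 ^ n ∣ Nat.card Q → ¬ 2 ^ (n + 1) ∣ Nat.card Q →
    ∃ (q : ℕ) (ε : ℤ), IsPrimePow q ∧ (ε = 1 ∨ ε = -1) ∧
      (q : ℤ) = 2 ^ n * (u : ℤ) + ε ∧ q ∣ Nat.card Q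

/-- The model for `PSL(2, q)`, `q` odd. -/
theorem psl_model {F : Type} [Field F] [Fintype F] (hodd : Odd (Fintype.card F)) {ζ τ : P2 F}
    (hζ : ζ * ζ = 1) (hζ1 : ζ ≠ 1) (hτ : τ * τ = 1) (hτ1 : τ ≠ 1) (hc : Commute τ ζ) (hne : τ ≠ ζ) :
    Nonempty (Model ζ τ) := by
  classical
  have h3 : 3 ≤ Fintype.card F := by
    have h1 := Fintype.one_lt_card (α := F)
    obtain ⟨k, hk⟩ := hodd
    omega
  obtain ⟨N⟩ := exists_num hodd h3
  obtain ⟨T, hTc, hTu, hTz, hTmem, hTinv⟩ := exists_torus hodd N hζ hζ1 hτ hτ1 hc hne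
  have h5 : 1 < N.u → 4 ≤ Nat.card F := fun hu => by
    have h2 : (4 : ℤ) ≤ 2 ^ (N.a + 1) := by
      exact_mod_cast Nat.pow_le_pow_right two_pos (show 2 ≤ N.a + 1 by have := N.one_le_a; omega)
    have e := N.eq_sub
    rw [Nat.card_eq_fintype_card]
    have h4 : (4 : ℤ) * 2 ≤ 2 ^ (N.a + 1) * (N.u : ℤ) :=
      mul_le_mul h2 (by exact_mod_cast hu) (by norm_num) (by positivity)
    rcases N.hε with h | h <;> omega
  refine ⟨{
    u := N.u
    T := T
    cyc := hTc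
    card := hTu
    odd_u := N.odd_u
    comm := hTz
    inv := hTinv
    mem := fun x h1 h2 _ => hTmem x h1 h2
    cent := fun _ => hTmem
    ID := (innDiagHom 2 F).range
    inner := conj_mem_innDiag
    four := fun β => exists_four_fixed hodd
    fix := fun _ β hβ hβz => ?_
    outer := fun _ γ hγ hγ2 hn hγz => ⟨N.M, N.odd_M, N.le, N.cop,
      exists_outer hodd N hγ hγ2 hn hζ hζ1 hγz⟩
    simple := fun hu => CfsgLib.Linear.PSLTwo.isSimple (h5 hu)
    fixed := fun _ n _ _ h2 h2' => ?_ }⟩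
  · rcases fix_or_sq hodd hβ hζ1 hβz with h | h
    · exact Or.inl h
    · exact Or.inr (Or.inl fun y hy =>
        h y (hTz y hy) (CfsgLib.DGroup.odd_orderOf (hTu ▸ N.odd_u) hy))
  · have hcard : Nat.card (P2 F) = 2 ^ (N.a + 1) * (Fintype.card F * N.u * N.M) := by
      refine Nat.eq_of_mul_eq_mul_left two_pos ?_
      rw [CfsgLib.GW.CaseI.two_mul_card_psl hodd, N.two_mul_card]
      ring
    have hoddrest : Odd (Fintype.card F * N.u * N.M) := (hodd.mul N.odd_u).mul N.odd_M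
    have hcop : ∀ i : ℕ, (2 ^ i).Coprime (Fintype.card F * N.u * N.M) := fun i =>
      (Nat.coprime_two_left.2 hoddrest).pow_left i
    have hn : n = N.a + 1 := by
      rw [hcard] at h2 h2'
      have hle := (Nat.pow_dvd_pow_iff_le_right one_lt_two).1 ((hcop n).dvd_of_dvd_mul_right h2)
      have hge : ¬ n + 1 ≤ N.a + 1 := fun h => h2' ((pow_dvd_pow 2 h).mul_right _)
      omega
    refine ⟨Fintype.card F, N.ε, ?_, N.hε, hn ▸ N.eq_sub, ?_⟩
    · obtain ⟨r, hr⟩ := CharP.exists F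
      obtain ⟨k, hr', hk⟩ := @FiniteField.card F _ _ r hr
      exact hk ▸ hr'.isPrimePow.pow k.pos.ne'
    · rw [hcard, mul_assoc (Fintype.card F)]
      exact (dvd_mul_right _ _).mul_left _

end CfsgLib.GW.Eight.TorusBuild
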