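import Cfsg.Agent.GW.Eight.TorusPSL
import Cfsg.Agent.SL2C.Normalizer

/-!
# An outer involution of `PGL₂(q)` centralises a torus of the opposite sign
-/

set_option autoImplicit false
set_option linter.style.haveILetI false
set_option linter.unusedSectionVars false
set_option linter.unusedSimpArgs false

namespace CfsgLib.GW.Eight.TorusPSL

open CfsgLib.AutPSL
open CfsgLib.NormCyclic (Inv)
open CfsgLib.NormCyclic.PSLAut (innDiag_eq)
open CfsgLib.Linear.SmallSub (P2 proj)
open CfsgLib.SL2C (SL mt IsScal exists_eq_smul_add_smul det_smul_add_smul sq_eq)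

variable {F : Type} [Field F] [Fintype F]

/-- An outer involution of `PGL(2, q)` fixing an involution `z` centralises an element of order
`(q + ε) / 2` inverted by `z`. -/
theorem exists_outer (hodd : Odd (Fintype.card F)) (N : Num (Fintype.card F))
    {γ : MulAut (P2 F)} (hγ : γ ∈ (innDiagHom 2 F).range) (hγ2 : γ * γ = 1)
    (hn : ∀ x : P2 F, γ ≠ MulAut.conj x) {z : P2 F} (hz : z * z = 1) (hz1 : z ≠ 1)
    (hγz : γ z = z) :
    ∃ η : P2 F, orderOf η = N.M ∧ γ η = η ∧ z * η * z = η⁻¹ := by
  classical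
  by_cases hM : N.M = 1
  · exact ⟨1, by rw [orderOf_one, hM], map_one _, by rw [mul_one, hz, inv_one]⟩
  have h2 := two_ne_zero' hodd
  obtain ⟨g, rfl⟩ := hγ
  have hγ1 : innDiagHom 2 F g ≠ 1 := fun h => hn 1 (by rw [h, map_one])
  set A := (g : Matrix (Fin 2) (Fin 2) F) with hAdef
  have hAd : A.det ≠ 0 := (Matrix.GeneralLinearGroup.det g).ne_zero
  have hAn : ¬ IsScal A := by
    rintro ⟨c, hc⟩
    exact hγ1 (by rw [innDiagHom_apply]; exact semiAut_scalar hc)
  -- the square is scalar and the trace vanishes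
  obtain ⟨k, hk⟩ := innDiag_eq (g := g * g) (h := 1) (by rw [map_mul, hγ2, map_one])
  rw [Units.val_mul, ← hAdef, Units.val_one] at hk
  have htr : A.trace = 0 := by
    by_contra ht
    refine hAn ⟨A.trace⁻¹ * (k + A.det), ?_⟩
    have h1 : A.trace • A = (k + A.det) • (1 : Matrix (Fin 2) (Fin 2) F) := by
      have h2 := (sq_eq A).symm.trans hk
      rw [sub_eq_iff_eq_add] at h2
      rw [h2, add_smul]
    have h3 := congrArg (fun B => A.trace⁻¹ • B) h1
    simpa [smul_smul, ht] using h3
  set c := -A.det with hc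
  have hAA : A * A = c • (1 : Matrix (Fin 2) (Fin 2) F) := by
    rw [sq_eq A, htr, zero_smul, zero_sub, hc, neg_smul]
  have hns : ¬ IsSquare A.det := by
    rintro ⟨δ, hδ⟩
    have hδ0 : δ ≠ 0 := fun h => hAd (by rw [hδ, h, mul_zero])
    let s : SL F := ⟨δ⁻¹ • A, by rw [Matrix.det_smul, Fintype.card_fin, hδ]; field_simp⟩
    refine hn (proj s) ?_
    have hg : g = Matrix.SpecialLinearGroup.toGL s *
        Matrix.GeneralLinearGroup.scalar (Fin 2) (Units.mk0 δ hδ0) := by
      refine Units.ext ?_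
      rw [Units.val_mul, Matrix.GeneralLinearGroup.coe_scalar]
      show A = (δ⁻¹ • A) * Matrix.scalar (Fin 2) δ
      rw [Matrix.scalar_apply, ← Matrix.smul_one_eq_diagonal, Matrix.mul_smul, Matrix.mul_one,
        smul_smul, mul_inv_cancel₀ hδ0, one_smul]
    rw [innDiagHom_apply, hg, semiAut_mul_scalar]
    exact semiAut_toGL s
  -- a lift of `z` anticommutes with `g`
  obtain ⟨Z, hZz, hZc⟩ := exists_rep z
  have htZ : (mt Z).trace = 0 :=
    (CfsgLib.Linear.FourGroups.proj_involution_iff hodd Z).1 (by rw [hZz]; exact ⟨hz, hz1⟩)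
  obtain ⟨e, he⟩ := innDiag_eq (g := g * Matrix.SpecialLinearGroup.toGL Z)
    (h := Matrix.SpecialLinearGroup.toGL Z * g)
    (by rw [map_mul, map_mul, hZc]; exact (conj_comm hγz).eq)
  simp only [Units.val_mul] at he
  change A * mt Z = e • (mt Z * A) at he
  have hdet := congrArg Matrix.det he
  rw [Matrix.det_smul, Fintype.card_fin, Matrix.det_mul, Matrix.det_mul, Z.2, mul_one, one_mul] at hdet
  have hee : e * e = 1 := mul_right_cancel₀ hAd (by rw [one_mul]; linear_combination -hdet)
  have hanti : A * mt Z = -(mt Z * A) := by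
    rcases mul_self_eq_one_iff.1 hee with rfl | rfl
    swap
    · rwa [neg_one_smul] at he
    exfalso
    rw [one_smul] at he
    have hZn : ¬ IsScal (mt Z) := fun h => CfsgLib.Linear.FourGroups.not_center_of_trace_zero hodd htZ
      (CfsgLib.SL2C.mem_center_iff_isScal.2 h)
    obtain ⟨a, b, hab⟩ := exists_eq_smul_add_smul hZn he.symm
    have h1 := congrArg Matrix.trace hab
    rw [htr, Matrix.trace_add, Matrix.trace_smul, Matrix.trace_smul, htZ, Matrix.trace_one,
      Fintype.card_fin, smul_zero, add_zero, smul_eq_mul] at h1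
    have ha : a = 0 := (mul_eq_zero.1 h1.symm).resolve_right (by exact_mod_cast h2)
    refine hns ⟨b, ?_⟩
    rw [hab, det_smul_add_smul, ha, htZ, Z.2]
    ring
  -- a torus element with the same square class
  obtain ⟨x, t, hxn, hxo, hts⟩ : ∃ (x : SL F) (t : F), x ∉ Subgroup.center (SL F) ∧
      orderOf x = 2 * N.M ∧ (mt x).trace = t ∧ IsSquare (c * (t ^ 2 - 4)) ∧ t ^ 2 - 4 ≠ 0 := by
    have hM3 : 3 ≤ N.M := by
      obtain ⟨j, hj⟩ := N.odd_M
      omega
    have hcard := N.eq_add
    by_cases hcs : IsSquare c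
    · have hm1 : ¬ IsSquare (-1 : F) := fun h => hns (by
        rw [show A.det = (-1) * c by rw [hc]; ring]
        exact h.mul hcs)
      have hε : N.ε = -1 := N.hε.resolve_left fun he => hm1 (FiniteField.isSquare_neg_one_iff.2 (by
        rw [N.hε4.1 he]; norm_num))
      obtain ⟨ν, hν⟩ := IsCyclic.exists_generator (α := Fˣ)
      have hνo : orderOf ν = 2 * N.M := by
        rw [orderOf_eq_card_of_forall_mem_zpowers hν, Nat.card_eq_fintype_card, Fintype.card_units]
        omega
      have hνν : ν * ν ≠ 1 := fun h => by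
        have := Nat.le_of_dvd two_pos (orderOf_dvd_of_pow_eq_one ((pow_two ν).trans h))
        omega
      refine ⟨CfsgLib.SL2C.dg ν, _, fun h => hνν (CfsgLib.SL2C.dg_mem_center_iff.1 h), ?_, rfl, ?_, ?_⟩
      · rw [orderOf_injective CfsgLib.SL2C.dg (fun a b h => (CfsgLib.SL2C.bor_inj h).1), hνo]
      all_goals
        have hsq : (mt (CfsgLib.SL2C.dg ν : SL F)).trace ^ 2 - 4 =
            ((ν : F) - ((ν⁻¹ : Fˣ) : F)) * ((ν : F) - ((ν⁻¹ : Fˣ) : F)) := by
          rw [CfsgLib.SL2C.mt_dg, Matrix.trace_fin_two]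
          have hν0 : (ν : F) ≠ 0 := ν.ne_zero
          simp only [Matrix.of_apply, Matrix.cons_val_zero, Matrix.cons_val_one, Units.val_inv_eq_inv_val]
          field_simp
          ring
        rw [hsq]
      · exact hcs.mul (IsSquare.mul_self _)
      · refine mul_self_ne_zero.2 (sub_ne_zero.2 fun h => hνν ?_)
        have h' : ν = ν⁻¹ := Units.ext h
        nth_rw 2 [h']
        exact mul_inv_cancel ν
    · have hm1 : IsSquare (-1 : F) := by
        obtain ⟨d, hd⟩ := CfsgLib.SL2C.isSquare_mul_of_not hns hcs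
        refine ⟨d / A.det, ?_⟩
        rw [div_mul_div_comm, ← hd, hc, eq_div_iff (mul_ne_zero hAd hAd)]
        ring
      have hε : N.ε = 1 := by
        refine N.hε.resolve_right fun he => ?_
        have h4 : Fintype.card F % 4 ≠ 1 := fun h => by
          have := N.hε4.2 h; omega
        have h3 := FiniteField.isSquare_neg_one_iff.1 hm1
        obtain ⟨j, hj⟩ := hodd
        omega
      obtain ⟨e, hell⟩ := CfsgLib.SL2C.exists_ell (F := F)
      haveI := CfsgLib.SL2C.isCyclic_tor hell
      obtain ⟨y, hy⟩ := IsCyclic.exists_ofOrder_eq_natCard (α := CfsgLib.SL2C.tor e)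
      have hyo : orderOf (y : SL F) = 2 * N.M := by
        rw [Subgroup.orderOf_coe, hy, CfsgLib.SL2C.card_tor hell]
        omega
      have hyn : (y : SL F) ∉ Subgroup.center (SL F) := fun h => by
        have h1 : (y : SL F) * y = 1 := CfsgLib.SL2C.mul_self_eq_one_of_center h
        have := Nat.le_of_dvd two_pos (orderOf_dvd_of_pow_eq_one ((pow_two _).trans h1))
        omega
      have hye : CfsgLib.SL2C.Ell (y : SL F) :=
        hell.of_commute hyn (Subgroup.mem_centralizer_singleton_iff.1 y.2).symm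
      set t := (mt (y : SL F)).trace with ht
      have hnsq : ¬ IsSquare (t ^ 2 - 4) := by
        rintro ⟨δ, hδ⟩
        -- an eigenvalue
        set l := (t + δ) / 2 with hl
        set B := mt (y : SL F) - l • (1 : Matrix (Fin 2) (Fin 2) F) with hB
        have hBd : B.det = 0 := by
          have h0 := det_smul_add_smul (mt (y : SL F)) (-l) 1
          rw [one_smul, neg_smul, ← ht, (y : SL F).2] at h0
          rw [hB, sub_eq_neg_add, h0, hl]
          field_simp
          linear_combination -hδ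
        obtain ⟨v, hv, hBv⟩ := Matrix.exists_mulVec_eq_zero_iff.2 hBd
        refine hye l v hv ?_
        rw [hB, Matrix.sub_mulVec, Matrix.smul_mulVec, Matrix.one_mulVec, sub_eq_zero] at hBv
        exact hBv
      exact ⟨y, t, hyn, hyo, rfl, CfsgLib.SL2C.isSquare_mul_of_not hcs hnsq,
        fun h => hnsq (h ▸ IsSquare.zero)⟩
  obtain ⟨rfl, ⟨d, hd⟩, ht4⟩ := hts
  set t := (mt x).trace with ht
  -- transport to `g`
  set l := d / (t ^ 2 - 4) with hl
  set G' : Matrix (Fin 2) (Fin 2) F := (-(l * t)) • 1 + (2 * l) • mt x with hG'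
  have hG't : G'.trace = 0 := by
    rw [hG', Matrix.trace_add, Matrix.trace_smul, Matrix.trace_smul, Matrix.trace_one, ← ht,
      Fintype.card_fin, smul_eq_mul, smul_eq_mul]
    push_cast
    ring
  have hG'd : G'.det = A.det := by
    have hA' : A.det = -c := by rw [hc, neg_neg]
    rw [hG', det_smul_add_smul, ← ht, x.2, hA']
    have e1 : l * l * (t ^ 2 - 4) = c := by
      rw [hl, div_mul_div_comm, div_mul_eq_mul_div, ← hd]
      field_simp
    linear_combination -e1
  have hl0 : l ≠ 0 := by
    intro h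
    apply hAd
    rw [← hG'd, hG', h]
    simp
  have hG'n : ¬ IsScal G' := by
    rintro ⟨a, ha⟩
    refine hxn (CfsgLib.SL2C.mem_center_iff_isScal.2 ⟨(2 * l)⁻¹ * (a + l * t), ?_⟩)
    have h1 : (2 * l) • mt x = (a + l * t) • (1 : Matrix (Fin 2) (Fin 2) F) := by
      rw [add_smul, ← ha, hG', neg_smul]; abel
    have h3 := congrArg (fun B => (2 * l)⁻¹ • B) h1
    simp only [smul_smul] at h3
    rwa [inv_mul_cancel₀ (mul_ne_zero h2 hl0), one_smul] at h3
  obtain ⟨P, hP, hPG⟩ := CfsgLib.SL2C.exists_conj hG'n hAn (hG't.trans htr.symm) hG'd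
  let p : GL (Fin 2) F := Matrix.GeneralLinearGroup.mkOfDetNeZero P hP
  have hp : (p : Matrix (Fin 2) (Fin 2) F) = P := rfl
  set X := p * Matrix.SpecialLinearGroup.toGL x * p⁻¹ with hX
  set η := innDiagHom 2 F p (proj x) with hη
  have hconj : innDiagHom 2 F X = MulAut.conj η := by
    have hxc : innDiagHom 2 F (Matrix.SpecialLinearGroup.toGL x) = MulAut.conj (proj x) := semiAut_toGL x
    rw [hX, map_mul, map_mul, map_inv, hxc, hη]
    exact MulEquiv.ext fun w => by simp [MulAut.mul_apply]
  -- the entries of the transported element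
  obtain ⟨a, b, hXab⟩ : ∃ a b : F, (X : Matrix (Fin 2) (Fin 2) F) = a • 1 + b • A := by
    refine exists_eq_smul_add_smul hAn ?_
    have hxG : G' * mt x = mt x * G' := by
      rw [hG']; simp [Matrix.add_mul, Matrix.mul_add]
    have hpi : P * ((p⁻¹ : GL (Fin 2) F) : Matrix (Fin 2) (Fin 2) F) = 1 := by
      rw [← hp, ← Units.val_mul, mul_inv_cancel, Units.val_one]
    have hip : ((p⁻¹ : GL (Fin 2) F) : Matrix (Fin 2) (Fin 2) F) * P = 1 := by
      rw [← hp, ← Units.val_mul, inv_mul_cancel, Units.val_one]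
    have hiA : ((p⁻¹ : GL (Fin 2) F) : Matrix (Fin 2) (Fin 2) F) * A =
        G' * ((p⁻¹ : GL (Fin 2) F) : Matrix (Fin 2) (Fin 2) F) := by
      calc _ = ((p⁻¹ : GL (Fin 2) F) : Matrix (Fin 2) (Fin 2) F) * (A * P) *
            ((p⁻¹ : GL (Fin 2) F) : Matrix (Fin 2) (Fin 2) F) := by
            simp only [Matrix.mul_assoc, hpi, Matrix.mul_one]
        _ = _ := by rw [hPG, ← Matrix.mul_assoc, hip, Matrix.one_mul]
    rw [hX, Units.val_mul, Units.val_mul, hp]
    show A * (P * mt x * ((p⁻¹ : GL (Fin 2) F) : Matrix (Fin 2) (Fin 2) F)) =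
      (P * mt x * ((p⁻¹ : GL (Fin 2) F) : Matrix (Fin 2) (Fin 2) F)) * A
    set Q := ((p⁻¹ : GL (Fin 2) F) : Matrix (Fin 2) (Fin 2) F)
    calc A * (P * mt x * Q) = (A * P) * mt x * Q := by simp only [Matrix.mul_assoc]
      _ = P * (G' * mt x) * Q := by rw [hPG]; simp only [Matrix.mul_assoc]
      _ = P * mt x * (G' * Q) := by rw [hxG]; simp only [Matrix.mul_assoc]
      _ = P * mt x * Q * A := by rw [← hiA]; simp only [Matrix.mul_assoc]
  have hXd : a ^ 2 - c * b ^ 2 = 1 := by
    have h1 : (X : Matrix (Fin 2) (Fin 2) F).det = 1 := by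
      rw [hX, Units.val_mul, Units.val_mul, Matrix.det_units_conj]
      exact x.2
    rw [hXab, det_smul_add_smul, htr] at h1
    rw [hc]
    linear_combination h1
  refine ⟨η, ?_, ?_, ?_⟩
  all_goals clear_value X
  · rw [hη, (innDiagHom 2 F p).orderOf_eq]
    refine orderOf_eq_of_pow_and_pow_div_prime N.odd_M.pos ?_ fun r hr hrd => ?_
    · rw [← map_pow, CfsgLib.Linear.FourGroups.proj_eq_one]
      refine CfsgLib.SL2C.mem_center_of_mul_self hodd ?_
      rw [← pow_add, ← two_mul, ← hxo, pow_orderOf_eq_one]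
    · intro h
      rw [← map_pow, CfsgLib.Linear.FourGroups.proj_eq_one] at h
      have h1 := CfsgLib.SL2C.mul_self_eq_one_of_center h
      rw [← pow_add, ← two_mul, ← orderOf_dvd_iff_pow_eq_one, hxo] at h1
      obtain ⟨m, hm⟩ := hrd
      have hm' : N.M / r = m := by rw [hm, Nat.mul_div_cancel_left _ hr.pos]
      rw [hm'] at h1
      have hmpos : 0 < m := by
        rcases Nat.eq_zero_or_pos m with h0 | h0
        · have := N.odd_M.pos; rw [hm, h0, mul_zero] at this; omega
        · exact h0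
      have h5 := Nat.le_of_dvd (by omega) h1
      have h6 : 2 * m ≤ r * m := Nat.mul_le_mul_right _ hr.two_le
      omega
  · have hgX : g * X = X * g := Units.ext (by
      rw [Units.val_mul, Units.val_mul, ← hAdef, hXab]
      simp [Matrix.add_mul, Matrix.mul_add])
    set γ := innDiagHom 2 F g
    have h1 : MulAut.conj (γ η) = MulAut.conj η :=
      calc MulAut.conj (γ η) = γ * MulAut.conj η * γ⁻¹ := MulEquiv.ext fun w => by simp [MulAut.mul_apply]
        _ = MulAut.conj η := by rw [← hconj, ← map_mul, hgX, map_mul, mul_inv_cancel_right]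
    exact mul_inv_eq_one.1 (conj_injective (by rw [map_mul, map_inv, h1, mul_inv_cancel]))
  · set Y := Matrix.SpecialLinearGroup.toGL Z with hY
    have hinv : X * (Y * X) = Y := by
      refine Units.ext ?_
      rw [Units.val_mul, Units.val_mul, hXab]
      show (a • 1 + b • A) * (mt Z * (a • 1 + b • A)) = mt Z
      have h1 : (a • 1 + b • A) * mt Z = mt Z * (a • 1 - b • A) := by
        rw [Matrix.add_mul, Matrix.smul_mul, Matrix.one_mul, Matrix.smul_mul, hanti, Matrix.mul_sub,
          Matrix.mul_smul, Matrix.mul_one, Matrix.mul_smul, smul_neg, sub_eq_add_neg]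
      rw [← Matrix.mul_assoc, h1, Matrix.mul_assoc]
      have h2 : (a • 1 - b • A) * (a • 1 + b • A) = (1 : Matrix (Fin 2) (Fin 2) F) := by
        simp only [Matrix.sub_mul, Matrix.mul_add, Matrix.smul_mul, Matrix.mul_smul, Matrix.one_mul,
          Matrix.mul_one, hAA, smul_smul]
        have e : (a * a - b * (b * c)) • (1 : Matrix (Fin 2) (Fin 2) F) = 1 := by
          rw [show a * a - b * (b * c) = 1 by linear_combination hXd, one_smul]
        conv_rhs => rw [← e, sub_smul]
        simp only [smul_sub, smul_add, smul_smul, mul_comm b a]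
        abel
      rw [h2, Matrix.mul_one]
    have h1 : MulAut.conj (η * (z * η)) = MulAut.conj z := by
      rw [map_mul, map_mul, ← hconj, ← hZc, ← map_mul, ← map_mul, hinv]
    have h3 : η * (z * η) = z :=
      mul_inv_eq_one.1 (conj_injective (by rw [map_mul _ _ z⁻¹, map_inv, h1, mul_inv_cancel]))
    calc z * η * z = η⁻¹ * (η * (z * η)) * z := by group
      _ = η⁻¹ := by rw [h3, mul_assoc, hz, mul_one]

end CfsgLib.GW.Eight.TorusPSL
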