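import Cfsg.Agent.Classical.PSLTwoFour
import Cfsg.Agent.DGroup.PGLAut
import Cfsg.Agent.AutPSL.FieldClasses

/-!
# Automorphisms of `PSL₂(q)`, `q` odd, and the centraliser of an involution

The odd torus in the centraliser of an involution; an involutive automorphism outside `PGL₂(q)`
centralises a four group; an element of `PGL₂(q)` fixing an involution centralises its odd torus or is
an involution; an outer involution of `PGL₂(q)` centralises a torus of the opposite sign.
-/

set_option autoImplicit false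
set_option linter.style.haveILetI false
set_option linter.unusedSectionVars false
set_option linter.unusedSimpArgs false
set_option linter.unusedTactic false
set_option linter.unreachableTactic false

namespace CfsgLib.GW.Eight.TorusPSL

open CfsgLib.AutPSL
open CfsgLib.NormCyclic (Inv)
open CfsgLib.NormCyclic.PSLAut (inn inn_apply inn_eq innDiag_eq wy coe_wy comm_field_inn)
open CfsgLib.DGroup.PGLAut (lift_commute matrix_comm)
open CfsgLib.DGroup (eq_one_of_sq)
open CfsgLib.Linear.SmallSub (P2)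

variable {F : Type} [Field F] [Fintype F]

theorem two_ne_zero' (hodd : Odd (Fintype.card F)) : (2 : F) ≠ 0 :=
  CfsgLib.SL2C.two_ne_zero_of_odd hodd

/-- The numbers attached to the field: `q - ε = 2 ^ (a + 1) u` and `q + ε = 2 M`. -/
structure Num (q : ℕ) where
  a : ℕ
  u : ℕ
  M : ℕ
  ε : ℤ
  one_le_a : 1 ≤ a
  hε : ε = 1 ∨ ε = -1
  hε4 : (ε = 1 ↔ q % 4 = 1)
  odd_u : Odd u
  odd_M : Odd M
  eq_sub : (q : ℤ) = 2 ^ (a + 1) * (u : ℤ) + ε
  eq_add : (q : ℤ) + ε = 2 * (M : ℤ)
  cop : M.Coprime u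
  le : 2 * u ≤ M + 1

theorem exists_num {q : ℕ} (hq : Odd q) (h3 : 3 ≤ q) : Nonempty (Num q) := by
  obtain ⟨j, hj⟩ := hq
  obtain ⟨m, M, ε, hε, hε4, hm, hM, hMo, hm2⟩ : ∃ (m M : ℕ) (ε : ℤ), (ε = 1 ∨ ε = -1) ∧
      (ε = 1 ↔ q % 4 = 1) ∧ (q : ℤ) - ε = 2 * m ∧ (q : ℤ) + ε = 2 * M ∧ Odd M ∧ 2 ∣ m := by
    by_cases h : q % 4 = 1
    · exact ⟨(q - 1) / 2, (q + 1) / 2, 1, Or.inl rfl, by simp [h], by omega, by omega,
        Nat.odd_iff.2 (by omega), by omega⟩
    · exact ⟨(q + 1) / 2, (q - 1) / 2, -1, Or.inr rfl, by simp [h], by omega, by omega,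
        Nat.odd_iff.2 (by omega), by omega⟩
  obtain ⟨a, u, hu, hau⟩ := Nat.exists_eq_two_pow_mul_odd (show m ≠ 0 by omega)
  have ha : 1 ≤ a := by
    rcases a with _ | a
    · rw [pow_zero, one_mul] at hau
      obtain ⟨i, hi⟩ := hu
      omega
    · omega
  have h2u : 2 * u ≤ m := by
    rw [hau]
    exact Nat.mul_le_mul_right u (le_trans (le_refl _) (Nat.pow_le_pow_right two_pos ha))
  refine ⟨⟨a, u, M, ε, ha, hε, hε4, hu, hMo, ?_, hM, ?_, ?_⟩⟩
  · have : (m : ℤ) = 2 ^ a * u := by exact_mod_cast hau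
    rw [pow_succ]
    linear_combination hm + 2 * this
  · refine Nat.coprime_of_dvd fun k hk h1 h2 => ?_
    have hkm : k ∣ m := hau ▸ h2.mul_left _
    have hk2 : k ∣ 2 := by
      have e1 : (k : ℤ) ∣ (M : ℤ) := Int.natCast_dvd_natCast.2 h1
      have e2 : (k : ℤ) ∣ (m : ℤ) := Int.natCast_dvd_natCast.2 hkm
      have e3 : (k : ℤ) ∣ ((M : ℤ) - m) := dvd_sub e1 e2
      have e4 : (M : ℤ) - m = ε := by omega
      rw [e4] at e3
      rcases hε with e | e <;> rw [e] at e3
      · exact (Int.natCast_dvd_natCast.1 (e3 : (k : ℤ) ∣ ((1 : ℕ) : ℤ))).trans (one_dvd _)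
      · exact (Int.natCast_dvd_natCast.1 (dvd_neg.1 e3 : (k : ℤ) ∣ ((1 : ℕ) : ℤ))).trans (one_dvd _)
    have := (Nat.prime_dvd_prime_iff_eq hk Nat.prime_two).1 hk2
    subst this
    exact (Nat.not_even_iff_odd.2 hMo) (even_iff_two_dvd.2 h1)
  · rcases hε with e | e <;> omega

theorem Num.two_mul_card {q : ℕ} (N : Num q) :
    q * (q ^ 2 - 1) = q * (2 ^ (N.a + 1) * N.u) * (2 * N.M) := by
  have h1 : (((q ^ 2 - 1 : ℕ)) : ℤ) = (q : ℤ) ^ 2 - 1 := by
    rcases Nat.eq_zero_or_pos q with h | h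
    · exfalso
      have := N.eq_add
      subst h
      rcases N.hε with e | e <;> omega
    · have : 1 ≤ q ^ 2 := Nat.one_le_pow _ _ h
      push_cast [Nat.cast_sub this]
      ring
  zify
  rw [h1]
  have hsq : N.ε ^ 2 = 1 := by rcases N.hε with e | e <;> rw [e] <;> norm_num
  linear_combination (q : ℤ) * hsq + (q : ℤ) * ((q : ℤ) + N.ε) * N.eq_sub +
    (q : ℤ) * (2 ^ (N.a + 1) * (N.u : ℤ)) * N.eq_add

/-- The odd torus in the centraliser of an involution. -/
theorem exists_torus (hodd : Odd (Fintype.card F)) (N : Num (Fintype.card F)) {z w : P2 F}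
    (hz : z * z = 1) (hz1 : z ≠ 1) (hw : w * w = 1) (hw1 : w ≠ 1) (hc : Commute w z) (hne : w ≠ z) :
    ∃ T : Subgroup (P2 F), IsCyclic T ∧ Nat.card T = N.u ∧
      (∀ x ∈ T, Commute x z) ∧ (∀ x : P2 F, Commute x z → Odd (orderOf x) → x ∈ T) ∧
      ∀ t ∈ T, w * t * w = t⁻¹ := by
  obtain ⟨x, U, m, hx, hx1, -, hUx, hUc, hm, hcard, -, hinv2, hout⟩ :=
    CfsgLib.Linear.FourGroups.centralizer_shape (F := F) hodd
  obtain ⟨g, hg⟩ := isConj_iff.1 (CfsgLib.Linear.FourGroups.involutions_conj hodd hx hx1 hz hz1)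
  have hmu : m = 2 ^ N.a * N.u := by
    have h1 := N.eq_sub
    rw [pow_succ] at h1
    have h2 : ((2 ^ N.a * N.u : ℕ) : ℤ) = 2 ^ N.a * (N.u : ℤ) := by push_cast; rfl
    by_cases h4 : Fintype.card F % 4 = 1
    · rw [if_pos h4] at hm
      have he := N.hε4.2 h4
      rw [he] at h1
      have h5 : 1 ≤ Fintype.card F := by omega
      zify [h5] at hm
      exact_mod_cast (by linarith : (m : ℤ) = 2 ^ N.a * (N.u : ℤ))
    · rw [if_neg h4] at hm
      have he := N.hε.resolve_left (fun e => h4 (N.hε4.1 e))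
      rw [he] at h1
      zify at hm
      exact_mod_cast (by linarith : (m : ℤ) = 2 ^ N.a * (N.u : ℤ))
  obtain ⟨g₀, hg₀⟩ := hUc.exists_generator
  have hgo : orderOf g₀ = 2 ^ N.a * N.u := by
    rw [orderOf_eq_card_of_forall_mem_zpowers hg₀, hcard, hmu]
  set s : P2 F := g * (g₀ : P2 F) ^ 2 ^ N.a * g⁻¹ with hs
  have hso : orderOf s = N.u := by
    rw [hs, CfsgLib.Invol.orderOf_conj_eq, orderOf_pow_of_dvd (pow_ne_zero _ two_ne_zero)
      (by rw [Subgroup.orderOf_coe, hgo]; exact dvd_mul_right _ _), Subgroup.orderOf_coe, hgo,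
      Nat.mul_div_cancel_left _ (by positivity)]
  have hback : ∀ c : P2 F, Commute c z → Commute (g⁻¹ * c * g) x := fun c hc' => by
    have := (Commute.conj_iff g⁻¹).2 hc'
    rwa [inv_inv, show g⁻¹ * z * g = x by rw [← hg]; group] at this
  have hfwd : ∀ c ∈ U, Commute (g * c * g⁻¹) z := fun c hc' => by
    have := (Commute.conj_iff g).2 (Subgroup.mem_centralizer_singleton_iff.1 (hUx hc') : Commute c x)
    rwa [hg] at this
  refine ⟨Subgroup.zpowers s, inferInstance, by rw [Nat.card_zpowers, hso],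
    fun c hc' => ?_, fun c hcz ho => ?_, ?_⟩
  · obtain ⟨i, rfl⟩ := Subgroup.mem_zpowers_iff.1 hc'
    exact (hfwd _ (pow_mem g₀.2 _)).zpow_left i
  · set c' := g⁻¹ * c * g with hc'
    have hco : Odd (orderOf c') := by
      have := CfsgLib.Invol.orderOf_conj_eq g⁻¹ c
      rw [inv_inv] at this
      rwa [hc', this]
    have hcc : c = g * c' * g⁻¹ := by rw [hc']; group
    by_cases hU : c' ∈ U
    · obtain ⟨i, hi⟩ := Subgroup.mem_zpowers_iff.1 (hg₀ ⟨c', hU⟩)
      have hi' : (g₀ : P2 F) ^ i = c' := by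
        have := congrArg Subtype.val hi
        rwa [SubgroupClass.coe_zpow] at this
      have hdvd : orderOf c' ∣ N.u := by
        have h1 : orderOf c' ∣ 2 ^ N.a * N.u := by
          rw [← hi']
          refine orderOf_dvd_of_pow_eq_one ?_
          rw [← zpow_natCast, ← zpow_mul, mul_comm, zpow_mul, zpow_natCast, ← hgo,
            ← Subgroup.orderOf_coe, pow_orderOf_eq_one, one_zpow]
        exact ((Nat.coprime_two_right.2 hco).pow_right _).dvd_of_dvd_mul_left h1
      have hdiv : ((2 ^ N.a * N.u : ℕ) : ℤ) ∣ i * (N.u : ℤ) := by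
        rw [← hgo, ← Subgroup.orderOf_coe, orderOf_dvd_iff_zpow_eq_one, zpow_mul, hi', zpow_natCast]
        exact orderOf_dvd_iff_pow_eq_one.1 hdvd
      push_cast at hdiv
      obtain ⟨k, hk⟩ := Int.dvd_of_mul_dvd_mul_right
        (by exact_mod_cast N.odd_u.pos.ne' : (N.u : ℤ) ≠ 0) hdiv
      refine Subgroup.mem_zpowers_iff.2 ⟨k, ?_⟩
      rw [hs, conj_zpow, hcc, ← hi', ← zpow_natCast, ← zpow_mul, hk]
      push_cast
      ring_nf
    · have h1 := (hout c' (Subgroup.mem_centralizer_singleton_iff.2 (hback c hcz)) hU).1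
      rw [hcc, eq_one_of_sq h1 hco, mul_one, mul_inv_cancel]
      exact one_mem _
  · intro t ht
    set w' := g⁻¹ * w * g with hw'
    have hwU : w' ∉ U := by
      intro hU
      have hsq : w' * w' = 1 := by
        rw [hw', show g⁻¹ * w * g * (g⁻¹ * w * g) = g⁻¹ * (w * w) * g by group, hw]; group
      rcases hinv2 w' hU hsq with e | e
      · exact hw1 (by rw [show w = g * w' * g⁻¹ by rw [hw']; group, e]; group)
      · exact hne (by rw [show w = g * w' * g⁻¹ by rw [hw']; group, e, hg])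
    obtain ⟨i, rfl⟩ := Subgroup.mem_zpowers_iff.1 ht
    obtain ⟨-, -, h1⟩ := hout w' (Subgroup.mem_centralizer_singleton_iff.2 (hback w hc)) hwU
    have h2 := h1 _ (zpow_mem (pow_mem g₀.2 (2 ^ N.a)) i)
    have hwi : w⁻¹ = w := inv_eq_of_mul_eq_one_right hw
    calc w * s ^ i * w = g * (w' * ((g₀ : P2 F) ^ 2 ^ N.a) ^ i * w'⁻¹) * g⁻¹ := by
          rw [hs, conj_zpow, hw']
          conv_lhs => arg 2; rw [← hwi]
          group
      _ = (s ^ i)⁻¹ := by rw [h2, hs, conj_zpow]; group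

theorem exists_rep (x : P2 F) : ∃ s : Matrix.SpecialLinearGroup (Fin 2) F,
    CfsgLib.Linear.SmallSub.proj s = x ∧
      innDiagHom 2 F (Matrix.SpecialLinearGroup.toGL s) = MulAut.conj x := by
  obtain ⟨s, rfl⟩ := QuotientGroup.mk_surjective x
  exact ⟨s, rfl, semiAut_toGL s⟩

theorem conj_mem_innDiag (x : P2 F) : MulAut.conj x ∈ (innDiagHom 2 F).range := by
  obtain ⟨s, -, hs⟩ := exists_rep x
  exact ⟨_, hs⟩

theorem conj_injective {x : P2 F} (h : MulAut.conj x = 1) : x = 1 := by
  obtain ⟨s, hs, hsc⟩ := exists_rep x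
  rw [h] at hsc
  obtain ⟨-, c, hc⟩ := semiAut_eq_one le_rfl hsc
  rw [← hs]
  refine (QuotientGroup.eq_one_iff _).2 (Subgroup.mem_center_iff.2 fun r => Subtype.ext ?_)
  have hc' : (s : Matrix (Fin 2) (Fin 2) F) = c • 1 := hc
  rw [Matrix.SpecialLinearGroup.coe_mul, Matrix.SpecialLinearGroup.coe_mul, hc', Matrix.smul_mul,
    Matrix.mul_smul, Matrix.one_mul, Matrix.mul_one]

theorem conj_comm {β : MulAut (P2 F)} {x : P2 F} (h : β x = x) : Commute β (MulAut.conj x) :=
  MulEquiv.ext fun a => by simp [MulAut.mul_apply, h]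

/-- An involutive automorphism outside `PGL(2, q)` centralises a four group. -/
theorem exists_four_fixed (hodd : Odd (Fintype.card F)) {β : MulAut (P2 F)} (hβ : β * β = 1)
    (hn : β ∉ (innDiagHom 2 F).range) :
    ∃ a b : P2 F, Inv a ∧ Inv b ∧ a ≠ b ∧ Commute a b ∧ β a = a ∧ β b = b := by
  have h2 := two_ne_zero' hodd
  obtain ⟨g, σ, rfl⟩ := exists_semi_two β
  have hσ1 : σ ≠ RingEquiv.refl F := fun h => hn ⟨g, by rw [innDiagHom_apply, h]⟩
  have hσ2 : (σ : RingAut F) * σ = 1 := by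
    rw [semiAut_mul] at hβ
    exact (semiAut_eq_one le_rfl hβ).1
  have hσo : orderOf (σ : RingAut F) = 2 :=
    orderOf_eq_prime (by rw [pow_two]; exact hσ2) hσ1
  have hgo : orderOf (semiAut g σ) = 2 :=
    orderOf_eq_prime (by rw [pow_two]; exact hβ) fun h => hn ⟨1, by rw [map_one]; exact h.symm⟩
  obtain ⟨k, hk⟩ := exists_conj_of_orderOf le_rfl Nat.prime_two hσo hgo
  -- two commuting involutions over the prime field
  obtain ⟨a, b, hab, haσ, hbσ⟩ : ∃ a b : F, a * a + b * b = -1 ∧ σ a = a ∧ σ b = b := by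
    haveI : CharP F (ringChar F) := ringChar.charP F
    haveI : NeZero (ringChar F) := ⟨CharP.ringChar_ne_zero_of_finite F⟩
    obtain ⟨a, b, h⟩ := CharP.sq_add_sq F (ringChar F) (-1)
    refine ⟨a, b, ?_, map_natCast σ a, map_natCast σ b⟩
    push_cast at h
    linear_combination h
  let m : Matrix.SpecialLinearGroup (Fin 2) F :=
    ⟨!![a, b; b, -a], by rw [Matrix.det_fin_two_of]; linear_combination -hab⟩
  have hm : (m : Matrix (Fin 2) (Fin 2) F) = !![a, b; b, -a] := rfl
  set W' : Matrix.SpecialLinearGroup (Fin 2) F := wy with hW'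
  have hneg : ∀ x : Matrix.SpecialLinearGroup (Fin 2) F,
      (x : Matrix (Fin 2) (Fin 2) F) = (-1 : F) • 1 → inn x = 1 := fun x hx => by
    rw [inn_apply]
    exact semiAut_scalar (c := -1) hx
  have hinn : ∀ x : Matrix.SpecialLinearGroup (Fin 2) F,
      inn x = MulAut.conj (CfsgLib.Linear.SmallSub.proj x) := fun x => semiAut_toGL x
  have hconv : ∀ x : Matrix.SpecialLinearGroup (Fin 2) F,
      inn x = 1 → CfsgLib.Linear.SmallSub.proj x = 1 := fun x hx => conj_injective (hinn x ▸ hx)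
  set A := CfsgLib.Linear.SmallSub.proj W' with hA
  set B := CfsgLib.Linear.SmallSub.proj m with hB
  have hA2 : A * A = 1 := by
    rw [hA, ← map_mul]
    refine hconv _ (hneg _ ?_)
    rw [Matrix.SpecialLinearGroup.coe_mul, hW', coe_wy]
    ext i j; fin_cases i <;> fin_cases j <;> simp [Matrix.mul_fin_two]
  have hB2 : B * B = 1 := by
    rw [hB, ← map_mul]
    refine hconv _ (hneg _ ?_)
    rw [Matrix.SpecialLinearGroup.coe_mul, hm]
    ext i j; fin_cases i <;> fin_cases j <;>
      simp [Matrix.mul_fin_two] <;> first | ring1 | linear_combination hab | linear_combination -hab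
  have hA1 : A ≠ 1 := fun e => by
    have h1 : inn W' = inn 1 := by rw [map_one, hinn, ← hA, e, map_one]
    obtain ⟨c, hc⟩ := inn_eq h1
    have := congrFun (congrFun hc 0) 1
    simp [hW', coe_wy] at this
  have hB1 : B ≠ 1 := fun e => by
    have h1 : inn m = inn 1 := by rw [map_one, hinn, ← hB, e, map_one]
    obtain ⟨c, hc⟩ := inn_eq h1
    have h00 := congrFun (congrFun hc 0) 0
    have h01 := congrFun (congrFun hc 0) 1
    have h11 := congrFun (congrFun hc 1) 1
    simp [hm] at h00 h01 h11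
    have ha : a = 0 := by
      have : (2 : F) * a = 0 := by linear_combination h00 - h11
      exact (mul_eq_zero.1 this).resolve_left h2
    rw [ha, h01] at hab
    exact one_ne_zero (α := F) (by linear_combination hab)
  have hAB : A ≠ B := fun e => by
    have h1 : inn m = inn W' := by rw [hinn, hinn, ← hA, ← hB, e]
    obtain ⟨c, hc⟩ := inn_eq h1
    have h00 := congrFun (congrFun hc 0) 0
    have h01 := congrFun (congrFun hc 0) 1
    have h10 := congrFun (congrFun hc 1) 0
    simp [hm, hW', coe_wy] at h00 h01 h10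
    have hb : b = 0 := by
      have : (2 : F) * b = 0 := by linear_combination h01 + h10
      exact (mul_eq_zero.1 this).resolve_left h2
    rw [h00, hb] at hab
    exact one_ne_zero (α := F) (by linear_combination hab)
  have hcomm : Commute A B := by
    rw [commute_iff_eq, ← mul_inv_eq_one, mul_inv_rev, hA, hB, ← map_inv, ← map_inv, ← map_mul,
      ← map_mul, ← map_mul]
    refine hconv _ (hneg _ ?_)
    simp only [Matrix.SpecialLinearGroup.coe_mul, Matrix.SpecialLinearGroup.coe_inv, hW', coe_wy, hm,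
      Matrix.adjugate_fin_two_of]
    ext i j; fin_cases i <;> fin_cases j <;>
      simp [Matrix.mul_fin_two] <;> first | ring1 | linear_combination hab | linear_combination -hab
  have hfix : ∀ x : Matrix.SpecialLinearGroup (Fin 2) F,
      (x : Matrix (Fin 2) (Fin 2) F).map σ = (x : Matrix (Fin 2) (Fin 2) F) →
      semiAut (1 : GL (Fin 2) F) σ (CfsgLib.Linear.SmallSub.proj x) =
        CfsgLib.Linear.SmallSub.proj x := by
    intro x hx
    have h := comm_field_inn (σ := σ) hx
    rw [hinn] at h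
    set φ := semiAut (1 : GL (Fin 2) F) σ
    set X := CfsgLib.Linear.SmallSub.proj x
    have e : MulAut.conj (φ X) = MulAut.conj X :=
      calc MulAut.conj (φ X) = φ * MulAut.conj X * φ⁻¹ := MulEquiv.ext fun y => by simp [MulAut.mul_apply]
        _ = MulAut.conj X := by rw [h.eq, mul_inv_cancel_right]
    exact mul_inv_eq_one.1 (conj_injective (by rw [map_mul, map_inv, e, mul_inv_cancel]))
  set c := semiAut k (RingEquiv.refl F) with hc
  refine ⟨c A, c B, ⟨by rw [← map_mul, hA2, map_one], fun e => hA1 (c.injective (by rw [e, map_one]))⟩,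
    ⟨by rw [← map_mul, hB2, map_one], fun e => hB1 (c.injective (by rw [e, map_one]))⟩,
    fun e => hAB (c.injective e), hcomm.map c.toMonoidHom, ?_, ?_⟩
  · rw [hk]
    show c (semiAut (1 : GL (Fin 2) F) σ (c⁻¹ (c A))) = c A
    rw [MulAut.inv_apply_self, hfix W' (by ext i j; fin_cases i <;> fin_cases j <;> simp [hW', coe_wy])]
  · rw [hk]
    show c (semiAut (1 : GL (Fin 2) F) σ (c⁻¹ (c B))) = c B
    rw [MulAut.inv_apply_self,
      hfix m (by ext i j; fin_cases i <;> fin_cases j <;> simp [hm, haσ, hbσ])]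

/-- An element of `PGL(2, q)` fixing an involution is an involution or centralises the elements of odd
order commuting with it. -/
theorem fix_or_sq (hodd : Odd (Fintype.card F)) {β : MulAut (P2 F)}
    (hβ : β ∈ (innDiagHom 2 F).range) {z : P2 F} (hz1 : z ≠ 1) (hβz : β z = z) :
    β * β = 1 ∨ ∀ y : P2 F, Commute y z → Odd (orderOf y) → β y = y := by
  by_cases h : β * β = 1
  · exact Or.inl h
  right
  intro y hyz hy
  by_cases hy1 : y = 1
  · rw [hy1, map_one]
  have h2 := two_ne_zero' hodd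
  obtain ⟨g, rfl⟩ := hβ
  obtain ⟨Z, -, hZc⟩ := exists_rep z
  obtain ⟨Y, -, hYc⟩ := exists_rep y
  have hyy : innDiagHom 2 F (Matrix.SpecialLinearGroup.toGL Y) *
      innDiagHom 2 F (Matrix.SpecialLinearGroup.toGL Y) ≠ 1 := by
    rw [hYc, ← map_mul]
    exact fun e => hy1 (eq_one_of_sq (conj_injective e) hy)
  have hgZ := lift_commute h2 h (h := Matrix.SpecialLinearGroup.toGL Z)
    (by rw [hZc]; exact conj_comm hβz)
  have hYZ := lift_commute h2 hyy (h := Matrix.SpecialLinearGroup.toGL Z)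
    (by rw [hZc, hYc]; exact hyz.map MulAut.conj)
  set A := ((Matrix.SpecialLinearGroup.toGL Z : GL (Fin 2) F) : Matrix (Fin 2) (Fin 2) F) with hA
  have hAn : A 0 1 ≠ 0 ∨ A 1 0 ≠ 0 ∨ A 0 0 - A 1 1 ≠ 0 := by
    by_contra hcon
    push Not at hcon
    obtain ⟨a, b, c⟩ := hcon
    refine hz1 (conj_injective ?_)
    rw [← hZc, innDiagHom_apply]
    refine semiAut_scalar (c := A 0 0) ?_
    rw [← hA]
    ext i j; fin_cases i <;> fin_cases j <;> simp [a, b]
    linear_combination -c
  have hgy := matrix_comm hAn hgZ.symm hYZ.symm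
  have hcomm : Commute (innDiagHom 2 F g) (MulAut.conj y) := by
    rw [← hYc]
    exact Commute.map (Units.ext (by rw [Units.val_mul, Units.val_mul]; exact hgy)) _
  set β := innDiagHom 2 F g
  have e : MulAut.conj (β y) = MulAut.conj y :=
    calc MulAut.conj (β y) = β * MulAut.conj y * β⁻¹ := MulEquiv.ext fun x => by simp [MulAut.mul_apply]
      _ = MulAut.conj y := by rw [hcomm.eq, mul_inv_cancel_right]
  exact mul_inv_eq_one.1 (conj_injective (by rw [map_mul, map_inv, e, mul_inv_cancel]))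

end CfsgLib.GW.Eight.TorusPSL
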