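import Cfsg.Agent.GW.Eight.Invol
import Cfsg.Agent.GW.Eight.Fusion
import Cfsg.Agent.S0213

/-!
# A subgroup over `C(z)` with fusion in the first four group only: the order formula

`M` contains `C(z)`, moves `z` to `t` and never to `s * t`.  Thompson's order formula for the two
classes of involutions of `M` expresses `|M|` through the fixed points of the reflections.
-/

set_option autoImplicit false
set_option linter.style.haveILetI false
set_option linter.unusedSectionVars false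

namespace CfsgLib.GW.Eight

open Subgroup CfsgLib.DihPrincipal CfsgLib.GW
open CfsgLib.NormCyclic (Inv)
open CfsgLib.DGroup (coreIn odd_orderOf eq_one_of_sq)

universe u

variable {G : Type u} [Group G] [Fintype G] [Fact (Nat.Prime 2)]

/-- `M` contains `C(z)`, moves `z` to `t` and never to `s * t`. -/
structure OneFused (C : Ctx G) (M : Subgroup G) : Prop where
  le : C.H ≤ M
  fus : ∃ m ∈ M, m * C.z * m⁻¹ = C.t
  nfus : ∀ m ∈ M, m * C.z * m⁻¹ ≠ C.s * C.t

/-- A subgroup over `C(z)` fused in `⟨z, t⟩` moves `z` to `t`. -/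
theorem Ctx.exists_move (C : Ctx G) {M : Subgroup G} (hle : C.H ≤ M) (hf : Fused M C.z C.t) :
    ∃ m ∈ M, m * C.z * m⁻¹ = C.t :=
  hf.2.2.1

theorem Ctx.oneFused (C : Ctx G) {M : Subgroup G} (hle : C.H ≤ M) (h1 : Fused M C.z C.t)
    (h2 : ¬ Fused M C.z (C.s * C.t)) : OneFused C M :=
  ⟨hle, C.exists_move hle h1, fun m hm h =>
    h2 (C.flip.fused_of_move (C.P_le_H.trans hle) hm h)⟩

namespace OneFused

variable {C : Ctx G} {M : Subgroup G} (hM : OneFused C M)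
include hM

theorem not_both {x k l : G} (hk : k ∈ M) (hl : l ∈ M) (h1 : k * C.z * k⁻¹ = x)
    (h2 : l * (C.s * C.t) * l⁻¹ = x) : False := by
  refine hM.nfus (l⁻¹ * k) (mul_mem (inv_mem hl) hk) ?_
  calc l⁻¹ * k * C.z * (l⁻¹ * k)⁻¹ = l⁻¹ * (k * C.z * k⁻¹) * l := by group
    _ = l⁻¹ * (l * (C.s * C.t) * l⁻¹) * l := by rw [h1, h2]
    _ = C.s * C.t := by group

/-- An involution of `C(z)` in terms of the classes of `M`. -/
theorem cases_H {x : G} (hx : x ∈ C.H) (hI : Inv x) :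
    ((x = C.z ∨ ∃ c ∈ C.H, c * C.t * c⁻¹ = x) ∧ ∃ k ∈ M, k * C.z * k⁻¹ = x) ∨
      ((∃ c ∈ C.H, c * (C.s * C.t) * c⁻¹ = x) ∧ ∃ k ∈ M, k * (C.s * C.t) * k⁻¹ = x) := by
  rcases C.invol_cases hx hI with h | ⟨c, hc, h⟩ | ⟨c, hc, h⟩
  · exact Or.inl ⟨Or.inl h, 1, one_mem _, by rw [h]; group⟩
  · obtain ⟨m, hm, hmt⟩ := hM.fus
    refine Or.inl ⟨Or.inr ⟨c, hc, h⟩, c * m, mul_mem (hM.le hc) hm, ?_⟩
    rw [← h, ← hmt]; group
  · exact Or.inr ⟨⟨c, hc, h⟩, c, hM.le hc, h⟩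

theorem P_le : (C.P : Subgroup G) ≤ M := C.P_le_H.trans hM.le

theorem exists_conj_P {Q : Subgroup G} (hQM : Q ≤ M) (hQ : IsPGroup 2 Q) :
    ∃ k ∈ M, ∀ x ∈ Q, k * x * k⁻¹ ∈ (C.P : Subgroup G) := by
  obtain ⟨R, hR⟩ := (hQ.comap_subtype (K := M)).exists_le_sylow
  obtain ⟨k, hk⟩ := MulAction.exists_smul_eq M R (C.P.subtype hM.P_le)
  refine ⟨k, k.2, fun x hx => ?_⟩
  have h1 : k * ⟨x, hQM hx⟩ * k⁻¹ ∈ ((C.P.subtype hM.P_le) : Subgroup M) := by
    rw [← hk]; exact ⟨⟨x, hQM hx⟩, hR hx, rfl⟩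
  exact h1

/-- Every involution of `M` is conjugate in `M` to `z` or to `s * t`. -/
theorem cases_M {x : G} (hx : x ∈ M) (hI : Inv x) :
    (∃ k ∈ M, k * C.z * k⁻¹ = x) ∨ ∃ k ∈ M, k * (C.s * C.t) * k⁻¹ = x := by
  obtain ⟨k, hk, hkx⟩ := hM.exists_conj_P (Q := zpowers x) (zpowers_le.2 hx)
    (IsPGroup.of_card (n := 1) (by rw [Nat.card_zpowers, hI.orderOf, pow_one]))
  have hy := hkx x (mem_zpowers x)
  rcases hM.cases_H (C.P_le_H hy) (hI.conj k) with ⟨-, l, hl, h⟩ | ⟨-, l, hl, h⟩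
  · exact Or.inl ⟨k⁻¹ * l, mul_mem (inv_mem hk) hl, by
      rw [show k⁻¹ * l * C.z * (k⁻¹ * l)⁻¹ = k⁻¹ * (l * C.z * l⁻¹) * k by group, h]; group⟩
  · exact Or.inr ⟨k⁻¹ * l, mul_mem (inv_mem hk) hl, by
      rw [show k⁻¹ * l * (C.s * C.t) * (k⁻¹ * l)⁻¹ = k⁻¹ * (l * (C.s * C.t) * l⁻¹) * k by group, h]
      group⟩

theorem V2_le : C.V2 ≤ M ⊓ centralizer ({C.s * C.t} : Set G) := (closure_le _).2 (by
  rintro x (rfl | rfl)
  · exact ⟨hM.le C.z_mem_H, mem_centralizer_singleton_iff.2 C.commute_z_st.eq⟩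
  · exact ⟨hM.le C.st_mem_H, mem_centralizer_singleton_iff.2 rfl⟩)

variable {g : G} (hg : g * C.z * g⁻¹ = C.s * C.t)
include hg

theorem norm_oc : M ⊓ centralizer ({C.s * C.t} : Set G) ≤
    normalizer ((M ⊓ C.oc g : Subgroup G) : Set G) := by
  have key : ∀ x ∈ M ⊓ centralizer ({C.s * C.t} : Set G), ∀ y ∈ M ⊓ C.oc g,
      x * y * x⁻¹ ∈ M ⊓ C.oc g := by
    rintro x ⟨hxM, hxC⟩ y ⟨hyM, hyO⟩
    have hxw : Commute x (C.s * C.t) := mem_centralizer_singleton_iff.1 hxC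
    obtain ⟨h1, h2⟩ := C.mem_oc.1 hyO
    refine ⟨mul_mem (mul_mem hxM hyM) (M.inv_mem hxM), C.mem_oc.2 ⟨?_, by
      rwa [CfsgLib.Invol.orderOf_conj_eq]⟩⟩
    rw [hg] at h1 ⊢
    have := (Commute.conj_iff x).2 h1
    rwa [hxw.eq, mul_inv_cancel_right] at this
  intro x hx
  refine mem_normalizer_iff.2 fun y => ⟨fun hy => key x hx y hy, fun hy => ?_⟩
  have := key x⁻¹ (inv_mem hx) _ hy
  simpa [mul_assoc] using this

/-- `C(s t)` meets `M` in an odd group extended by the second four group. -/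
theorem card_cent : Nat.card ↥(M ⊓ centralizer ({C.s * C.t} : Set G)) =
    4 * Nat.card ↥(M ⊓ C.oc g) := by
  set w := C.s * C.t with hw
  set B := M ⊓ centralizer ({w} : Set G) with hB
  set O := M ⊓ C.oc g with hO
  have hOB : O ≤ B := fun x hx => ⟨hx.1, mem_centralizer_singleton_iff.2 (by
    have := (C.mem_oc.1 hx.2).1; rw [hg] at this; exact this.eq)⟩
  have hOodd : Odd (Nat.card O) := (C.odd_oc g).of_dvd_nat (card_dvd_of_le inf_le_right)
  obtain ⟨k, hk⟩ : Nat.card O ∣ Nat.card B := card_dvd_of_le hOB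
  -- `k` divides `2 ^ n`
  have hkdvd : k ∣ 2 ^ C.n := by
    have hBn : B ≤ normalizer (C.oc g : Set G) := by
      intro x hx
      have hxw : Commute x w := mem_centralizer_singleton_iff.1 hx.2
      have key : ∀ x : G, Commute x w → ∀ y ∈ C.oc g, x * y * x⁻¹ ∈ C.oc g := fun x hxw y hy => by
        obtain ⟨h1, h2⟩ := C.mem_oc.1 hy
        refine C.mem_oc.2 ⟨?_, by rwa [CfsgLib.Invol.orderOf_conj_eq]⟩
        rw [hg] at h1 ⊢
        have := (Commute.conj_iff x).2 h1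
        rwa [hxw.eq, mul_inv_cancel_right] at this
      refine mem_normalizer_iff.2 fun y => ⟨key x hxw y, fun hy => ?_⟩
      have := key x⁻¹ hxw.inv_left _ hy
      simpa [mul_assoc] using this
    have e := CfsgLib.Solvable.card_sup_mul_card_inf hBn
    have hinf : B ⊓ C.oc g = O := le_antisymm (le_inf (inf_le_left.trans inf_le_left) inf_le_right)
      (le_inf hOB inf_le_right)
    have hle : B ⊔ C.oc g ≤ C.H.map (MulAut.conj g).toMonoidHom := by
      have hmem : ∀ x, Commute x w → x ∈ C.H.map (MulAut.conj g).toMonoidHom := fun x hx => by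
        refine ⟨g⁻¹ * x * g, C.mem_H.2 ?_, by show g * (g⁻¹ * x * g) * g⁻¹ = x; group⟩
        have := (Commute.conj_iff g⁻¹).2 hx
        rwa [← hg, inv_inv, show g⁻¹ * (g * C.z * g⁻¹) * g = C.z by group] at this
      refine sup_le (fun x hx => hmem x (mem_centralizer_singleton_iff.1 hx.2)) fun x hx => hmem x ?_
      have := (C.mem_oc.1 hx).1
      rwa [hg] at this
    have hd := card_dvd_of_le hle
    rw [hinf, C.card_oc, hk] at e
    rw [card_map_of_injective (f := (MulAut.conj g).toMonoidHom) (MulAut.conj g).injective,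
      C.card_H] at hd
    have hsup : Nat.card ↥(B ⊔ C.oc g) = k * Nat.card C.U :=
      Nat.eq_of_mul_eq_mul_right (Nat.card_pos (α := O)) (by rw [e]; ring)
    rw [hsup, mul_comm (Nat.card C.U)] at hd
    exact Nat.dvd_of_mul_dvd_mul_right Nat.card_pos hd
  obtain ⟨j, -, rfl⟩ := (Nat.dvd_prime_pow Nat.prime_two).1 hkdvd
  -- a 2-subgroup of `B` has order at most four
  have hle4 : 2 ^ j ≤ 4 := by
    obtain ⟨Q₀, hQ₀⟩ := Sylow.exists_subgroup_card_pow_prime 2 (G := B) (n := j)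
      ⟨Nat.card O, by rw [hk]; ring⟩
    set Q := Q₀.map B.subtype with hQdef
    have hQ : Nat.card Q = 2 ^ j := (card_map_of_injective (subtype_injective _)).trans hQ₀
    have hQB : Q ≤ B := map_subtype_le _
    have hwB : w ∈ B := ⟨hM.le C.st_mem_H, mem_centralizer_singleton_iff.2 rfl⟩
    have hQw : Q ≤ normalizer ((zpowers w : Subgroup G) : Set G) := fun x hx =>
      centralizer_le_normalizer _ (by
        rw [centralizer_zpowers_eq]; exact (hQB hx).2)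
    have hQ' : IsPGroup 2 ↥(Q ⊔ zpowers w : Subgroup G) :=
      (IsPGroup.of_card hQ).to_sup_of_normal_right'
        (IsPGroup.of_card (n := 1) (by rw [Nat.card_zpowers, C.inv_st.orderOf, pow_one])) hQw
    obtain ⟨l, hl, hlP⟩ := hM.exists_conj_P (sup_le (hQB.trans inf_le_left)
      (zpowers_le.2 hwB.1)) hQ'
    rcases hM.cases_H (C.P_le_H (hlP w (mem_sup_right (mem_zpowers w)))) (C.inv_st.conj l) with
      ⟨-, m, hm, h⟩ | ⟨⟨c, hc, h⟩, -⟩
    · exact (hM.not_both hm hl h rfl).elim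
    have hsub : Q.map (MulAut.conj (c⁻¹ * l)).toMonoidHom ≤
        C.H ⊓ centralizer ({w} : Set G) := by
      rintro _ ⟨x, hx, rfl⟩
      show c⁻¹ * l * x * (c⁻¹ * l)⁻¹ ∈ _
      refine ⟨?_, mem_centralizer_singleton_iff.2 ?_⟩
      · rw [show c⁻¹ * l * x * (c⁻¹ * l)⁻¹ = c⁻¹ * (l * x * l⁻¹) * c by group]
        exact mul_mem (mul_mem (C.H.inv_mem hc) (C.P_le_H (hlP x (mem_sup_left hx)))) hc
      · have h1 := (Commute.conj_iff (c⁻¹ * l)).2
          (mem_centralizer_singleton_iff.1 (hQB hx).2 : Commute x w)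
        rwa [show c⁻¹ * l * w * (c⁻¹ * l)⁻¹ = c⁻¹ * (l * w * l⁻¹) * c by group, ← h,
          show c⁻¹ * (c * (C.s * C.t) * c⁻¹) * c = w by rw [hw]; group] at h1
    have hd := card_dvd_of_le hsub
    rw [card_map_of_injective (f := (MulAut.conj (c⁻¹ * l)).toMonoidHom) (MulAut.conj _).injective,
      hQ, C.card_cent_st] at hd
    have hcop : Nat.Coprime (2 ^ j) (Nat.card C.D2) :=
      (Nat.coprime_two_left.2 (C.odd_U.of_dvd_nat (card_dvd_of_le inf_le_left))).pow_left j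
    exact Nat.le_of_dvd (by norm_num) (hcop.dvd_of_dvd_mul_right hd)
  have h4 : 4 ∣ Nat.card O * 2 ^ j := by
    rw [← hk]
    have := card_dvd_of_le hM.V2_le
    rwa [show C.V2 = C.flip.V1 from rfl, ← C.flip.four_zero,
      (C.flip.four.four_klein 0).card_four] at this
  have h4' : 4 ∣ 2 ^ j :=
    ((show Nat.Coprime 4 (Nat.card O) from
      (Nat.coprime_two_left.2 hOodd).pow_left 2)).dvd_of_dvd_mul_left h4
  rw [hk, le_antisymm hle4 (Nat.le_of_dvd (Nat.two_pow_pos j) h4'), mul_comm]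

/-- The involutions of `M` commuting with `s t`. -/
theorem cases_cent {x : G} (hx : x ∈ M) (hxw : Commute x (C.s * C.t)) (hI : Inv x) :
    ((∃ o ∈ M ⊓ C.oc g, o * C.z * o⁻¹ = x) ∧ ∃ k ∈ M, k * C.z * k⁻¹ = x) ∨
      ((x = C.s * C.t ∨ ∃ o ∈ M ⊓ C.oc g, o * (C.z * (C.s * C.t)) * o⁻¹ = x) ∧
        ∃ k ∈ M, k * (C.s * C.t) * k⁻¹ = x) := by
  set w := C.s * C.t with hw
  set B := M ⊓ centralizer ({w} : Set G) with hB
  set O := M ⊓ C.oc g with hO
  have hOodd : Odd (Nat.card O) := (C.odd_oc g).of_dvd_nat (card_dvd_of_le inf_le_right)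
  have hOB : O ≤ B := fun y hy => ⟨hy.1, mem_centralizer_singleton_iff.2 (by
    have := (C.mem_oc.1 hy.2).1; rw [hg] at this; exact this.eq)⟩
  have hVn : C.V2 ≤ normalizer (O : Set G) := hM.V2_le.trans (hM.norm_oc hg)
  have hinf : C.V2 ⊓ O = ⊥ := by
    refine (eq_bot_iff_forall _).2 fun y hy => eq_one_of_sq ?_ (odd_orderOf hOodd hy.2)
    have hy4 : y = 1 ∨ y = C.z ∨ y = w ∨ y = C.z * w := C.flip.mem_V1.1 hy.1
    rcases hy4 with e | e | e | e <;>
      rw [e]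
    exacts [one_mul 1, C.inv_z.1, C.inv_st.1, (C.flip.inv_zt).1]
  have hsup : C.V2 ⊔ O = B := eq_of_le_of_card_ge (sup_le hM.V2_le hOB) (le_of_eq (by
    rw [CfsgLib.Solvable.card_sup_of_disjoint hVn hinf, hM.card_cent hg,
      show C.V2 = C.flip.V1 from rfl, ← C.flip.four_zero, (C.flip.four.four_klein 0).card_four]))
  have hxB : x ∈ C.V2 ⊔ O := hsup ▸ ⟨hx, mem_centralizer_singleton_iff.2 hxw.eq⟩
  rw [← SetLike.mem_coe, coe_mul_of_left_le_normalizer_right C.V2 O hVn, Set.mem_mul] at hxB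
  obtain ⟨q, hq, o, ho, rfl⟩ := hxB
  have hsame : ∀ {v : G}, Inv v → v = q → ∃ k ∈ O, k * v * k⁻¹ = q * o := fun {v} hv e =>
    exists_conj_mem hOodd hv hI (by rw [e, ← mul_assoc, ← e, hv.1, one_mul]; exact ho)
  obtain ⟨p, hp, hpz, hpw⟩ := C.exists_zst
  have hq4 : q = 1 ∨ q = C.z ∨ q = w ∨ q = C.z * w := C.flip.mem_V1.1 hq
  rcases hq4 with e | e | e | e
  · rw [e, one_mul] at hI
    exact absurd (eq_one_of_sq hI.1 (odd_orderOf hOodd ho)) hI.2
  · obtain ⟨k, hk, hkx⟩ := hsame C.inv_z e.symm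
    exact Or.inl ⟨⟨k, hk, hkx⟩, k, hk.1, hkx⟩
  · have how : Commute o w := mem_centralizer_singleton_iff.1 (hOB ho).2
    have h2 : o * o = 1 := by
      have := hI.1
      rwa [e, how.mul_mul_mul_comm, C.inv_st.1, one_mul] at this
    rw [e, eq_one_of_sq h2 (odd_orderOf hOodd ho), mul_one]
    exact Or.inr ⟨Or.inl rfl, 1, one_mem _, by group⟩
  · obtain ⟨k, hk, hkx⟩ := hsame (v := C.z * w) C.flip.inv_zt e.symm
    refine Or.inr ⟨Or.inr ⟨k, hk, hkx⟩, k * p, mul_mem hk.1 (hM.P_le hp), ?_⟩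
    rw [← hkx, hw, ← hpw]; group

omit hM hg

theorem commute_of_mem_zpowers {u v j : G} (hu : Inv u) (hv : Inv v) (hj : Inv j)
    (h : j ∈ zpowers (u * v)) : Commute u j ∧ Commute v j := by
  obtain ⟨k, rfl⟩ := mem_zpowers_iff.1 h
  have h1 : u * (u * v) * u⁻¹ = (u * v)⁻¹ := by
    rw [mul_inv_rev, hu.inv_eq, hv.inv_eq, ← mul_assoc, hu.1, one_mul]
  have h2 : v * (u * v) * v⁻¹ = (u * v)⁻¹ := by
    rw [mul_inv_rev, hu.inv_eq, hv.inv_eq, mul_assoc, mul_assoc u, hv.1, mul_one]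
  refine ⟨mul_inv_eq_iff_eq_mul.1 ?_, mul_inv_eq_iff_eq_mul.1 ?_⟩
  · rw [← conj_zpow, h1, inv_zpow, hj.inv_eq]
  · rw [← conj_zpow, h2, inv_zpow, hj.inv_eq]

/-- `z` is a power of the product of reflections of the two classes. -/
theorem z_mem_zpowers {c d : G} (hc : c ∈ C.H) (hd : d ∈ C.H) :
    C.z ∈ zpowers (c * C.t * c⁻¹ * (d * (C.s * C.t) * d⁻¹)) := by
  set u := c * C.t * c⁻¹ with hu
  set v := d * (C.s * C.t) * d⁻¹ with hv
  have hPc := fun {x : G} (hx : x ∈ (C.P : Subgroup G)) => C.data.le_centralizer hx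
  have huH : u ∈ C.H := mul_mem (mul_mem hc C.t_mem_H) (inv_mem hc)
  have hvH : v ∈ C.H := mul_mem (mul_mem hd C.st_mem_H) (inv_mem hd)
  set x := u * v with hx
  have hxH : x ∈ C.H := mul_mem huH hvH
  obtain ⟨k, hk⟩ := conj_refl_zpow C.data 0 (C.data.proj_mem c)
  obtain ⟨l, hl⟩ := conj_refl_zpow C.data 1 (C.data.proj_mem d)
  rw [zpow_zero, one_mul] at hk
  rw [zpow_one] at hl
  have hpx : C.data.proj x = C.s ^ ((2 * k + 0) - (2 * l + 1)) := by
    rw [hx, C.data.proj_mul huH hvH, hu, hv, C.data.proj_conj hc C.t_mem_H,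
      C.data.proj_conj hd C.st_mem_H, C.data.proj_of_mem C.data.τ_mem,
      C.data.proj_of_mem (mul_mem C.data.σ_mem C.data.τ_mem), hk, hl,
      show C.s ^ (2 * k + 0) * C.t * (C.s ^ (2 * l + 1) * C.t) =
        C.s ^ (2 * k + 0) * (C.t * C.s ^ (2 * l + 1) * C.t⁻¹) * (C.t * C.t) by group,
      C.data.conj_τ (zpow_mem (mem_zpowers _) _), C.inv_t.1, mul_one, ← zpow_neg, ← zpow_add,
      sub_eq_add_neg]
  have hev : Even (orderOf x) := by
    rw [← Nat.not_odd_iff_even]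
    intro ho
    have h1 := C.data.proj_odd hxH (Nat.two_dvd_ne_zero.2 (Nat.odd_iff.1 ho))
    rw [hpx] at h1
    have := two_dvd_of_zpow_eq C.data (j := 0) (h1.trans (zpow_zero _).symm)
    omega
  set i := x ^ (orderOf x / 2) with hi
  have hiI : Inv i := Inv.of_orderOf (CfsgLib.Invol.orderOf_pow_half (isOfFinOrder_of_finite x) hev)
  have hiH : i ∈ C.H := pow_mem hxH _
  have hiz : i = C.z := by
    by_contra hne
    refine C.data.proj_refl (C.mem_refl hiH hiI hne) ?_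
    have hpow : ∀ e : ℕ, C.data.proj (x ^ e) = C.data.proj x ^ e := fun e => by
      induction e with
      | zero => rw [pow_zero, pow_zero, C.data.proj_of_mem (one_mem _)]
      | succ e ih => rw [pow_succ, pow_succ, C.data.proj_mul (pow_mem hxH e) hxH, ih]
    rw [hi, hpow, hpx]
    exact pow_mem (zpow_mem (mem_zpowers _) _) _
  rw [← hiz]
  exact pow_mem (mem_zpowers x) _

include hM hg

/-- Thompson's order formula in `M`. -/
theorem order_formula : ∃ A B K : ℕ,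
    A * Nat.card C.D1 = 2 ^ (C.n - 2) * Nat.card C.U ∧
    B * Nat.card C.D2 = 2 ^ (C.n - 2) * Nat.card C.U ∧
    K * Nat.card C.D2 = Nat.card ↥(M ⊓ C.oc g) ∧
    Nat.card M = 4 * Nat.card ↥(M ⊓ C.oc g) * (A * B) +
      4 * 2 ^ (C.n - 2) * Nat.card C.U * (K * K) := by
  set w := C.s * C.t with hw
  set O := M ⊓ C.oc g with hO
  have hOw : ∀ o ∈ O, Commute o w := fun o ho => hg ▸ (C.mem_oc.1 ho.2).1
  have hzw : Commute C.z w := C.commute_z_st
  have hDO : O ⊓ centralizer ({C.z} : Set G) = C.D2 := by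
    ext x
    rw [C.mem_D2, mem_inf, mem_centralizer_singleton_iff, C.mem_U, C.mem_H]
    constructor
    · rintro ⟨hx, hxz⟩
      exact ⟨⟨hxz, (C.mem_oc.1 hx.2).2⟩, hOw x hx⟩
    · rintro ⟨⟨hxz, hxo⟩, hxw⟩
      exact ⟨⟨hM.le (C.mem_H.2 hxz), C.mem_oc.2 ⟨hg.symm ▸ hxw, hxo⟩⟩, hxz.eq⟩
  have hDO' : O ⊓ centralizer ({C.z * w} : Set G) = C.D2 := by
    rw [← hDO]
    ext x
    simp only [mem_inf, mem_centralizer_singleton_iff]
    refine and_congr_right fun hx => ⟨fun h => ?_, fun h => ?_⟩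
    · have h' : Commute x (C.z * w * w) := (show Commute x (C.z * w) from h).mul_right (hOw x hx)
      rwa [mul_assoc, C.inv_st.1, mul_one] at h'
    · exact ((show Commute x C.z from h).mul_right (hOw x hx)).eq
  have eA := C.card_class_t
  have eB := C.card_class_st
  have eK := card_conjugates_mul O C.z
  have eK' := card_conjugates_mul O (C.z * w)
  rw [hDO] at eK
  rw [hDO'] at eK'
  have hKK : Nat.card {x : G // ∃ k ∈ O, k * (C.z * w) * k⁻¹ = x} =
      Nat.card {x : G // ∃ k ∈ O, k * C.z * k⁻¹ = x} :=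
    Nat.eq_of_mul_eq_mul_right Nat.card_pos (eK'.trans eK.symm)
  refine ⟨_, _, _, eA, eB, eK, ?_⟩
  -- the formula in `M`
  set Z : M := ⟨C.z, hM.le C.z_mem_H⟩
  set W : M := ⟨w, hM.le C.st_mem_H⟩
  have hZ : orderOf Z = 2 := by rw [← Subgroup.orderOf_coe]; exact C.inv_z.orderOf
  have hW : orderOf W = 2 := by rw [← Subgroup.orderOf_coe]; exact C.inv_st.orderOf
  have hiff : ∀ (a b : M), IsConj a b ↔ ∃ k ∈ M, k * (a : G) * k⁻¹ = b := fun a b => by
    rw [isConj_iff]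
    exact ⟨fun ⟨k, hk⟩ => ⟨k, k.2, congrArg Subtype.val hk⟩, fun ⟨k, hk, h⟩ => ⟨⟨k, hk⟩, Subtype.ext h⟩⟩
  have hmemz : ∀ a b : M, a ∈ zpowers b ↔ (a : G) ∈ zpowers (b : G) := fun a b => by
    simp only [mem_zpowers_iff, ← SetLike.coe_eq_coe, SubgroupClass.coe_zpow]
  have hnc : ¬ IsConj Z W := fun h => by
    obtain ⟨k, hk, e⟩ := (hiff Z W).1 h
    exact hM.nfus k hk e
  have hall : ∀ x : M, orderOf x = 2 → IsConj Z x ∨ IsConj W x := fun x hx => by
    rcases hM.cases_M x.2 (Inv.of_orderOf (by rwa [Subgroup.orderOf_coe])) with h | h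
    exacts [Or.inl ((hiff Z x).2 h), Or.inr ((hiff W x).2 h)]
  have hform := Cfsg.Agent.S0213.result Z W hZ hW hnc hall
  have hcent : ∀ X : M, Nat.card (centralizer ({X} : Set M)) =
      Nat.card ↥(M ⊓ centralizer ({(X : G)} : Set G)) := fun X => by
    rw [← card_subtype]
    congr 2
    ext y
    simp only [mem_map, mem_inf, mem_centralizer_singleton_iff, Subgroup.coe_subtype]
    exact ⟨fun ⟨y', h, e⟩ => e ▸ ⟨y'.2, congrArg Subtype.val h⟩,
      fun ⟨hy, h⟩ => ⟨⟨y, hy⟩, Subtype.ext h, rfl⟩⟩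
  have hCz : M ⊓ centralizer ({C.z} : Set G) = C.H := inf_eq_right.2 hM.le
  rw [hcent, hcent, show ((Z : M) : G) = C.z from rfl, show ((W : M) : G) = w from rfl,
    hM.card_cent hg, hCz, C.card_H, C.two_pow_n] at hform
  -- the pairs above `z`
  have hn1 : Nat.card {p : M × M // IsConj Z p.1 ∧ IsConj W p.2 ∧ Z ∈ zpowers (p.1 * p.2)} =
      Nat.card {x : G // ∃ k ∈ C.H, k * C.t * k⁻¹ = x} *
        Nat.card {x : G // ∃ k ∈ C.H, k * w * k⁻¹ = x} := by
    rw [← Nat.card_prod]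
    refine Nat.card_eq_of_bijective (fun p => (⟨p.1.1, ?_⟩, ⟨p.1.2, ?_⟩)) ⟨?_, ?_⟩
    rotate_left 2
    · intro p q h
      exact Subtype.ext (Prod.ext (Subtype.ext (congrArg (fun e => e.1.1) h))
        (Subtype.ext (congrArg (fun e => e.2.1) h)))
    · rintro ⟨⟨_, c, hc, rfl⟩, ⟨_, d, hd, rfl⟩⟩
      obtain ⟨m, hm, hmt⟩ := hM.fus
      refine ⟨⟨(⟨_, hM.le (mul_mem (mul_mem hc C.t_mem_H) (inv_mem hc))⟩,
        ⟨_, hM.le (mul_mem (mul_mem hd C.st_mem_H) (inv_mem hd))⟩), ?_, ?_, ?_⟩, rfl⟩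
      · exact (hiff _ _).2 ⟨c * m, mul_mem (hM.le hc) hm, by
          show c * m * C.z * (c * m)⁻¹ = c * C.t * c⁻¹
          rw [← hmt]; group⟩
      · exact (hiff _ _).2 ⟨d, hM.le hd, rfl⟩
      · exact (hmemz _ _).2 (z_mem_zpowers hc hd)
    all_goals
      obtain ⟨⟨u, v⟩, hu, hv, hp⟩ := p
      obtain ⟨ku, hku, heu⟩ := (hiff _ _).1 hu
      obtain ⟨kv, hkv, hev⟩ := (hiff _ _).1 hv
      replace heu : ku * C.z * ku⁻¹ = (u : G) := heu
      replace hev : kv * w * kv⁻¹ = (v : G) := hev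
      have hz' : C.z ∈ zpowers ((u : G) * v) := (hmemz _ _).1 hp
      have huI : Inv (u : G) := heu ▸ C.inv_z.conj ku
      have hvI : Inv (v : G) := hev ▸ C.inv_st.conj kv
      obtain ⟨huz, hvz⟩ := commute_of_mem_zpowers huI hvI C.inv_z hz'
    · rcases hM.cases_H (C.mem_H.2 huz) huI with ⟨h, -⟩ | ⟨-, l, hl, h⟩
      · refine h.resolve_left fun e => ?_
        rw [e] at hz' huz
        have hzv : Inv (C.z * (v : G)) := C.inv_z.mul hvI hvz.symm fun e' =>
          hM.not_both (one_mem M) hkv (by rw [one_mul, inv_one, mul_one]; exact e') hev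
        obtain ⟨i, hi⟩ := mem_zpowers_iff.1 hz'
        rcases Int.even_or_odd i with ⟨j, rfl⟩ | ⟨j, rfl⟩
        · rw [← two_mul, zpow_mul, zpow_two, hzv.1, one_zpow] at hi
          exact C.inv_z.2 hi.symm
        · rw [zpow_add, zpow_mul, zpow_two, hzv.1, one_zpow, one_mul, zpow_one] at hi
          exact hvI.2 (mul_eq_left.1 hi)
      · exact (hM.not_both hku hl heu h).elim
    · rcases hM.cases_H (C.mem_H.2 hvz) hvI with ⟨-, l, hl, h⟩ | ⟨h, -⟩
      · exact (hM.not_both hl hkv h hev).elim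
      · exact h
  -- the pairs above `s t`
  have hn2 : Nat.card {p : M × M // IsConj Z p.1 ∧ IsConj W p.2 ∧ W ∈ zpowers (p.1 * p.2)} =
      Nat.card {x : G // ∃ k ∈ O, k * C.z * k⁻¹ = x} *
        Nat.card {x : G // ∃ k ∈ O, k * (C.z * w) * k⁻¹ = x} := by
    rw [← Nat.card_prod]
    refine Nat.card_eq_of_bijective (fun p => (⟨p.1.1, ?_⟩, ⟨p.1.2, ?_⟩)) ⟨?_, ?_⟩
    rotate_left 2
    · intro p q h
      exact Subtype.ext (Prod.ext (Subtype.ext (congrArg (fun e => e.1.1) h))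
        (Subtype.ext (congrArg (fun e => e.2.1) h)))
    · rintro ⟨⟨_, c, hc, rfl⟩, ⟨_, d, hd, rfl⟩⟩
      obtain ⟨p, hp, hpz, hpw⟩ := C.exists_zst
      have hcM := mul_mem (mul_mem hc.1 (hM.le C.z_mem_H)) (M.inv_mem hc.1)
      have hdM := mul_mem (mul_mem hd.1 (hM.le (mul_mem C.z_mem_H C.st_mem_H))) (M.inv_mem hd.1)
      refine ⟨⟨(⟨_, hcM⟩, ⟨_, hdM⟩), (hiff _ _).2 ⟨c, hc.1, rfl⟩,
        (hiff _ _).2 ⟨d * p, mul_mem hd.1 (hM.P_le hp), ?_⟩, (hmemz _ _).2 ?_⟩, rfl⟩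
      · show d * p * w * (d * p)⁻¹ = d * (C.z * w) * d⁻¹
        rw [hw, ← hpw]; group
      · show w ∈ zpowers (c * C.z * c⁻¹ * (d * (C.z * w) * d⁻¹))
        set e := c * C.z * c⁻¹ * (d * C.z * d⁻¹) with he
        have hex : c * C.z * c⁻¹ * (d * (C.z * w) * d⁻¹) = e * w := by
          rw [he, show d * (C.z * w) * d⁻¹ = d * C.z * d⁻¹ * (d * w * d⁻¹) by group,
            (hOw d hd).eq, mul_inv_cancel_right, ← mul_assoc]
        have hzB : C.z ∈ normalizer (O : Set G) := hM.norm_oc hg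
          ⟨hM.le C.z_mem_H, mem_centralizer_singleton_iff.2 hzw.eq⟩
        have heO : e ∈ O := by
          rw [he, show c * C.z * c⁻¹ * (d * C.z * d⁻¹) = c * (C.z * (c⁻¹ * d) * C.z⁻¹) * (C.z * C.z) * d⁻¹
            by group, C.inv_z.1, mul_one]
          exact mul_mem (mul_mem hc ((mem_normalizer_iff.1 hzB _).1 (mul_mem (inv_mem hc) hd)))
            (inv_mem hd)
        rw [hex]
        have hoe : Odd (orderOf e) := (C.mem_oc.1 heO.2).2
        obtain ⟨j, hj⟩ := hoe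
        refine mem_zpowers_iff.2 ⟨(2 * j + 1 : ℕ), ?_⟩
        rw [zpow_natCast, (hOw e heO).mul_pow, ← hj, pow_orderOf_eq_one, one_mul, hj, pow_succ,
          pow_mul, sq, C.inv_st.1, one_pow, one_mul]
    all_goals
      obtain ⟨⟨u, v⟩, hu, hv, hp⟩ := p
      obtain ⟨ku, hku, heu⟩ := (hiff _ _).1 hu
      obtain ⟨kv, hkv, hev⟩ := (hiff _ _).1 hv
      replace heu : ku * C.z * ku⁻¹ = (u : G) := heu
      replace hev : kv * w * kv⁻¹ = (v : G) := hev
      have hz' : w ∈ zpowers ((u : G) * v) := (hmemz _ _).1 hp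
      have huI : Inv (u : G) := heu ▸ C.inv_z.conj ku
      have hvI : Inv (v : G) := hev ▸ C.inv_st.conj kv
      obtain ⟨huw, hvw⟩ := commute_of_mem_zpowers huI hvI C.inv_st hz'
    · rcases hM.cases_cent hg u.2 huw huI with ⟨h, -⟩ | ⟨-, l, hl, h⟩
      · exact h
      · exact (hM.not_both hku hl heu h).elim
    · rcases hM.cases_cent hg v.2 hvw hvI with ⟨-, l, hl, h⟩ | ⟨h, -⟩
      · exact (hM.not_both hl hkv h hev).elim
      · refine h.resolve_left fun e => ?_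
        rw [e] at hz'
        have huv : Inv ((u : G) * w) := huI.mul C.inv_st huw fun e' =>
          hM.not_both hku (one_mem M) heu (by rw [one_mul, inv_one, mul_one]; exact e'.symm)
        obtain ⟨i, hi⟩ := mem_zpowers_iff.1 hz'
        rcases Int.even_or_odd i with ⟨j, rfl⟩ | ⟨j, rfl⟩
        · rw [← two_mul, zpow_mul, zpow_two, huv.1, one_zpow] at hi
          exact C.inv_st.2 hi.symm
        · rw [zpow_add, zpow_mul, zpow_two, huv.1, one_zpow, one_mul, zpow_one] at hi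
          exact huI.2 (mul_eq_right.1 hi)
  rw [hn1, hn2, hKK] at hform
  rw [hform]
  ring

end OneFused

end CfsgLib.GW.Eight
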